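import Cfsg.Agent.OM.Lie.Defs
import Cfsg.Agent.OM.On.Step
import Cfsg.Agent.OM.On.Ty
import Cfsg.Agent.BZ.L.Fm

/-!
# OM / Lie: the main class is closed under Levi subgroups and lifts, `boxCq_of` (helper16)
-/

set_option autoImplicit false
set_option linter.unusedSectionVars false

namespace Cfsg.Agent.OM.Lie

open Cfsg Cfsg.Agent.DL Cfsg.Agent.DL.PP Matrix Cfsg.Agent.KZ.Lie Cfsg.Agent.HZ.Gen Cfsg.Agent.HZ.L Cfsg.Agent.OM.On
  Cfsg.Agent.Tits.Roots Cfsg.Agent.ChevalleyStructure.CoxeterGeom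

variable {p : ℕ} [Fact p.Prime] {k : Type} [Field k] [CharP k p] [IsAlgClosed k] {Y : Type} [Group Y] {N : Type}
  [Fintype N] [DecidableEq N] {ρ : Y →* GL N k} {F : MulAut Y} {G : Subgroup Y} {D : Datum p ρ F G}
  {j l : ℕ} {B : Mat D.R}

namespace CqA

/-- a cocharacter which is killed by a root is orthogonal to its coroot -/
theorem form [Fintype D.W] {a : D.I → ℤ} (ha : D.Rt a) (x : Vec D.R) :
    2 * ∑ u, (D.Wm u *ᵥ x) ⬝ᵥ (D.Wm u *ᵥ D.cor a) = (D.wt a ⬝ᵥ x) * ∑ u, (D.Wm u *ᵥ D.cor a) ⬝ᵥ (D.Wm u *ᵥ D.cor a) := by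
  have h1 := Equiv.sum_comp (Equiv.mulRight (D.rf a)) fun u => (D.Wm u *ᵥ x) ⬝ᵥ (D.Wm u *ᵥ D.cor a)
  simp only [Equiv.coe_mulRight, D.Wm_mul, ← mulVec_mulVec, ← rfm_eq ha, rfm_vec, X.rt_two (rt_mem ha), mulVec_sub,
    mulVec_smul, sub_dotProduct, dotProduct_sub, smul_dotProduct, dotProduct_smul, smul_eq_mul, Finset.sum_sub_distrib,
    ← Finset.mul_sum] at h1
  linarith

theorem form_ne [Fintype D.W] {a : D.I → ℤ} (ha : D.Rt a) : ∑ u, (D.Wm u *ᵥ D.cor a) ⬝ᵥ (D.Wm u *ᵥ D.cor a) ≠ 0 := fun e => by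
  have h1 := (Finset.sum_eq_zero_iff_of_nonneg fun u _ => Finset.sum_nonneg fun i _ => mul_self_nonneg _).1 e 1 (Finset.mem_univ _)
  have h2 := X.rt_two (rt_mem ha)
  rw [← dotProduct, D.Wm_one, one_mulVec, dotProduct_self_eq_zero] at h1
  simp [h1] at h2

theorem exists_coef (w : D.W) {v : Vec D.R} (hv : v ∈ X.Qv (rts D)) :
    ∃ γ : D.I → ℤ, v = ∑ i, γ i • D.cor (D.act w (sr i)) := by
  refine X.Qv.ind (P := fun v => ∃ γ : D.I → ℤ, v = ∑ i, γ i • D.cor (D.act w (sr i))) hv ⟨0, by simp⟩ ?_ ?_ ?_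
  · rintro _ ⟨_, ⟨u, i, rfl⟩, rfl⟩
    obtain ⟨β, h⟩ := TO.X.Cn.exists_cl D (D.cw i) (w⁻¹ * u)
    refine ⟨sr i + β, (D.cor_act_sr u i).trans ?_⟩
    rw [← TO.X.Cn.cl_sr, ← TO.X.Cn.cl_add] at h
    rw [← mul_inv_cancel_left w u, D.Wm_mul, ← mulVec_mulVec, ← TO.X.Cn.cl_sr, h, TO.X.Cn.cl, mulVec_sum]
    exact Finset.sum_congr rfl fun i _ => by rw [mulVec_smul, D.cor_act_sr]
  · rintro _ _ ⟨γ, rfl⟩ ⟨γ', rfl⟩
    exact ⟨γ + γ', by simp only [Pi.add_apply, add_smul, Finset.sum_add_distrib]⟩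
  · rintro m _ ⟨γ, rfl⟩
    exact ⟨m • γ, by simp only [Pi.smul_apply, smul_eq_mul, Finset.smul_sum, mul_smul]⟩

/-- **no torsion for Levi subsystems** -/
theorem sc_lev (hz : Cz p (rts D)) (hl : l ≠ 0) (h : SC l (rts D)) (lam : Vec D.R) : SC l (lev (rts D) lam) := fun v hv => by
  classical
  have := Fintype.ofFinite D.W
  obtain ⟨w, hw⟩ : ∃ w : D.W, ∀ i, 0 ≤ D.wt (D.act w (sr i)) ⬝ᵥ lam :=
    CF.exists_dominant D (AddMonoidHom.mk' (fun a => D.wt a ⬝ᵥ lam) fun a b => by rw [map_add, add_dotProduct])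
  obtain ⟨m, ϖ, hϖ⟩ := X.cz_cow hz
  obtain ⟨γ, rfl⟩ := exists_coef w (h v (X.Qv.mono (lev_sub _ lam) hv))
  have e2 : ∀ c, D.wt (D.act w c) = ∑ i, c i • D.wt (D.act w (sr i)) := fun c => by
    conv_lhs => rw [D.eq_sum_sr c, Datum.act, map_sum, map_sum]
    exact Finset.sum_congr rfl fun i _ => by rw [map_zsmul, map_zsmul]
  have e3 : ∀ c : D.I → ℤ, 0 ≤ c → D.wt (D.act w c) ⬝ᵥ lam = 0 → ∀ i, c i = 0 ∨ D.wt (D.act w (sr i)) ⬝ᵥ lam = 0 :=
    fun c hc h i => by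
      rw [e2, sum_dotProduct] at h
      simp only [smul_dotProduct, smul_eq_mul] at h
      exact mul_eq_zero.1 ((Finset.sum_eq_zero_iff_of_nonneg fun i _ => mul_nonneg (hc i) (hw i)).1 h i (Finset.mem_univ i))
  have e5 : ∀ b i, D.wt (D.act w b) ⬝ᵥ (D.Wm w *ᵥ ϖ i) = p ^ m * b i := fun b i => by rw [dotProduct_mulVec, D.wt_act, hϖ]
  refine sum_mem fun i _ => ?_
  have hi := (isRoot_sr D.cs D.h i).act w
  by_cases h0 : D.wt (D.act w (sr i)) ⬝ᵥ lam = 0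
  · exact Submodule.smul_mem _ _ (X.Qv.cor (a := (_, _)) ⟨rt_mem hi, h0⟩)
  have h1 := X.Qv.ind (P := fun y => ∑ u, (D.Wm u *ᵥ (D.Wm w *ᵥ ϖ i)) ⬝ᵥ (D.Wm u *ᵥ y) = 0) hv (by simp) (by
      rintro _ ⟨⟨a, ha, rfl⟩, h1⟩
      obtain ⟨b, rfl⟩ : ∃ b, a = D.act w b := ⟨D.act w⁻¹ a, (rep_apply_inv _ _ _ _).symm⟩
      have hb : D.Rt b := by
        have := ha.act w⁻¹
        rwa [rep_inv_apply] at this
      have e4 : b i = 0 := by
        rcases hb.pos_or_neg with h | h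
        · exact (e3 b h h1 i).resolve_right h0
        · exact neg_eq_zero.1 ((e3 (-b) (neg_nonneg.2 h) (by
            rw [Datum.act, map_neg, map_neg, neg_dotProduct, neg_eq_zero]; exact h1) i).resolve_right h0)
      have h2 := form ha (D.Wm w *ᵥ ϖ i)
      rw [e5, e4, mul_zero, zero_mul] at h2
      exact (mul_eq_zero.1 h2).resolve_left two_ne_zero)
    (fun x y a b => by simp only [mulVec_add, dotProduct_add, Finset.sum_add_distrib, a, b, add_zero])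
    fun m x a => by simp only [mulVec_smul, dotProduct_smul, ← Finset.smul_sum, a, smul_zero]
  simp only [mulVec_smul, mulVec_sum, dotProduct_smul, dotProduct_sum, ← Finset.smul_sum] at h1
  rw [smul_eq_zero, or_iff_right (Int.natCast_ne_zero.2 hl), Finset.sum_comm, Finset.sum_eq_single i (fun i' _ e => by
    have h2 := form ((isRoot_sr D.cs D.h i').act w) (D.Wm w *ᵥ ϖ i)
    rw [e5, sr_ne e.symm, mul_zero, zero_mul] at h2
    rw [← Finset.smul_sum, (mul_eq_zero.1 h2).resolve_left two_ne_zero, smul_zero]) (by simp), ← Finset.smul_sum, smul_eq_zero] at h1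
  have h2 := form hi (D.Wm w *ᵥ ϖ i)
  rw [e5, sr_self, mul_one] at h2
  rw [h1.resolve_right fun e => mul_ne_zero (pow_ne_zero m (Nat.cast_ne_zero.2 (Fact.out : p.Prime).ne_zero)) (form_ne hi)
    (by rw [← h2, e, mul_zero]), zero_smul]
  exact zero_mem _

theorem pre0 (h : Ty0 (rts D)) : Pre (rts D) := by
  rcases h with h | h | h | h
  exacts [fun lam _ => (boxTy D).ty h lam, (boxTy D).e8 h, (boxTy D).f4 h, (boxTy D).g2 h]

theorem ty0_lev (h : Ty0 (rts D)) (lam : Vec D.R) : Ty0 (lev (rts D) lam) :=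
  (em _).elim (fun e : lev (rts D) lam = rts D => e.symm ▸ h) fun e => .inl (pre0 h lam e)

theorem cs_of (h : St D j B) : ∃ n c, BZ.L.Cs D (p ^ j) n c := by
  obtain ⟨d, e, L⟩ := exists_lvl D
  exact ⟨d, Nat.card D.W + {a | D.Rt a}.ncard + Fintype.card D.R, .of_mat L.d_pos
    (fun w => ⟨_, by rw [h.WM, Nat.cast_pow], h.pow_eq L w⟩) (fun a ha => by rw [h.ex a ha]) (by omega) (by omega) (by omega)⟩

theorem lg_st (h : St D j B) : Lg fun m => ∀ hm : 0 < m, St (D.pow hm) (j * m) B := by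
  obtain ⟨f⟩ := nonempty_fr D
  exact (Lg.lvl f.L.d_pos).mono fun m ⟨i, e⟩ hm => Up.st_pow h f hm (e.trans (add_comm _ _))

theorem lg_dl (hl : l.Prime) (hp : l ≠ p) (j : ℕ) : Lg fun m => dl l (p ^ (j * m)) = dl l (p ^ j) := by
  have h1 : (p ^ j).Coprime (if l = 2 then 4 else l) := by
    have h2 := (Nat.coprime_primes (Fact.out : p.Prime) hl).2 hp.symm
    split_ifs with e
    · exact (e ▸ h2 : p.Coprime 2).pow j 2
    · exact h2.pow_left j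
  refine (Lg.lvl (Nat.totient_pos.2 (by split_ifs; exacts [four_pos, hl.pos] : 0 < if l = 2 then 4 else l))).mono fun m ⟨i, e⟩ => ?_
  have h2 := (ZMod.natCast_eq_natCast_iff _ _ _).2 (Nat.ModEq.pow_totient h1)
  rw [dl, dl, pow_mul, e, pow_add, pow_one, pow_mul, Nat.cast_mul, Nat.cast_pow _ i, h2, Nat.cast_one, one_pow, mul_one]

end CqA

open CqA in
/-- **the class is closed under Levi subgroups and lifts** -/
theorem boxCq_of (H : On.Bx p) (D : Datum p ρ F G) : BoxCq D where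
  sub _ _ _ h _ lam hq e := ⟨h.st.sub hq, cz_sub h.cz e, e ▸ sc_lev h.cz h.lp.ne_zero h.sc lam, e ▸ ty0_lev h.ty lam, h.lp, h.ne⟩
  pow j _ _ h := ((lg_st h.st).and (lg_dl h.lp h.ne j)).mono fun _ e hm => ⟨⟨e.1 hm, h.cz, h.sc, h.ty, h.lp, h.ne⟩, e.2⟩
  ons _ _ _ h := onS_of H h.st h.cz (pre0 h.ty)
  fm j _ l h hl hp := by
    obtain ⟨n, c, h1⟩ := cs_of h
    exact (BZ.L.boxFm p (p ^ j) _ l n c ⟨hl, hp, ⟨j, h.pos, rfl⟩, rfl⟩).mono fun _ e => e.2 D h1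

end Cfsg.Agent.OM.Lie
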