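import Cfsg.Agent.OM.Lie.Defs
import Cfsg.Agent.OM.On.Eng
import Cfsg.Agent.OM.Gl.Reg
import Cfsg.Agent.HZ.L.T3.Lev
import Cfsg.Agent.BZ.Lab.Iso
import Cfsg.Agent.H592.Transport

/-!
# OM / Lie (S4894): central defect and elliptic labels (helper23)

`boxEl`.
-/

set_option autoImplicit false
set_option linter.unusedSectionVars false
set_option maxHeartbeats 400000

namespace Cfsg.Agent.OM.Lie

open Cfsg Subgroup Cfsg.Agent.DL Cfsg.Agent.DL.PP Cfsg.Agent.DL.Uni Cfsg.Agent.DL.Asm Cfsg.Agent.Nodes.Reps Matrix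
  Cfsg.Agent.KZ.Lie Cfsg.Agent.HZ.Gen Cfsg.Agent.ODD.Red Cfsg.Agent.HZ.L Cfsg.Agent.OM.On Cfsg.Agent.Characters.Core
  Cfsg.Agent.Blocks

variable {p : ℕ} [Fact p.Prime] {k : Type} [Field k] [CharP k p] [IsAlgClosed k] {Y : Type} [Group Y] {N : Type}
  [Fintype N] [DecidableEq N] {ρ : Y →* GL N k} {F : MulAut Y} {G : Subgroup Y} {D : Datum p ρ F G}

namespace El23

variable {B : Mat D.R} {r : ℕ} {P : Subgroup ↥(GF F G)} {s : Sb D} {μ : ℂ}

/-- the centre of the finite group is central -/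
theorem cen_G (hq : D.QS) {z : GF F G} (hz : z ∈ center ↥(GF F G)) : ∀ y ∈ G, y * z = z * y := by
  obtain ⟨t, h1, h2⟩ := Gl.exists_al hq z.2.1 fun g hg => congrArg Subtype.val (mem_center_iff.1 hz ⟨g, hg⟩)
  rw [h2]
  exact Reg.central_of_al D h1

/-- a central `P` -/
theorem top_of_cen (hq : D.QS) (hs : s.For r P) (h : ∀ g, g ∈ centralizer (P : Set ↥(GF F G))) : rts s.E = rts D := by
  refine (T3.Lev.K_top s).1 fun y hy => ?_
  rw [hs.cen]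
  refine ⟨hy, ?_⟩
  rintro _ ⟨a, ha, rfl⟩
  exact (cen_G hq (mem_center_iff.2 fun g => (h g a ha).symm) y hy).symm

theorem pr_sub (h : Pr D B r μ) (s : Sb D) : Pr s.E (D.Wm s.w * B) r μ := fun u y hy => by
  obtain ⟨z, h1, h2⟩ := h (s.sw u * s.w) y (by rwa [D.Wm_mul, mul_assoc, ← s.Wm_eq])
  exact ⟨z, by rwa [s.WM_eq], fun a ha => h2 a (s.rts_sub ha)⟩

variable [Fintype ↥(GF F G)]

theorem el (hq : D.QS) (hu : Hu1 D r) (hP : Pr D B r μ) (f : Fr D) {χ : GF F G → ℂ} (hχ : IsIrrCharacter _ χ) (hr : RatR r χ)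
    (h : ∀ g x, IsPPart r g x → χ g ≠ 0 → x ∈ center ↥(GF F G)) {w : D.W} {c : Lbl D} (hc : Has f χ w c) :
    ¬ Eig (rts D) (D.Wm w * B) μ := by
  have := Fact.mk hu.prime
  rintro ⟨y, hy, a, ha, h1⟩
  obtain ⟨lam, h2⟩ := exists_pat y
  obtain ⟨P, s, u, hs, h3, rfl⟩ := exists_sb1 hq hu hP hy h2
  have := D.amb.finite_GF s.K
  have := Fintype.ofFinite ↥(GF F s.K)
  refine lev_ne.2 (fun e => h1 ((h2 a ha).1 (e a ha))) (h3.symm.trans (top_of_cen hq hs fun g => ?_))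
  obtain ⟨x, hx⟩ : ∃ x, s.rs r P χ x ≠ 0 := by
    by_contra h4
    refine hc ?_
    rw [← (Cf.boxChf D hq).adj f r P s hu.ne hs 1 χ (sm_irr hχ hr) hu.bd_one,
      show s.rs r P χ = 0 from funext fun x => not_not.1 fun e => h4 ⟨x, e⟩, classInner_zero_left]
  have h4 : s.ι x ∈ centralizer (P : Set ↥(GF F G)) := hs.range ▸ ⟨x, rfl⟩
  obtain ⟨b, hb, h5⟩ := hu.big_GF.exists_gn hs.grp (by have := two_mul_lt hu.bd_one; omega) h4
  obtain ⟨z, hz⟩ := PPart.exists_isPPart r (b * s.ι x)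
  refine h5 z hz (mem_centralizer_singleton_iff.2 (mem_center_iff.1 (h _ z hz fun e => hx ?_) g))
  exact (hu.big_GF.rs_eq hs.grp (sm_irr hχ hr) hu.bd_one h4 hb h5).trans e

variable [Fintype ↥(GF F s.K)] {l : ℕ} {M : Ideal AlgInt} {𝔅 : Set (IrrCharacter ↥(GF F G))} {lam : Vec D.R}
  {b : Set (IrrCharacter ↥(GF F s.K))}

theorem tp {j : ℕ} {S : Set ℂ} (T : Tp j B l S M 𝔅 r P s lam b) (f : Fr D) : ElB (s.fr f) (D.Wm s.w * B) S b :=
  fun ψ hψ u c hc μ hμ => by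
  have := Fact.mk T.hu.prime
  refine el T.fo.qs (T.hu.sub s) (pr_sub (T.rd.pr μ hμ) s) (s.fr f) ψ.2 (T.ratb ψ hψ) (fun g x hx h => ?_) hc
  refine mem_center_iff.2 fun y => s.ι_injective ?_
  rw [map_mul, map_mul]
  exact ((T.fo.range ▸ ⟨y, rfl⟩ : s.ι y ∈ centralizer (P : Set ↥(GF F G))) _
    (BZ.Lab.Is.van T.hu.big_GF T.fo.grp s.ι_injective T.fo.range (T.tight ψ hψ) hx h)).symm

theorem cen (hM : IsPModular l M) (T : Lv l M 𝔅 r P s lam b) (h : lev (rts D) lam = rts D) (hb : EqD b) : EqD 𝔅 := by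
  have := Fact.mk T.hu.prime
  have := Local.isPrime_of_isPModular hM
  have h1 : Function.Surjective s.ι := fun g => ⟨⟨g, (T3.Lev.K_top s).2 (T.rt.trans h) g.2.1, g.2.2⟩, rfl⟩
  let e := MulEquiv.ofBijective s.ι ⟨s.ι_injective, h1⟩
  obtain ⟨χ, hχ, ψ, hψ, h2⟩ := T.lnk
  have h3 : s.rs r P χ = H592.Transport.tr e χ := funext fun x =>
    T.hu.big_GF.rs_gn T.fo.grp (sm_irr χ.2 (T.rat χ hχ)) T.hu.bd_one fun _ _ g _ => T.fo.range ▸ h1 g
  have h4 : H592.Transport.tr e χ = ψ := Subtype.ext (eq_of_ne (H592.Transport.tr e χ).2 ψ.2 (h3 ▸ h2))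
  have h5 : ∀ ξ ∈ 𝔅, H592.Transport.tr e ξ ∈ b := fun ξ hξ => by
    rw [Basic.isPBlock_eq_blockOf T.hb hψ, Basic.mem_blockOf, ← h4, H592.Transport.sameBlock_tr, ← Basic.mem_blockOf,
      ← Basic.isPBlock_eq_blockOf T.hB hχ]
    exact hξ
  intro ξ hξ ξ' hξ'
  have h6 := hb _ (h5 ξ hξ) _ (h5 ξ' hξ')
  simpa only [charDegree, H592.Transport.tr_apply, map_one] using h6

end El23

variable (D) [Fintype ↥(GF F G)]

/-- **central defect and elliptic labels** -/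
theorem boxEl : BoxEl D where
  el _ _ _ hq hu hP f _ hχ hr h _ _ hc := El23.el hq hu hP f hχ hr h hc
  tp _ _ _ _ _ _ _ _ _ _ _ _ T f := El23.tp T f
  cen _ _ _ _ _ _ _ _ _ hM T h hb := El23.cen hM T h hb

end Cfsg.Agent.OM.Lie
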