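import Cfsg.Agent.OM.Lie.Defs
import Cfsg.Agent.OM.Au.Gr
import Cfsg.Agent.OM.On.Up

/-!
# OM / Lie, box `Kb`, the part on the Weyl group (helper10)

`al B x i` : the inverse of the leading coefficient on the types of rank `i`; `exists_g` : the rank one update for the types.
-/

set_option autoImplicit false
set_option linter.unusedSectionVars false

namespace Cfsg.Agent.OM.Lie.Kb

open Cfsg Cfsg.Agent.DL Cfsg.Agent.DL.PP Matrix Polynomial Cfsg.Agent.KZ.Lie Cfsg.Agent.HZ.L Cfsg.Agent.OM.On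
  Cfsg.Agent.OM.Au Cfsg.Agent.OM.Cas

section mat

variable {R : Type} [Fintype R] [DecidableEq R] {Ψ : RS R} {A V : Mat R} {y : R → ℂ} {μ : ℂ}

theorem cx_mul (A A' : Mat R) : cx (A * A') = cx A * cx A' := Matrix.map_mul (f := Int.castRingHom ℂ)

theorem cx_one : cx (1 : Mat R) = 1 := Matrix.map_one _ Int.cast_zero Int.cast_one

theorem cx_smul (t : ℤ) (A : Mat R) : cx (t • A) = (t : ℂ) • cx A := by
  ext i j
  simp only [cx, map_apply, Matrix.smul_apply, smul_eq_mul, Int.cast_mul]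

theorem cx_pow (A : Mat R) (n : ℕ) : cx (A ^ n) = cx A ^ n := map_pow (Int.castRingHom ℂ).mapMatrix A n

theorem dp_eval (A : Mat R) (x : ℂ) : (dp A).eval x = (x • cx A - 1).det := by
  rw [dp, eval_map, ← coe_eval₂RingHom, dz, RingHom.map_det]
  congr 1
  ext i j
  simp only [RingHom.mapMatrix_apply, map_apply, Matrix.sub_apply, Matrix.smul_apply, cx, one_apply, map_sub,
    coe_eval₂RingHom, eval₂_mul, eval₂_X, eval₂_C, smul_eq_mul, apply_ite (eval₂ (Int.castRingHom ℂ) x), eval₂_one, eval₂_zero]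
  rfl

/-- the Weyl group fixes the vectors which are killed by the roots -/
theorem fix (hV : V ∈ WW Ψ) (h : ∀ a ∈ Ψ, ev a.1 y = 0) : cx V *ᵥ y = y := by
  induction hV using Submonoid.closure_induction with
  | mem x hx =>
    obtain ⟨a, ha, rfl⟩ := hx
    have h1 : cx (rfm a) = 1 - vecMulVec (fun i => (a.2 i : ℂ)) fun i => (a.1 i : ℂ) := by
      ext i j
      by_cases e : i = j <;> simp [cx, rfm, e, one_apply, vecMulVec_apply]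
    rw [h1, sub_mulVec, one_mulVec, vecMulVec_mulVec, show _ ⬝ᵥ y = 0 from h a ha]
    simp
  | one => rw [cx_one, one_mulVec]
  | mul x z _ _ hx hz => rw [cx_mul, ← mulVec_mulVec, hz, hx]

theorem isE_iff {V' : Mat R} (hV : V ∈ WW Ψ) (hV' : V' * V = 1) (h : ∀ a ∈ Ψ, ev a.1 y = 0) : IsE (V * A) μ y ↔ IsE A μ y := by
  have h1 : ∀ z, cx V' *ᵥ cx V *ᵥ z = z := fun z => by rw [mulVec_mulVec, ← cx_mul, hV', cx_one, one_mulVec]
  change cx (V * A) *ᵥ y = μ • y ↔ cx A *ᵥ y = μ • y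
  rw [cx_mul, ← mulVec_mulVec]
  refine ⟨fun e => ?_, fun e => by rw [e, mulVec_smul, fix hV h]⟩
  rw [← h1 (cx A *ᵥ y), e, mulVec_smul]
  conv_lhs => rw [← fix hV h, h1]

end mat

variable {p : ℕ} [Fact p.Prime] {k : Type} [Field k] [CharP k p] [IsAlgClosed k] {Y : Type} [Group Y] {N : Type}
  [Fintype N] [DecidableEq N] {ρ : Y →* GL N k} {F : MulAut Y} {G : Subgroup Y} {D : Datum p ρ F G}
  {j : ℕ} {B : Mat D.R} {v w w' t : D.W} {c c' : Lbl D} {μ x₀ : ℂ}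

theorem dp_eq (h : StW D j B) (e : Cp D w w') : dp (D.Wm w * B) = dp (D.Wm w' * B) := by
  have h0 : (((p : ℤ) ^ j : ℤ) : ℂ) ≠ 0 := Int.cast_ne_zero.2 (pow_ne_zero _ (Nat.cast_ne_zero.2 (Fact.out : p.Prime).ne_zero))
  have key : ∀ w (x : ℂ), x • cx (D.Wm w * B) = (x / (((p : ℤ) ^ j : ℤ) : ℂ)) • cx (D.Wm w * D.Mx) := fun w x => by
    rw [h.WM, cx_smul, smul_smul, div_mul_cancel₀ _ h0]
  refine Polynomial.funext fun x => ?_
  have h1 := e.det (x / (((p : ℤ) ^ j : ℤ) : ℂ)) 1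
  rw [one_smul] at h1
  rw [dp_eval, dp_eval, key, key]
  exact h1

theorem cp_tc (h : Tc D v w w') : Cp D w w' := by
  have h1 : D.Wm w' * D.Mx * D.Wm v = D.Wm v * (D.Wm w * D.Mx) := by
    rw [mul_assoc, D.Mx_Wm, ← mul_assoc, ← D.Wm_mul, h, D.Wm_mul, mul_assoc]
  refine (cp_of_comm (fun e => ?_) h1).symm
  have h2 := congrArg det (D.Wm_mul v v⁻¹)
  rw [mul_inv_cancel, D.Wm_one, det_one, det_mul, e, zero_mul] at h2
  exact one_ne_zero h2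

variable (B) in
/-- the inverse of the leading coefficient on the types of rank `i` -/
noncomputable def al (x₀ : ℂ) (i : ℕ) (w : D.W) : ℂ := if rk (D.Wm w * B) x₀ = i then (ld (D.Wm w * B) x₀)⁻¹ else 0

theorem iv_al (h : StW D j B) (x₀ : ℂ) (i : ℕ) : Iv D (al B x₀ i) := fun w u e => by
  rw [al, al, ld, ld, rk, rk, dp_eq h e]

theorem rf_conj (h : Rel D v c c') (ht : t ∈ Rf D c) : v * t * v⁻¹ ∈ Rf D c' := by
  obtain ⟨a, ha, rfl, e⟩ := ht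
  exact ⟨_, ha.act v, D.rf_act' v ha, by rw [D.cor_act v ha, h, e]⟩

variable [Fintype D.W]

theorem cas_conj {a : D.W → ℂ} (ha : Iv D a) (h : Tc D v w w') (h' : Rel D v c c') : cas D c a w = cas D c' a w' := by
  classical
  refine Fintype.sum_equiv (MulAut.conj v).toEquiv _ _ fun t => if_congr ⟨rf_conj h', fun e => ?_⟩ (ha _ _ (cp_tc (v := v) ?_)) rfl
  · simpa [mul_assoc] using rf_conj h'.symm e
  · show v * t * v⁻¹ * w' * D.Fw v = v * (t * w)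
    rw [mul_assoc _ w', h]
    group

theorem cas_adj (c : Lbl D) (a y : D.W → ℂ) : ∑ w, a w * cas D c y w = ∑ w, cas D c a w * y w := by
  classical
  simp only [cas, Finset.mul_sum, Finset.sum_mul]
  rw [Finset.sum_comm, Finset.sum_comm (f := fun w t => (if t ∈ Rf D c then a (t * w) else 0) * y w)]
  refine Finset.sum_congr rfl fun t _ => ?_
  split_ifs with ht
  · obtain ⟨b, hb, rfl, -⟩ := ht
    refine Fintype.sum_equiv (Equiv.mulLeft (D.rf b)) _ _ fun w => ?_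
    rw [Equiv.coe_mulLeft, ← mul_assoc, D.rf_mul_self hb, one_mul]
  · simp

omit [Fintype D.W] in
/-- the finite group of matrices -/
theorem exists_gam (h : StW D j B) : ∃ Γ : Submonoid (Matrix D.R D.R ℂ), (Γ : Set (Matrix D.R D.R ℂ)).Finite ∧ (∀ A ∈ Γ, IsUnit A) ∧
    (∀ w, cx (D.Wm w) ∈ Γ) ∧ ∀ w, ∃ t : ℂ, t ≠ 0 ∧ t • cx (D.Wm w * B) ∈ Γ := by
  obtain ⟨d, e, L⟩ := exists_lvl D
  have p0 : ∀ i, (((p : ℤ) ^ i : ℤ) : ℂ) ≠ 0 := fun i =>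
    Int.cast_ne_zero.2 (pow_ne_zero _ (Nat.cast_ne_zero.2 (Fact.out : p.Prime).ne_zero))
  obtain ⟨l, hl⟩ := IsAlgClosed.exists_pow_nat_eq ((((p : ℤ) ^ e : ℤ) : ℂ)⁻¹) L.d_pos
  have l0 : l ≠ 0 := fun e => inv_ne_zero (p0 _) (by rw [← hl, e, zero_pow L.d_pos.ne'])
  obtain ⟨Z, hZ⟩ : ∃ Z, Z = l • cx D.Mx := ⟨_, rfl⟩
  have h1 : Z ^ d = 1 := by
    have h2 := L.pow 1
    rw [D.Wm_one, one_mul] at h2
    rw [hZ, _root_.smul_pow, ← cx_pow, h2, cx_smul, cx_one, smul_smul, hl, inv_mul_cancel₀ (p0 _), one_smul]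
  have h2 : ∀ i w, ∃ w', Z ^ i * cx (D.Wm w) = cx (D.Wm w') * Z ^ i := fun i => by
    induction i with
    | zero => exact fun w => ⟨w, by rw [pow_zero, one_mul, mul_one]⟩
    | succ i ih =>
      intro w
      obtain ⟨w', h3⟩ := ih (D.Fw w)
      have h4 : Z * cx (D.Wm w) = cx (D.Wm (D.Fw w)) * Z := by
        rw [hZ, smul_mul_assoc, mul_smul_comm, ← cx_mul, ← cx_mul, D.Mx_Wm]
      exact ⟨w', by rw [pow_succ, mul_assoc, h4, ← mul_assoc, h3, mul_assoc]⟩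
  refine ⟨⟨⟨{M | ∃ w i, M = cx (D.Wm w) * Z ^ i}, ?_⟩, 1, 0, by rw [D.Wm_one, cx_one, pow_zero, one_mul]⟩, ?_, ?_,
    fun w => ⟨w, 0, by rw [pow_zero, mul_one]⟩, fun w => ⟨l * (((p : ℤ) ^ j : ℤ) : ℂ), mul_ne_zero l0 (p0 _), w, 1, ?_⟩⟩
  · rintro _ _ ⟨w, i, rfl⟩ ⟨w', i', rfl⟩
    obtain ⟨u, h3⟩ := h2 i w'
    exact ⟨w * u, i + i', by rw [mul_assoc, ← mul_assoc (Z ^ i), h3, D.Wm_mul, cx_mul, pow_add, mul_assoc, mul_assoc]⟩
  · refine (Set.finite_range fun x : D.W × Fin d => cx (D.Wm x.1) * Z ^ (x.2 : ℕ)).subset ?_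
    rintro _ ⟨w, i, rfl⟩
    exact ⟨(w, ⟨i % d, Nat.mod_lt _ L.d_pos⟩), congrArg _ (pow_eq_pow_mod i h1).symm⟩
  · rintro _ ⟨w, i, rfl⟩
    refine (IsUnit.of_mul_eq_one (cx (D.Wm w⁻¹)) ?_).mul ((IsUnit.of_pow_eq_one h1 L.d_pos.ne').pow i)
    rw [← cx_mul, ← D.Wm_mul, mul_inv_cancel, D.Wm_one, cx_one]
  · rw [pow_one, hZ, mul_smul_comm, ← cx_mul, h.WM, cx_smul, smul_smul]

open Classical in
/-- **the sum of the reflections on the types with the eigenspace `E`** -/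
theorem exists_g (ul : BoxUL) (h : StW D j B) (hx : μ * x₀ = 1) (E : Set (D.R → ℂ)) {a : Vec D.R × Vec D.R}
    (ha : a ∈ HZ.L.X.Zc (rts D) c) (hE : ∃ y ∈ E, ev a.1 y ≠ 0) : ∃ (n : ℕ) (γ : ℂ), γ ≠ 0 ∧ ∀ w, Es (D.Wm w * B) μ = E →
      rk (D.Wm w * B) x₀ = n + 1 ∧ cas D c (al B x₀ n) w = γ * al B x₀ (n + 1) w := by
  by_cases h0 : ∃ w₀, Es (D.Wm w₀ * B) μ = E
  swap
  · exact ⟨0, 1, one_ne_zero, fun w e => (h0 ⟨w, e⟩).elim⟩
  obtain ⟨w₀, h0⟩ := h0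
  obtain ⟨Γ, g1, g2, g3, g4⟩ := exists_gam h
  obtain ⟨g, hg⟩ := ul (rts D) Γ g1 g2 (by
    rintro _ ⟨b, hb, rfl⟩
    exact ⟨HZ.L.Cr.Grp.wt_cor hb, rfm_eq hb ▸ g3 _⟩) μ x₀ hx
  have x0 : x₀ ≠ 0 := right_ne_zero_of_mul_eq_one hx
  obtain ⟨⟨b, hb, rfl⟩, hc⟩ := ha
  obtain ⟨n, hn⟩ : ∃ n, n + 1 = rk (D.Wm w₀ * B) x₀ := ⟨_, (((hg _ (g4 w₀)).2.2 _ (rt_mem hb)).2.1 (h0.symm ▸ hE)).2.1⟩
  have h1 : ∀ w, Es (D.Wm w * B) μ = E → rk (D.Wm w * B) x₀ = n + 1 := fun w e =>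
    ((hg _ (g4 w)).1 _ (g4 w₀) (e.trans h0.symm)).trans hn.symm
  have h2 : ∀ b, D.Rt b → ∃ z : ℝ, 0 ≤ z ∧ ((∃ y ∈ E, ev (D.wt b) y ≠ 0) → 0 < z) ∧ ∀ w, Es (D.Wm w * B) μ = E →
      al B x₀ n (D.rf b * w) = -x₀⁻¹ * z * al B x₀ (n + 1) w := fun b hb => by
    by_cases e : ∃ y ∈ E, ev (D.wt b) y ≠ 0
    · have h3 := (((hg _ (g4 w₀)).2.2 _ (rt_mem hb)).2.1 (h0.symm ▸ e)).1
      rw [h0] at h3
      refine ⟨(g (D.wt b, D.cor b) E)⁻¹, by positivity, fun _ => by positivity, fun w e' => ?_⟩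
      obtain ⟨-, h4, h5⟩ := ((hg _ (g4 w)).2.2 _ (rt_mem hb)).2.1 (e'.symm ▸ e)
      rw [rfm_eq hb, ← mul_assoc, ← D.Wm_mul] at h4 h5
      rw [al, al, if_pos (h1 w e'), if_pos (Nat.succ_injective (h4.trans (h1 w e'))), h5, e', mul_inv, mul_inv, inv_neg,
        Complex.ofReal_inv]
    · refine ⟨0, le_rfl, fun e' => (e e').elim, fun w e' => ?_⟩
      have h4 := ((hg _ (g4 w)).2.2 _ (rt_mem hb)).1 fun y hy => by_contra fun h5 => e ⟨y, e' ▸ hy, h5⟩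
      rw [rfm_eq hb, ← mul_assoc, ← D.Wm_mul, h1 w e'] at h4
      rw [al, if_neg (by omega), Complex.ofReal_zero, mul_zero, zero_mul]
  have h3 : ∀ t : D.W, ∃ z : ℝ, 0 ≤ z ∧ (t = D.rf b → 0 < z) ∧ ∀ w, Es (D.Wm w * B) μ = E →
      (if t ∈ Rf D c then al B x₀ n (t * w) else 0) = -x₀⁻¹ * z * al B x₀ (n + 1) w := fun t => by
    by_cases e : t = D.rf b
    · obtain ⟨z, k1, k2, k3⟩ := h2 b hb
      exact ⟨z, k1, fun _ => k2 hE, fun w e' => by rw [if_pos ⟨b, hb, e.symm, hc⟩, e, k3 w e']⟩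
    by_cases e' : t ∈ Rf D c
    · obtain ⟨b', hb', rfl, -⟩ := id e'
      obtain ⟨z, k1, -, k3⟩ := h2 b' hb'
      exact ⟨z, k1, fun k => (e k).elim, fun w k => by rw [if_pos e', k3 w k]⟩
    · exact ⟨0, le_rfl, fun k => (e k).elim, fun w _ => by rw [if_neg e', Complex.ofReal_zero, mul_zero, zero_mul]⟩
  choose z z1 z2 z3 using h3
  refine ⟨n, -x₀⁻¹ * (∑ t, z t : ℝ), mul_ne_zero (neg_ne_zero.2 (inv_ne_zero x0)) (Complex.ofReal_ne_zero.2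
    (Finset.sum_pos' (fun t _ => z1 t) ⟨_, Finset.mem_univ _, z2 _ rfl⟩).ne'), fun w e => ⟨h1 w e, ?_⟩⟩
  rw [cas, Finset.sum_congr rfl fun t _ => z3 t w e, Complex.ofReal_sum, Finset.mul_sum, Finset.sum_mul]

end Cfsg.Agent.OM.Lie.Kb
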