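import Cfsg.Agent.OM.Lie.Defs
import Cfsg.Agent.OM.On.Up

/-!
# OM / Lie (S4894): the roots which vanish on the eigenspace (`BoxLd.rt`; helper35)
-/

set_option autoImplicit false
set_option linter.unusedSectionVars false

namespace Cfsg.Agent.OM.Lie

open Cfsg Cfsg.Agent.DL Cfsg.Agent.DL.PP Cfsg.Agent.DL.Uni Cfsg.Agent.DL.Asm Cfsg.Agent.Nodes.Reps Matrix
  Cfsg.Agent.KZ.Lie Cfsg.Agent.HZ.Gen Cfsg.Agent.ODD.Red Cfsg.Agent.HZ.L Cfsg.Agent.OM.On Cfsg.Agent.OM.Au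

variable {p : ℕ} [Fact p.Prime] {k : Type} [Field k] [CharP k p] [IsAlgClosed k] {Y : Type} [Group Y] {N : Type}
  [Fintype N] [DecidableEq N] {ρ : Y →* GL N k} {F : MulAut Y} {G : Subgroup Y} (D : Datum p ρ F G)

namespace LdRt

theorem exists_coch {R : Type} {ζ : kˣ} {n : ℕ} (hn : 0 < n) (h : IsPrimitiveRoot ζ n) {c : R → kˣ} (hc : c ^ n = 1) :
    ∃ v, c = coch v ζ := by
  have : NeZero n := ⟨hn.ne'⟩
  choose v hv using fun i => h.eq_pow_of_mem_rootsOfUnity (ξ := c i) (congrFun hc i)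
  exact ⟨fun i => v i, funext fun i => by rw [coch_apply, zpow_natCast, (hv i).2]⟩

theorem sz_of_le {Z : Set Y} (hZ : Z ⊆ D.T) {b : D.I → ℤ} (hb : D.Rt b) (h : D.X b ≤ Subgroup.centralizer Z) :
    b ∈ D.Sz Z := ⟨hb, fun z hz => by
  have h1 := D.tor' hb (hZ hz) 1
  rw [h (D.x_mem hb 1) z hz, mul_inv_cancel_right, mul_one] at h1
  exact (D.x_inj b hb h1).symm⟩

/-- the roots of a connected centraliser -/
theorem sz_eq {Z Z' : Set Y} (hZ : Z ⊆ D.T) (hG : Z' ⊆ G) (h : D.cen Z = G ⊓ Subgroup.centralizer Z') :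
    Z' ⊆ D.T ∧ D.Sz Z = D.Sz Z' := by
  have h1 : Z' ⊆ D.T := fun x hx =>
    D.centralizer_T.le ⟨hG hx, fun t ht => ((h.le (D.T_le_cen Z ht)).2 x hx).symm⟩
  refine ⟨h1, Set.ext fun b => ⟨fun hb => sz_of_le D h1 hb.1 fun y hy => ?_, fun hb => sz_of_le D hZ hb.1 fun y hy => ?_⟩⟩
  · exact (h.le (D.S_le_cen Z (Nodes.BNOf.RGD.le_Sup hb hy))).2
  · exact D.cen_le_centralizer hZ (h.ge ⟨D.cen_le_G Z' (D.S_le_cen Z' (Nodes.BNOf.RGD.le_Sup hb hy)),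
      D.X_le_centralizer h1 hb hy⟩)

/-- coordinates of an `r`-element of the finite torus -/
theorem exists_vec {r e : ℕ} (hr : r.Prime) (hp : r ≠ p) {x : Y} (hT : x ∈ D.T) (hx : x ∈ GF F G) (he : x ^ r ^ e = 1) :
    ∃ z : Vec D.R, (∀ i, (r : ℤ) ^ e ∣ ((D.Mx - 1) *ᵥ z) i) ∧ ∀ b, D.χ b x = 1 ↔ (r : ℤ) ^ e ∣ D.wt b ⬝ᵥ z := by
  have : NeZero ((r ^ e : ℕ) : k) := ⟨fun h => hp ((Nat.prime_dvd_prime_iff_eq Fact.out hr).1
    ((Fact.out : p.Prime).dvd_of_dvd_pow ((CharP.cast_eq_zero_iff k p _).1 h))).symm⟩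
  have h0 := pow_pos hr.pos e
  obtain ⟨ζ₀, h1⟩ := HasEnoughRootsOfUnity.exists_primitiveRoot k (r ^ e)
  have hζ := h1.isUnit_unit h0.ne'
  generalize (h1.isUnit h0.ne').unit = ζ at hζ
  obtain ⟨c, rfl⟩ := (D.mem_T x).1 hT
  obtain ⟨z, rfl⟩ := exists_coch h0 hζ (c := c) (D.τ_inj (by rw [map_pow, he, map_one]))
  refine ⟨z, fun i => ?_, fun b => ?_⟩
  · have h2 := congrFun (D.τ_mem_GF.1 hx) i
    rw [mon_coch] at h2
    exact_mod_cast (hζ.zpow_eq_one_iff_dvd _).1 h2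
  · rw [Datum.χ_τ, chr_coch, Units.val_eq_one, hζ.zpow_eq_one_iff_dvd, Nat.cast_pow]
    rfl

theorem ww_mod {R : Type} [Fintype R] [DecidableEq R] {Ψ : RS R} {n : ℤ} {z : Vec R} (h : ∀ a ∈ Ψ, n ∣ a.1 ⬝ᵥ z)
    {A : Mat R} (hA : A ∈ WW Ψ) : ∃ u, A *ᵥ z = z + n • u := by
  induction hA using Submonoid.closure_induction with
  | mem x hx =>
    obtain ⟨a, ha, rfl⟩ := hx
    obtain ⟨c, hc⟩ := h a ha
    refine ⟨-(c • a.2), ?_⟩
    show (1 - vecMulVec a.2 a.1) *ᵥ z = _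
    rw [sub_mulVec, one_mulVec, vecMulVec_mulVec, hc]
    ext i
    simp only [Pi.sub_apply, Pi.add_apply, Pi.smul_apply, Pi.neg_apply, smul_eq_mul, MulOpposite.smul_eq_mul_unop,
      MulOpposite.unop_op]
    ring
  | one => exact ⟨0, by rw [one_mulVec, smul_zero, add_zero]⟩
  | mul x y _ _ hx hy =>
    obtain ⟨u, hu⟩ := hx
    obtain ⟨v, hv⟩ := hy
    exact ⟨u + x *ᵥ v, by rw [← mulVec_mulVec, hv, mulVec_add, hu, mulVec_smul, smul_add, add_assoc]⟩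

/-- averaging over the Weyl group -/
theorem exists_avg {n : ℤ} {z : Vec D.R} (h : ∀ a ∈ rts D, n ∣ a.1 ⬝ᵥ z) :
    ∃ z' u, Perp (rts D) z' ∧ z' = (Nat.card D.W : ℤ) • z + n • u := by
  have := Fintype.ofFinite D.W
  choose u hu using fun w : D.W => ww_mod h (Wm_mem w)
  refine ⟨∑ w, D.Wm w *ᵥ z, ∑ w, u w, ?_, ?_⟩
  · rintro _ ⟨b, hb, rfl⟩
    have h1 := D.wt_act (D.rf b) b
    rw [D.act_rf_self hb, map_neg, neg_vecMul] at h1
    have h2 := Equiv.sum_comp (Equiv.mulLeft (D.rf b)) fun w : D.W => D.wt b ⬝ᵥ D.Wm w *ᵥ z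
    have h3 : ∀ w, D.wt b ⬝ᵥ D.Wm (D.rf b * w) *ᵥ z = -(D.wt b ⬝ᵥ D.Wm w *ᵥ z) := fun w => by
      rw [D.Wm_mul, ← mulVec_mulVec, dotProduct_mulVec, neg_eq_iff_eq_neg.1 h1, neg_dotProduct]
    simp only [Equiv.coe_mulLeft, h3, Finset.sum_neg_distrib] at h2
    show D.wt b ⬝ᵥ _ = 0
    rw [dotProduct_sum]
    omega
  · simp only [hu]
    rw [Finset.sum_add_distrib, Finset.sum_const, Finset.card_univ, ← Nat.card_eq_fintype_card, natCast_zsmul,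
      Finset.smul_sum]

variable {D} in
/-- the central cocharacters are stable -/
theorem perp_stab {j : ℕ} {B : Mat D.R} (h : D.Mx = ((p : ℤ) ^ j) • B) {v : Vec D.R} (hv : Perp (rts D) v) :
    Perp (rts D) (B *ᵥ v) := by
  rintro _ ⟨b, hb, rfl⟩
  obtain ⟨a, ha, rfl⟩ := gw_surj (D := D) 1 hb
  have h1 := congrArg (· ⬝ᵥ v) (wt_gw (D := D) 1 ha)
  simp only [D.Wm_one, one_mul, h, vecMul_smul, smul_dotProduct, ← dotProduct_mulVec] at h1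
  rw [hv _ (rt_mem ha), smul_zero, smul_eq_mul] at h1
  exact (mul_eq_zero.1 h1).resolve_left (pow_ne_zero _ (Nat.cast_ne_zero.2 (Fact.out : p.Prime).ne_zero))

end LdRt

open LdRt

variable [Fintype ↥(GF F G)]

/-- **the roots which vanish on the eigenspace** -/
theorem ld_rt : ∀ j B S r P (s : Sb D) lam, Rd D j B S r → s.For r P → rts s.E = lev (rts D) lam → ∀ μ ∈ S,
    ∀ a ∈ rts D, a ∉ rts s.E → ∃ y, IsE (D.Wm s.w * B) μ y ∧ (∀ b ∈ rts s.E, ev b.1 y = 0) ∧ ev a.1 y ≠ 0 := by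
  rintro j B S r P s lam h hs - μ hμ _ ⟨a, ha, rfl⟩ hn
  have : Fact r.Prime := ⟨h.hu.prime⟩
  have hG : (P.map (GF F G).subtype : Set Y) ⊆ GF F G := by
    rintro _ ⟨x, -, rfl⟩
    exact x.2
  obtain ⟨h1, h2⟩ := sz_eq (D.conj s.hy s.hF) s.hZ (fun x hx => (hG hx).1) hs.cen
  have h3 : ¬ ∀ x ∈ (P.map (GF F G).subtype : Set Y), (D.conj s.hy s.hF).χ a x = 1 := fun e =>
    hn (s.mem_rts.2 ⟨a, h2.ge ⟨ha, e⟩, rfl⟩)
  push Not at h3
  obtain ⟨x, hx, h3⟩ := h3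
  obtain ⟨e, he⟩ := pow_of_mem hs.grp x hx
  obtain ⟨z, h4, h5⟩ := exists_vec (D.conj s.hy s.hF) h.hu.prime h.hu.ne (h1 hx) (hG hx) he
  obtain ⟨z', u, h6, h7⟩ := exists_avg s.E (n := (r : ℤ) ^ e) (z := z) fun b hb => by
    obtain ⟨c, hc, rfl⟩ := s.mem_rts.1 hb
    exact (h5 c).1 ((h2.le hc).2 x hx)
  obtain ⟨y, y1, y2, y3⟩ := h.bk μ hμ s.w e (Prod.fst '' rts s.E) (D.wt a) z'
    (fun v hv _ ⟨b, hb, e⟩ => e ▸ perp_stab (D := s.E) (h.st.WM s.w) (fun c hc => hv _ ⟨c, hc, rfl⟩) b hb)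
    (fun _ ⟨b, hb, e⟩ => e ▸ h6 b hb)
    (fun i => by
      rw [h7, mulVec_add, mulVec_smul, mulVec_smul]
      exact dvd_add ((h4 i).mul_left _) (dvd_mul_right _ _))
    (fun hd => h3 ((h5 a).2 (by
      rw [h7, dotProduct_add, dotProduct_smul, dotProduct_smul] at hd
      have h8 : IsCoprime ((r : ℤ) ^ e) (Nat.card s.E.W : ℤ) :=
        (Nat.isCoprime_iff_coprime.2 (h.hu.prime.coprime_iff_not_dvd.2 (h.hu.sub s).not_dvd)).pow_left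
      exact h8.dvd_of_dvd_mul_left ((dvd_add_left (dvd_mul_right _ _)).1 hd))))
  exact ⟨y, y1, fun b hb => y2 _ ⟨b, hb, rfl⟩, y3⟩

end Cfsg.Agent.OM.Lie
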