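import Mathlib

/-!
# OM / Lie: cyclotomic polynomials and integer matrices of finite order (helper39, task OM-Lie-DicBk)
-/

set_option autoImplicit false

namespace Cfsg.Agent.OM.Lie.Bk

open Matrix Polynomial Finset

theorem dvd_iff {r : ℕ} (t : ℤ) (n : ℕ) : (r : ℤ) ∣ t ^ n - 1 ↔ orderOf (t : ZMod r) ∣ n := by
  rw [← ZMod.intCast_zmod_eq_zero_iff_dvd, orderOf_dvd_iff_pow_eq_one, Int.cast_sub, Int.cast_pow, Int.cast_one, sub_eq_zero]

/-- the cofactor is a unit modulo `r` -/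
theorem not_dvd_cof {n r : ℕ} {t : ℤ} (hr : r.Prime) (hn : ¬ r ∣ n) (hd : orderOf (t : ZMod r) ∣ n) {U : ℤ[X]}
    (hU : (X : ℤ[X]) ^ n - 1 = cyclotomic (orderOf (t : ZMod r)) ℤ * U) : ¬ (r : ℤ) ∣ U.eval t := by
  have : Fact r.Prime := ⟨hr⟩
  have : NeZero ((orderOf (t : ZMod r) : ℕ) : ZMod r) :=
    ⟨fun h => hn (((ZMod.natCast_eq_zero_iff _ _).1 h).trans hd)⟩
  have e : ∀ P : ℤ[X], ((P.eval t : ℤ) : ZMod r) = (P.map (Int.castRingHom (ZMod r))).eval (t : ZMod r) := fun P => by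
    rw [eval_map]
    exact (eval₂_at_apply (Int.castRingHom (ZMod r)) t).symm
  have h1 : (r : ℤ) ∣ (cyclotomic (orderOf (t : ZMod r)) ℤ).eval t := by
    rw [← ZMod.intCast_zmod_eq_zero_iff_dvd, e, map_cyclotomic_int]
    exact isRoot_cyclotomic_iff.2 (IsPrimitiveRoot.orderOf _)
  intro h2
  have h3 := congrArg (fun P : ℤ[X] => (derivative P).eval t) hU
  simp only [derivative_sub, derivative_X_pow, derivative_one, sub_zero, derivative_mul, eval_add, eval_mul, eval_C, eval_pow,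
    eval_X] at h3
  have h4 : (r : ℤ) ∣ (n : ℤ) * t ^ (n - 1) := h3 ▸ dvd_add (h2.mul_left _) (h1.mul_right _)
  have hp := Nat.prime_iff_prime_int.1 hr
  rcases hp.dvd_or_dvd h4 with h5 | h5
  · exact hn (Int.natCast_dvd_natCast.1 h5)
  · have hn0 : n ≠ 0 := fun h => hn (h ▸ dvd_zero r)
    have h6 : (r : ℤ) ∣ t ^ n := (hp.dvd_of_dvd_pow h5).trans (dvd_pow_self t hn0)
    exact hp.not_dvd_one (by simpa using dvd_sub h6 ((dvd_iff t n).2 hd))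

theorem cyc_dvd {n d : ℕ} (hd : d ∣ n) : cyclotomic d ℤ ∣ (X : ℤ[X]) ^ n - 1 := by
  obtain ⟨c, rfl⟩ := hd
  refine (cyclotomic.dvd_X_pow_sub_one d ℤ).trans ?_
  simpa only [one_pow, ← pow_mul] using sub_dvd_pow_sub_pow ((X : ℤ[X]) ^ d) 1 c

theorem cyc_dvd_of_root {d : ℕ} (hd : 0 < d) {x : ℂ} (hx : IsPrimitiveRoot x d) {P : ℤ[X]} (h : aeval x P = 0) :
    cyclotomic d ℤ ∣ P := by
  rw [cyclotomic_eq_minpoly hx hd]
  exact minpoly.isIntegrallyClosed_dvd (hx.isIntegral hd) h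

/-- the numerical core of `back` -/
theorem core {n r e : ℕ} {t : ℤ} {ν : ℂ} (hr : r.Prime) (hn : ¬ r ∣ n) (hν : IsPrimitiveRoot ν (orderOf (t : ZMod r)))
    (hd : orderOf (t : ZMod r) ∣ n) (c : ℕ → ℤ) (h1 : ∀ k, (r : ℤ) ^ e ∣ t ^ k * c k - c 0)
    (h2 : ∀ k, (r : ℤ) ^ e ∣ (t ^ n - 1) * c k) (h3 : ∑ k ∈ range n, ν ^ k * c k = 0) : (r : ℤ) ^ e ∣ c 0 := by
  have hn0 : n ≠ 0 := fun h => hn (h ▸ dvd_zero r)
  have hd0 : 0 < orderOf (t : ZMod r) := Nat.pos_of_dvd_of_pos hd (Nat.pos_of_ne_zero hn0)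
  obtain ⟨U, hU⟩ := cyc_dvd hd
  obtain ⟨Q, hQ⟩ : cyclotomic (orderOf (t : ZMod r)) ℤ ∣ ∑ k ∈ range n, C (c k) * X ^ k := by
    refine cyc_dvd_of_root hd0 hν ?_
    rw [map_sum, ← h3]
    exact sum_congr rfl fun k _ => by simp [mul_comm]
  have h4 : C ((r : ℤ) ^ e) ∣ cyclotomic (orderOf (t : ZMod r)) ℤ * (C (t ^ n - 1) * Q) := by
    rw [mul_left_comm, ← hQ, mul_sum]
    refine dvd_sum fun k _ => ?_
    rw [← mul_assoc, ← C_mul]
    exact (_root_.map_dvd C (h2 k)).mul_right _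
  have h5 : (r : ℤ) ^ e ∣ (t ^ n - 1) * Q.eval t := by
    have h6 : ∀ P : ℤ[X], C ((r : ℤ) ^ e) ∣ P ↔ P.map (Int.castRingHom (ZMod (r ^ e))) = 0 := fun P => by
      rw [C_dvd_iff_dvd_coeff, Polynomial.ext_iff]
      refine forall_congr' fun i => ?_
      rw [coeff_map, coeff_zero, eq_intCast, ZMod.intCast_zmod_eq_zero_iff_dvd, Nat.cast_pow]
    rw [h6, Polynomial.map_mul, ((cyclotomic.monic _ ℤ).map _).mul_right_eq_zero_iff, ← h6] at h4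
    simpa using eval_dvd (x := t) h4
  have h7 : (r : ℤ) ^ e ∣ U.eval t * ∑ k ∈ range n, t ^ k * c k := by
    have h8 := congrArg (eval t) hQ
    have h9 := congrArg (eval t) hU
    simp only [eval_finsetSum, eval_mul, eval_C, eval_pow, eval_X, eval_sub, eval_one] at h8 h9
    rw [sum_congr rfl fun k _ => mul_comm (t ^ k) (c k), h8, ← mul_assoc, mul_comm (U.eval t), ← h9]
    exact h5
  have hp := Nat.prime_iff_prime_int.1 hr
  have h8 := ((hp.irreducible.coprime_iff_not_dvd.2 (not_dvd_cof hr hn hd hU)).pow_left (m := e)).dvd_of_dvd_mul_left h7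
  have h9 : (r : ℤ) ^ e ∣ n * c 0 := by
    have h10 : (n : ℤ) * c 0 = ∑ k ∈ range n, t ^ k * c k - ∑ k ∈ range n, (t ^ k * c k - c 0) := by
      rw [sum_sub_distrib, sub_sub_cancel, sum_const, card_range, nsmul_eq_mul]
    rw [h10]
    exact dvd_sub h8 (dvd_sum fun k _ => h1 k)
  exact ((hp.irreducible.coprime_iff_not_dvd.2 fun h => hn (Int.natCast_dvd_natCast.1 h)).pow_left (m := e)).dvd_of_dvd_mul_left h9

variable {R : Type} [Fintype R] [DecidableEq R]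

theorem back (A : Matrix R R ℤ) (n r e : ℕ) (t : ℤ) (μ : ℂ) (T : Set (R → ℤ)) (a z : R → ℤ)
    (hA : A ^ n = 1) (hr : r.Prime) (hn : ¬ r ∣ n) (hμ : IsPrimitiveRoot μ (orderOf (t : ZMod r)))
    (hT : ∀ v, (∀ b ∈ T, b ⬝ᵥ v = 0) → ∀ b ∈ T, b ⬝ᵥ (A *ᵥ v) = 0) (hz : ∀ b ∈ T, b ⬝ᵥ z = 0)
    (h : ∀ i, (r : ℤ) ^ e ∣ ((t • A - 1) *ᵥ z) i) (ha : ¬ (r : ℤ) ^ e ∣ a ⬝ᵥ z) :
    ∃ y : R → ℂ, A.map (Int.cast : ℤ → ℂ) *ᵥ y = μ • y ∧ (∀ b ∈ T, (fun i => (b i : ℂ)) ⬝ᵥ y = 0) ∧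
      (fun i => (a i : ℂ)) ⬝ᵥ y ≠ 0 := by
  choose w hw using h
  have h0 : t • (A *ᵥ z) = z + (r : ℤ) ^ e • w := by
    ext i
    have := hw i
    rw [sub_mulVec, smul_mulVec, one_mulVec, Pi.sub_apply] at this
    rw [Pi.add_apply, Pi.smul_apply ((r : ℤ) ^ e), smul_eq_mul, ← this, add_sub_cancel]
  have h1 : ∀ k, ∃ u, t ^ k • ((A ^ k) *ᵥ z) = z + (r : ℤ) ^ e • u := fun k => by
    induction k with
    | zero => exact ⟨0, by simp⟩
    | succ k ih =>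
      obtain ⟨u, hu⟩ := ih
      refine ⟨u + t ^ k • ((A ^ k) *ᵥ w), ?_⟩
      rw [pow_succ, pow_succ, ← mulVec_mulVec, mul_smul, ← mulVec_smul, h0, mulVec_add, smul_add, hu, mulVec_smul, smul_add,
        add_assoc, smul_comm]
  have h2 : ∀ k, (r : ℤ) ^ e ∣ t ^ k * (a ⬝ᵥ ((A ^ k) *ᵥ z)) - a ⬝ᵥ ((A ^ 0) *ᵥ z) := fun k => by
    obtain ⟨u, hu⟩ := h1 k
    rw [← smul_eq_mul, ← dotProduct_smul, hu, pow_zero, one_mulVec, dotProduct_add, add_sub_cancel_left, dotProduct_smul]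
    exact Dvd.intro _ rfl
  have h3 : ∀ k, (r : ℤ) ^ e ∣ (t ^ n - 1) * (a ⬝ᵥ ((A ^ k) *ᵥ z)) := fun k => by
    obtain ⟨u, hu⟩ := h1 n
    rw [hA, one_mulVec] at hu
    rw [← smul_eq_mul, ← dotProduct_smul, ← mulVec_smul, sub_smul, hu, one_smul, add_sub_cancel_left, mulVec_smul,
      dotProduct_smul]
    exact Dvd.intro _ rfl
  have hd : orderOf (t : ZMod r) ∣ n := by
    by_contra hd
    have h4 := h3 0
    rw [pow_zero, one_mulVec] at h4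
    exact ha ((((Nat.prime_iff_prime_int.1 hr).irreducible.coprime_iff_not_dvd.2 fun k =>
      hd ((dvd_iff t n).1 k)).pow_left (m := e)).dvd_of_dvd_mul_left h4)
  have hn0 : n ≠ 0 := fun h => hn (h ▸ dvd_zero r)
  have hμn : μ ^ n = 1 := (hμ.pow_eq_one_iff_dvd n).2 hd
  have hμ0 : μ ≠ 0 := fun h => by simp [h, hn0] at hμn
  let f : ℕ → R → ℂ := fun k => μ⁻¹ ^ k • fun i => ((((A ^ k) *ᵥ z) i : ℤ) : ℂ)
  have hf : ∀ (b : R → ℤ), (fun i => (b i : ℂ)) ⬝ᵥ ∑ k ∈ range n, f k =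
      ∑ k ∈ range n, μ⁻¹ ^ k * ((b ⬝ᵥ ((A ^ k) *ᵥ z) : ℤ) : ℂ) := fun b => by
    rw [dotProduct_sum]
    refine sum_congr rfl fun k _ => ?_
    rw [dotProduct_smul, smul_eq_mul]
    exact congrArg _ ((Int.castRingHom ℂ).map_dotProduct b _).symm
  refine ⟨∑ k ∈ range n, f k, ?_, fun b hb => ?_, fun h4 => ha ?_⟩
  · have h4 : ∀ k, A.map (Int.cast : ℤ → ℂ) *ᵥ f k = μ • f (k + 1) := fun k => by
      have h5 : A.map (Int.cast : ℤ → ℂ) *ᵥ (fun i => ((((A ^ k) *ᵥ z) i : ℤ) : ℂ)) =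
          fun i => ((((A ^ (k + 1)) *ᵥ z) i : ℤ) : ℂ) := by
        ext i
        rw [pow_succ', ← mulVec_mulVec]
        exact ((Int.castRingHom ℂ).map_mulVec A _ i).symm
      simp only [f]
      rw [mulVec_smul, h5, smul_smul, pow_succ' μ⁻¹, mul_inv_cancel_left₀ hμ0]
    have h5 : f n = f 0 := by simp only [f, inv_pow, hμn, hA, pow_zero]
    have h6 : ∑ k ∈ range n, f (k + 1) = ∑ k ∈ range n, f k := by
      have h7 := sum_range_succ' f n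
      rw [sum_range_succ, h5] at h7
      exact (add_right_cancel h7).symm
    rw [mulVec_sum, sum_congr rfl fun k _ => h4 k, ← smul_sum, h6]
  · have h4 : ∀ k, ∀ b ∈ T, b ⬝ᵥ ((A ^ k) *ᵥ z) = 0 := fun k => by
      induction k with
      | zero => simpa using hz
      | succ k ih =>
        rw [pow_succ', ← mulVec_mulVec]
        exact hT _ ih
    rw [hf]
    exact sum_eq_zero fun k _ => by rw [h4 k b hb, Int.cast_zero, mul_zero]
  · rw [hf] at h4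
    have h5 := core hr hn hμ.inv hd (fun k => a ⬝ᵥ ((A ^ k) *ᵥ z)) h2 h3 h4
    rwa [pow_zero, one_mulVec] at h5

theorem det_dvd (A : Matrix R R ℤ) {n : ℕ} (hA : A ^ n = 1) :
    (A.map (fun a => (X : ℤ[X]) * C a) - 1).det ∣ ((X : ℤ[X]) ^ n - 1) ^ Fintype.card R := by
  have h1 : A.map (fun a => (X : ℤ[X]) * C a) = (X : ℤ[X]) • (C : ℤ →+* ℤ[X]).mapMatrix A := by
    ext i j : 2
    rfl
  have h2 := mul_geom_sum (A.map (fun a => (X : ℤ[X]) * C a)) n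
  refine ⟨(∑ i ∈ range n, A.map (fun a => (X : ℤ[X]) * C a) ^ i).det, ?_⟩
  have h3 : (X : ℤ[X]) ^ n • (1 : Matrix R R ℤ[X]) - 1 = ((X : ℤ[X]) ^ n - 1) • (1 : Matrix R R ℤ[X]) := by
    rw [sub_smul, one_smul]
  rw [← det_mul, h2, h1, _root_.smul_pow, ← map_pow, hA, map_one, h3, det_smul, det_one, mul_one]

theorem ph {P : ℤ[X]} {n N r d : ℕ} {t : ℤ} {x : ℂ} (hP : P ∣ ((X : ℤ[X]) ^ n - 1) ^ N) (hr : r.Prime) (hn : ¬ r ∣ n)
    (hd : 0 < d) (ht : orderOf (t : ZMod r) = d) (hx : IsPrimitiveRoot x d) :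
    ∃ H : ℤ[X], P = cyclotomic d ℤ ^ (P.map (Int.castRingHom ℂ)).rootMultiplicity x * H ∧ ¬ (r : ℤ) ∣ H.eval t := by
  classical
  have hn0 : n ≠ 0 := fun h => hn (h ▸ dvd_zero r)
  have hP0 : P ≠ 0 := ne_zero_of_dvd_ne_zero (pow_ne_zero _ (X_pow_sub_C_ne_zero (Nat.pos_of_ne_zero hn0) 1)) hP
  have hI := cyclotomic.irreducible hd
  obtain ⟨k, H, h1, h2⟩ := WfDvdMonoid.max_power_factor hP0 hI
  have : NeZero ((d : ℕ) : ℂ) := ⟨Nat.cast_ne_zero.2 hd.ne'⟩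
  have h3 : (P.map (Int.castRingHom ℂ)).rootMultiplicity x = k := by
    have h4 : P.map (Int.castRingHom ℂ) ≠ 0 := (Polynomial.map_ne_zero_iff (RingHom.injective_int _)).2 hP0
    have h5 : x ∉ (H.map (Int.castRingHom ℂ)).roots := fun h => h1 (cyc_dvd_of_root hd hx (by
      have := isRoot_of_mem_roots h
      rwa [IsRoot.def, eval_map, ← algebraMap_int_eq, ← aeval_def] at this))
    rw [h2, Polynomial.map_mul, Polynomial.map_pow, map_cyclotomic_int] at h4 ⊢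
    rw [← count_roots, roots_mul h4, roots_pow, Multiset.count_add, Multiset.count_nsmul, Multiset.count_eq_zero_of_notMem h5,
      Multiset.count_eq_one_of_mem roots_cyclotomic_nodup
        ((mem_roots (cyclotomic_ne_zero d ℂ)).2 (isRoot_cyclotomic_iff.2 hx)), mul_one, add_zero]
  refine ⟨H, h3.symm ▸ h2, fun h => ?_⟩
  have h4 : H ∣ ((X : ℤ[X]) ^ n - 1) ^ N := (Dvd.intro_left _ h2.symm).trans hP
  have hp := Nat.prime_iff_prime_int.1 hr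
  subst ht
  by_cases h5 : orderOf (t : ZMod r) ∣ n
  · obtain ⟨U, hU⟩ := cyc_dvd h5
    rw [hU, mul_pow] at h4
    have h6 := eval_dvd (x := t) (((hI.isRelPrime_iff_not_dvd.2 h1).symm.pow_right (n := N)).dvd_of_dvd_mul_left h4)
    rw [eval_pow] at h6
    exact not_dvd_cof hr hn h5 hU (hp.dvd_of_dvd_pow (h.trans h6))
  · have h6 := eval_dvd (x := t) h4
    simp only [eval_pow, eval_sub, eval_X, eval_one] at h6
    exact h5 ((dvd_iff t n).1 (hp.dvd_of_dvd_pow (h.trans h6)))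

end Cfsg.Agent.OM.Lie.Bk
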