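import Cfsg.Agent.OM.Lie.Defs
import Cfsg.Agent.OM.Lie.DicBkA

/-!
# OM / Lie: the fields `back` and `ph` of `BoxDic` (helper39)
-/

set_option autoImplicit false

namespace Cfsg.Agent.OM.Lie

open Matrix Polynomial Cfsg.Agent.HZ.L

theorem dic_back : ∀ {R : Type} [Fintype R] [DecidableEq R] (A : Mat R) (n r e : ℕ) (t : ℤ) (μ : ℂ) (T : Set (Vec R)) (a z : Vec R),
    A ^ n = 1 → r.Prime → ¬ r ∣ n → IsPrimitiveRoot μ (orderOf (t : ZMod r)) →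
    (∀ v, (∀ b ∈ T, b ⬝ᵥ v = 0) → ∀ b ∈ T, b ⬝ᵥ (A *ᵥ v) = 0) →
    (∀ b ∈ T, b ⬝ᵥ z = 0) → (∀ i, (r : ℤ) ^ e ∣ ((t • A - 1) *ᵥ z) i) → ¬ (r : ℤ) ^ e ∣ a ⬝ᵥ z →
      ∃ y, IsE A μ y ∧ (∀ b ∈ T, ev b y = 0) ∧ ev a y ≠ 0 :=
  fun A n r e t μ T a z h1 h2 h3 h4 h5 h6 h7 h8 => Bk.back A n r e t μ T a z h1 h2 h3 h4 h5 h6 h7 h8

theorem dic_ph : ∀ {R : Type} [Fintype R] [DecidableEq R] (A : Mat R) (n r d : ℕ) (t : ℤ) (x₀ : ℂ), A ^ n = 1 → r.Prime →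
    ¬ r ∣ n → 0 < d → orderOf (t : ZMod r) = d → IsPrimitiveRoot x₀ d →
      ∃ H : ℤ[X], dz A = cyclotomic d ℤ ^ rk A x₀ * H ∧ ¬ (r : ℤ) ∣ H.eval t :=
  fun A _ _ _ _ _ h1 h2 h3 h4 h5 h6 => Bk.ph (Bk.det_dvd A h1) h2 h3 h4 h5 h6

end Cfsg.Agent.OM.Lie
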