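import Cfsg.Agent.OM.Lie.Defs
import Cfsg.Agent.HZ.L.Up.Pr

/-!
# OM / Lie : eigenvectors modulo all large primes (helper97)
-/

set_option autoImplicit false
set_option linter.unusedSectionVars false

namespace Cfsg.Agent.OM.Lie

open Cfsg Matrix Polynomial Cfsg.Agent.HZ.L Cfsg.Agent.HZ.L.Up

namespace DicPr

theorem root {ν : ℂ} {r : ℕ} (hr : r.Prime) {t : ℤ} (hν : IsPrimitiveRoot ν (orderOf (t : ZMod r)))
    (hd : 0 < orderOf (t : ZMod r)) (h : ℤ[X]) (e : aeval ν h = 0) : (r : ℤ) ∣ h.eval t := by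
  have := Fact.mk hr
  have h1 := minpoly.isIntegrallyClosed_dvd (hν.isIntegral hd) e
  rw [← cyclotomic_eq_minpoly hν hd] at h1
  refine Dvd.dvd.trans ?_ (eval_dvd h1)
  have h2 := eval_intCast_map (Int.castRingHom (ZMod r)) (cyclotomic (orderOf (t : ZMod r)) ℤ) t
  rw [map_cyclotomic] at h2
  exact (ZMod.intCast_zmod_eq_zero_iff_dvd _ _).1 (h2.symm.trans ((IsPrimitiveRoot.orderOf _).isRoot_cyclotomic hd))

theorem bound {ν : ℂ} (hν : IsAlgebraic ℤ ν) (U : Finset ℤ[X]) : ∃ C : ℕ, ∀ r : ℕ, C < r → ∀ t : ℤ,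
    (∀ h : ℤ[X], aeval ν h = 0 → (r : ℤ) ∣ h.eval t) → ∀ h ∈ U, (r : ℤ) ∣ h.eval t → aeval ν h = 0 := by
  have h4 : ∀ u : ℤ[X], aeval ν u ≠ 0 → ∃ q : ℤ[X], q.coeff 0 ≠ 0 ∧ aeval (aeval ν u) q = 0 := fun u hu =>
    IsAlgebraic.exists_nonzero_coeff_and_aeval_eq_zero
      ((Algebra.adjoin_le (S := Subalgebra.algebraicClosure ℤ ℂ) (Set.singleton_subset_iff.2 hν))
        (aeval_mem_adjoin_singleton ℤ ν)) (mem_nonZeroDivisors_of_ne_zero hu)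
  choose! q hq hq' using h4
  refine ⟨∑ u ∈ U, ((q u).coeff 0).natAbs, fun r h7 t h9 u hU h10 => by_contra fun hu => ?_⟩
  have h11 := h9 ((q u).comp u) (by rw [aeval_comp, hq' u hu])
  have h16 := sub_dvd_eval_sub (u.eval t) 0 (q u)
  rw [sub_zero] at h16
  rw [eval_comp] at h11
  have h13 := dvd_sub h11 (h10.trans h16)
  rw [sub_sub_cancel, ← coeff_zero_eq_eval_zero, Int.natCast_dvd] at h13
  have h14 := Nat.le_of_dvd (Int.natAbs_pos.2 (hq u hu)) h13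
  have h15 := Finset.single_le_sum (f := fun u => ((q u).coeff 0).natAbs) (fun _ _ => Nat.zero_le _) hU
  omega

variable {R : Type} [Fintype R] [DecidableEq R]

theorem one {ν : ℂ} (hν : IsAlgebraic ℤ ν) {ι : Type} [Finite ι] (A : ι → Mat R) (s : Finset (Vec R)) :
    ∃ C : ℕ, ∀ r : ℕ, C < r → ∀ t : ℤ, (∀ h : ℤ[X], aeval ν h = 0 → (r : ℤ) ∣ h.eval t) →
      ∀ w (y : R → ℂ), ν • (A w).map (Int.cast : ℤ → ℂ) *ᵥ y = y → ∃ z : Vec R,
        (∀ i, (r : ℤ) ∣ ((t • A w - 1) *ᵥ z) i) ∧ ∀ a ∈ s, ((r : ℤ) ∣ a ⬝ᵥ z ↔ ev a y = 0) := by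
  classical
  have := Fintype.ofFinite ι
  have h1 : ∀ (w : ι) (S : Finset (Vec R)), (∃ y : R → ℂ, ν • (A w).map (Int.cast : ℤ → ℂ) *ᵥ y = y ∧
      S = s.filter fun a => ev a y = 0) → ∃ Z : R → ℤ[X], (∀ a ∈ s, (aeval ν (pd a Z) = 0 ↔ a ∈ S)) ∧
        ∀ i, ν * aeval ν (pd (A w i) Z) = aeval ν (Z i) := by
    rintro w _ ⟨y, hy, rfl⟩
    obtain ⟨Z, h2, h3⟩ := exists_poly hν y s
    refine ⟨Z, fun a ha => (h2 a ha).trans (by simp [ha]), fun i => ?_⟩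
    have h4 := h3 (A w i) (Pi.single i 1) (by
      have h5 : ev (Pi.single i 1) y = y i := by simp [ev, dotProduct, Pi.single_apply]
      rw [h5]
      exact congrFun hy i)
    rw [h4]
    simp [pd, Pi.single_apply]
  choose! Z hZ hZ' using h1
  obtain ⟨C, hC⟩ := bound hν (((Finset.univ : Finset ι) ×ˢ s.powerset ×ˢ s).image fun x => pd x.2.2 (Z x.1 x.2.1))
  refine ⟨C, fun r h4 t h6 w y hy => ⟨fun i => (Z w (s.filter fun a => ev a y = 0) i).eval t, fun i => ?_, fun a ha => ?_⟩⟩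
  · have h8 := h6 (X * pd (A w i) (Z w (s.filter fun a => ev a y = 0)) - Z w (s.filter fun a => ev a y = 0) i) (by
      rw [map_sub, map_mul, aeval_X, hZ' w _ ⟨y, hy, rfl⟩, sub_self])
    rw [eval_sub, eval_mul, eval_X, eval_pd] at h8
    rw [sub_mulVec, smul_mulVec, one_mulVec]
    exact h8
  · have h8 := (hZ w _ ⟨y, hy, rfl⟩ a ha).trans (Finset.mem_filter.trans (and_iff_right ha))
    rw [← eval_pd, ← h8]
    exact ⟨hC r h4 t h6 _ (Finset.mem_image.2 ⟨(w, s.filter fun a => ev a y = 0, a), Finset.mem_product.2 ⟨Finset.mem_univ _,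
      Finset.mem_product.2 ⟨Finset.mem_powerset.2 (Finset.filter_subset _ _), ha⟩⟩, rfl⟩), h6 _⟩

theorem pow_eq {A : Mat R} {n : ℕ} (hA : A ^ n = 1) {μ : ℂ} {y : R → ℂ} (hy : IsE A μ y) (h0 : y ≠ 0) : μ ^ n = 1 := by
  have h1 : ∀ i : ℕ, (A ^ i).map (Int.cast : ℤ → ℂ) *ᵥ y = μ ^ i • y := fun i => by
    induction i with
    | zero => simp
    | succ i ih =>
      rw [pow_succ, show (A ^ i * A).map (Int.cast : ℤ → ℂ) = (A ^ i).map Int.cast * A.map Int.cast from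
        Matrix.map_mul (f := Int.castRingHom ℂ), ← mulVec_mulVec, show A.map (Int.cast : ℤ → ℂ) *ᵥ y = μ • y from hy,
        mulVec_smul, ih, smul_smul, pow_succ']
  have h2 := h1 n
  rw [hA, Matrix.map_one _ Int.cast_zero Int.cast_one, one_mulVec] at h2
  exact (smul_left_injective ℂ h0 (h2.symm.trans (one_smul ℂ y).symm) :)

end DicPr

/-- **eigenvectors modulo all large primes** -/
theorem dic_pr {R ι : Type} [Fintype R] [DecidableEq R] [Finite ι] (A : ι → Mat R) (s : Set (Vec R)) (n : ℕ) :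
    s.Finite → 0 < n → (∀ w, A w ^ n = 1) → ∃ C : ℕ, ∀ r : ℕ, r.Prime → C < r → ∀ (t : ℤ) (μ : ℂ),
      IsPrimitiveRoot μ (orderOf (t : ZMod r)) → ∀ w y, IsE (A w) μ y →
        ∃ z : Vec R, (∀ i, (r : ℤ) ∣ ((t • A w - 1) *ᵥ z) i) ∧ ∀ a ∈ s, ((r : ℤ) ∣ a ⬝ᵥ z ↔ ev a y = 0) := by
  intro hs hn hA
  classical
  choose! C hC using fun (ν : ℂ) (h : ν ^ n = 1) =>
    DicPr.one (alg (p := 1) (e := 0) hn (by rw [h, pow_zero, one_mul])) A hs.toFinset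
  refine ⟨∑ ν ∈ nthRootsFinset n (1 : ℂ), C ν, fun r hr h1 t μ hμ w y hy => ?_⟩
  by_cases h0 : y = 0
  · exact ⟨0, fun i => by simp, fun a _ => by simp [h0, ev]⟩
  have h2 := DicPr.pow_eq (hA w) hy h0
  have h3 : μ⁻¹ ^ n = 1 := by rw [inv_pow, h2, inv_one]
  have h4 : μ ≠ 0 := fun e => by simp [e, hn.ne'] at h2
  obtain ⟨z, h5, h6⟩ := hC μ⁻¹ h3 r ((Finset.single_le_sum (f := C) (fun _ _ => Nat.zero_le _)
    ((mem_nthRootsFinset hn 1).2 h3)).trans_lt h1) t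
    (DicPr.root hr hμ.inv (Nat.pos_of_dvd_of_pos (hμ.dvd_of_pow_eq_one n h2) hn)) w y
    (by rw [show (A w).map (Int.cast : ℤ → ℂ) *ᵥ y = μ • y from hy, smul_smul, inv_mul_cancel₀ h4, one_smul])
  exact ⟨z, h5, fun a ha => h6 a (hs.mem_toFinset.2 ha)⟩

example (h : BoxDic) : BoxDic := ⟨dic_pr, h.back, h.ph⟩

end Cfsg.Agent.OM.Lie
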