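import Cfsg.Agent.OM.Lie.Defs
import Cfsg.Agent.OM.On.Step

/-!
# OM / Lie: the induction (helper3)

`boxInd_of (H : Bx p) : BoxInd p`, `boxQ_of (I : BoxInd p) (H : Bq p) : AllD p BoxQ`.
-/

set_option autoImplicit false
set_option linter.unusedSectionVars false
set_option maxHeartbeats 400000

namespace Cfsg.Agent.OM.Lie

open Cfsg Cfsg.Agent.DL Cfsg.Agent.DL.PP Cfsg.Agent.DL.Uni Cfsg.Agent.DL.Asm Cfsg.Agent.Nodes.Reps Matrix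
  Cfsg.Agent.KZ.Lie Cfsg.Agent.HZ.Gen Cfsg.Agent.ODD.Red Cfsg.Agent.HZ.L Cfsg.Agent.OM.On Cfsg.Agent.OM.Au Cfsg.Agent.Characters.Core
open Cfsg.Agent.HZ.L.X (Isol Zc)

variable {p : ℕ} [Fact p.Prime] {k : Type} [Field k] [CharP k p] [IsAlgClosed k] {Y : Type} [Group Y] {N : Type}
  [Fintype N] [DecidableEq N] {ρ : Y →* GL N k} {F : MulAut Y} {G : Subgroup Y} {D : Datum p ρ F G}

namespace Mn

variable {c c' t : Lbl D} {lam : Vec D.R} {l r i : ℕ}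

theorem zc_cj {s : Sb D} (e : rts s.E = lev (rts D) lam) (h : Zc (rts D) c ⊆ rts s.E) (h' : Cj (rts s.E) c c') :
    Zc (rts D) c' ⊆ rts s.E := by
  obtain ⟨A, hA, ht⟩ := h'
  obtain ⟨v, rfl⟩ := mem_WW.1 (WW_mono s.rts_sub hA)
  rintro _ ⟨⟨b, hb, rfl⟩, h1⟩
  have h2 : D.Wm v *ᵥ D.cor (D.act v⁻¹ b) = D.cor b := by
    rw [D.cor_act v⁻¹ hb, mulVec_mulVec, ← D.Wm_mul, mul_inv_cancel, D.Wm_one, one_mulVec]
  have h3 := h ⟨rt_mem (hb.act v⁻¹), (ht _).symm.trans (h2 ▸ h1)⟩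
  have h4 : Perp (rts s.E) lam := fun a ha => (e ▸ ha : a ∈ lev (rts D) lam).2
  rw [e] at h3 ⊢
  refine ⟨rt_mem hb, ?_⟩
  have h5 := h3.2
  rwa [show (D.wt (D.act v⁻¹ b), D.cor (D.act v⁻¹ b)).1 = D.wt b ᵥ* D.Wm v from D.wt_act' v b, ← dotProduct_mulVec, h4.fix hA] at h5

theorem ord_cj (h : Cj (rts D) c c') : orderOf c' ∣ orderOf c := by
  obtain ⟨A, -, h⟩ := cj_symm h
  have h1 := h.pow (orderOf c)
  rw [pow_orderOf_eq_one] at h1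
  exact orderOf_dvd_of_pow_eq_one h1.eq_one

theorem zc_mul (hl : l.Prime) (hc : ¬ l ∣ orderOf c) (ht : t ^ l ^ i = 1) : Zc (rts D) (c * t) ⊆ Zc (rts D) c := fun a ha => by
  refine ⟨ha.1, orderOf_eq_one_iff.1 (Nat.dvd_one.1 ?_)⟩
  have h1 : chr a.2 c ^ orderOf c = 1 := by rw [← map_pow, pow_orderOf_eq_one, map_one]
  have h2 : chr a.2 c ^ l ^ i = 1 := by
    have h3 := congrArg (· ^ l ^ i) ha.2
    simpa only [map_mul, mul_pow, ← map_pow _ t, ht, map_one, mul_one, one_pow] using h3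
  rw [← (((Nat.Prime.coprime_iff_not_dvd hl).2 hc).pow_left i).gcd_eq_one]
  exact Nat.dvd_gcd (orderOf_dvd_of_pow_eq_one h2) (orderOf_dvd_of_pow_eq_one h1)

theorem not_dvd_mul (hl : l.Prime) (hr : r.Prime) (h : r ≠ l) (hc : ¬ r ∣ orderOf c) (ht : t ^ l ^ i = 1) :
    ¬ r ∣ orderOf (c * t) := fun e => by
  have h1 : (c * t) ^ (orderOf c * l ^ i) = 1 := by
    rw [mul_pow, pow_mul, pow_orderOf_eq_one, one_pow, one_mul, mul_comm, pow_mul, ht, one_pow]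
  rcases (Nat.Prime.dvd_mul hr).1 (e.trans (orderOf_dvd_of_pow_eq_one h1)) with h2 | h2
  · exact hc h2
  · exact h ((Nat.prime_dvd_prime_iff_eq hr hl).1 (hr.dvd_of_dvd_pow h2))

variable [Fintype ↥(GF F G)] {f : Fr D} {χ : ↥(GF F G) → ℂ} {w : D.W}

theorem lab (hq : D.QS) (hu : Hu1 D r) (hχ : IsIrrCharacter _ χ) (hr : RatR r χ) (h : Has f χ w c) : ¬ r ∣ orderOf c :=
  have := Fact.mk hu.prime
  (Cf.boxChf D hq).lab f r 1 χ (sm_irr hχ hr) (hu.lt (i := 1) (by rw [one_mul]; exact hu.card_le) (by norm_num)) χ hχ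
    (by rw [classInner_irr_self hχ]; exact one_ne_zero) w c h

variable {B : Mat D.R} {S : Set ℂ} {M : Ideal AlgInt} {𝔅 : Set (IrrCharacter ↥(GF F G))}

omit [Fintype ↥(GF F G)] in
theorem ell_sub {s : Sb D} {u : s.E.W} (h : Ell (rts D) (D.Wm (s.sw u * s.w) * B) S) : Ell (rts s.E) (s.E.Wm u * (D.Wm s.w * B)) S :=
  fun μ hμ ⟨y, hy, a, ha, e⟩ => h μ hμ ⟨y, by rwa [D.Wm_mul, mul_assoc, ← s.Wm_eq], a, s.rts_sub ha, e⟩

theorem Lf.has {m : ℕ} {hm : 0 < m} [Fintype ↥(GF (F ^ m) G)] {f' : Fr (D.pow hm)} {α : MulAut ↥(GF (F ^ m) G)} {n' N' : ℕ}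
    {e : IrrCharacter ↥(GF F G) → IrrCharacter ↥(GF (F ^ m) G)} (h : Lf f B l M 𝔅 hm f' α n' N' e) {χ : IrrCharacter ↥(GF F G)}
    (hχ : χ ∈ 𝔅) : Has f' (e χ : GF (F ^ m) G → ℂ) w c ↔ Has f (χ : GF F G → ℂ) w c := by
  obtain ⟨ε, h1, h2⟩ := h.mult χ hχ
  rw [Has, h2, Has]
  rcases h1 with rfl | rfl <;> simp

variable {C : Cls p}

/-- the step for a label which is not isolated -/
theorem step (H : Bx p) (hl : l.Prime) (hp : l ≠ p) (A : Ax D l S C B) (hM : IsPModular l M) (hB : IsPBlock M 𝔅) (hE : ElB f B S 𝔅)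
    (hR : Rb B l 𝔅) {χ : IrrCharacter ↥(GF F G)} (hχ : χ ∈ 𝔅) (hc : Has f (χ : GF F G → ℂ) w c) (h0 : ¬ l ∣ orderOf c)
    (hI : ¬ Isol (rts D) c)
    (ih : ∀ (s : Sb D) [Fintype ↥(GF F s.K)], C s.E (D.Wm s.w * B) → nr s.E < nr D → ∀ b : Set (IrrCharacter ↥(GF F s.K)),
      IsPBlock M b → ElB (s.fr f) (D.Wm s.w * B) S b → EqD b) : EqD 𝔅 := by
  obtain ⟨j, h⟩ := A.st
  obtain ⟨μ, y, lam, h4, h5, h6, h7, h8⟩ := h.exists_core hc.fx hI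
  obtain ⟨r, hu, hrl, hP, hr⟩ := hR w μ h5
  have := Fact.mk hu.prime
  obtain ⟨P, s, u, hs, h9, rfl⟩ := exists_sb1 h.qs hu hP h4 h6
  have := D.amb.finite_GF s.K
  have := Fintype.ofFinite ↥(GF F s.K)
  have := Blocks.Local.isPrime_of_isPModular hM
  obtain ⟨h1, h2⟩ := A.ons s lam hs.qs h9 h8
  have h7' : Zc (rts D) c ⊆ rts s.E := h9 ▸ h7
  obtain ⟨ε, η, hη, h10, h11⟩ := iso1 h.qs h1 h2 f hu hs χ.2 (hr χ hχ) hc (stab_sub A.cz hc.fo h7')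
  have hb := Blocks.Basic.isPBlock_blockOf (M := M) ⟨η, hη⟩
  have hm := Blocks.Basic.mem_blockOf_self (M := M) ⟨η, hη⟩
  have L : Lv l M 𝔅 r P s lam (blockOf M η) := ⟨hu, hrl, hs, h9, hB, hb, hr, χ, hχ, _, hm, fun e => by
    have h3 := h10.2 χ ((sm_irr χ.2 (hr χ hχ)).mono (Nat.one_le_pow _ _ (two_pos.trans_le (two_le_sz1 D))))
    rw [classInner_irr_self χ.2, e, mul_zero] at h3
    exact one_ne_zero h3⟩
  obtain ⟨u₀, c₀, h12⟩ := exists_has (f := s.fr f) hη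
  have h13 := ord_cj (D := D) (cj_sub (h11 u₀ c₀ h12))
  obtain ⟨k1, k2⟩ := H.tr D l M 𝔅 r P s lam _ h.qs A.cz h1 h2 hp hM L f fun ψ hψ u' c' e => by
    obtain ⟨v, c₁, t, i, e1, e2, rfl⟩ := H.bl s.E l M hs.qs h1 hp hM (s.fr f) _ hb _ hm ψ hψ u₀ c₀ u' c' h12 (fun e => h0 (e.trans h13)) e
    have e3 : Cj (rts s.E) c c₁ := (h11 u₀ c₀ h12).trans (cj_rel e1)
    have e4 := ord_cj (D := D) (cj_sub e3)
    exact ⟨(zc_mul (D := D) hl (fun e => h0 (e.trans e4)) e2).trans (zc_cj (D := D) h9 h7' e3),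
      not_dvd_mul (D := D) hl hu.prime hrl (fun e => lab h.qs hu χ.2 (hr χ hχ) hc (e.trans e4)) e2⟩
  refine k1 (ih s (A.sub s lam hs.qs h9) (s.nr_lt (h9 ▸ h8)) _ hb fun ψ hψ u' c' e => ?_)
  obtain ⟨χ', e1, e2⟩ := k2 ψ hψ u' c' e
  exact ell_sub (hE χ' e1 _ _ e2)

/-- **elliptic blocks** -/
theorem ell (H : Bx p) (hl : l.Prime) (hp : l ≠ p) (A : AllD p fun D => ∀ B, C D B → Ax D l S C B) (hM : IsPModular l M) (n : ℕ) :
    AllD p fun {_ _ _ _ _ _ _ _ _ _ F G} D _ => ∀ B, C D B → nr D < n → ∀ (f : Fr D) (𝔅 : Set (IrrCharacter ↥(GF F G))),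
      IsPBlock M 𝔅 → ElB f B S 𝔅 → EqD 𝔅 := by
  induction n with
  | zero => exact fun D _ _ _ h => absurd h (Nat.not_lt_zero _)
  | succ n ih =>
    intro k _ _ _ Y _ N _ _ ρ F G D _ B hC hn f 𝔅 hB hE
    have a := A D B hC
    by_cases hI : IsoB f l 𝔅
    · exact a.iso M hM f 𝔅 hB hE hI
    simp only [IsoB, not_forall] at hI
    obtain ⟨χ, hχ, w, c, hc, h0, hI⟩ := hI
    obtain ⟨j, h⟩ := a.st
    obtain ⟨m, ⟨hm, _, f', α, n', N', e, L⟩, h1⟩ := ((H.up D j B l h hl hp a.fm f M 𝔅 hM hB).and a.pow).ex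
    refine L.deg (step (D := D.pow hm) (f := f') (w := w) (c := c) H hl hp (A (D.pow hm) B (h1 hm)) hM L.blk ?_ L.rb ⟨χ, hχ, rfl⟩ ((Lf.has L hχ).2 hc) h0 hI
      fun s _ h2 h3 b => ih s.E _ h2 (h3.trans_le (Nat.lt_succ_iff.1 hn)) _ b)
    rintro _ ⟨χ', h2, rfl⟩ w' c' h3
    exact hE χ' h2 w' c' ((Lf.has L h2).1 h3)

end Mn

/-- **the induction** -/
theorem boxInd_of (H : Bx p) : BoxInd p := by
  intro l S C hl hp A k _ _ _ Y _ N _ _ ρ F G D _ B hC M hM f 𝔅 hB hQ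
  have a := A D B hC
  obtain ⟨j, h⟩ := a.st
  obtain ⟨m, ⟨⟨⟨hm, _, f', α, n', N', e, L⟩, h1⟩, h2⟩, h3⟩ :=
    ((((H.up D j B l h hl hp a.fm f M 𝔅 hM hB).and a.pow).and (a.top M hM)).and (H.tp D l M hM)).ex
  obtain ⟨j', r, h4, h5, h6⟩ := h2 hm
  obtain ⟨P, s, _, lam, b, T⟩ := h3 hm α n' N' _ j' B S r L.fm h4 h5 L.blk L.stb (h6 α n' N' _ L.fm)
  have a' := A (D.pow hm) B (h1 hm)
  have h7 : EqD b := Mn.ell H hl hp A hM (nr s.E + 1) s.E _ (a'.sub s lam T.fo.qs T.rt) (Nat.lt_succ_self _) (s.fr f') b T.hb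
    ((H.el (D.pow hm)).tp j' B l S M _ r P s lam b T f')
  refine L.deg ?_
  by_cases h8 : lev (rts D) lam = rts D
  · exact (H.el (D.pow hm)).cen l M _ r P s lam b hM T.toLv h8 h7
  obtain ⟨h9, h10⟩ := a'.ons s lam T.fo.qs T.rt h8
  exact (H.tr (D.pow hm) l M _ r P s lam b h4.st.qs a'.cz h9 h10 hp hM T.toLv f' fun ψ hψ u c hc =>
    ⟨H.kb (D.pow hm) j' B l S M _ r P s lam b h9 T f' (L.qq hQ) ψ hψ u c hc, Mn.lab T.fo.qs (T.hu.sub s) ψ.2 (T.ratb ψ hψ) hc⟩).1 h7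

theorem dl_pos {l j : ℕ} (hl : l.Prime) (hp : l ≠ p) : 0 < dl l (p ^ j) := by
  have h1 : (p ^ j).Coprime (if l = 2 then 4 else l) := by
    have h2 := (Nat.coprime_primes (Fact.out : p.Prime) hl).2 hp.symm
    refine Nat.Coprime.pow_left _ ?_
    split_ifs with h
    · exact (h ▸ h2).pow_right 2
    · exact h2
  have : NeZero (if l = 2 then 4 else l) := ⟨by split_ifs; exacts [four_ne_zero, hl.ne_zero]⟩
  rw [dl, ← ZMod.coe_unitOfCoprime _ h1, orderOf_units]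
  exact orderOf_pos _

/-- **the main class** -/
theorem boxQ_of (I : BoxInd p) (H : Bq p) : AllD p fun D => BoxQ D := by
  intro k _ _ _ Y _ N _ _ ρ F G D _ j₀ B₀ l h₀
  refine I l (Sd (dl l (p ^ j₀))) (fun D B => ∃ j, Cq D j B l ∧ dl l (p ^ j) = dl l (p ^ j₀)) h₀.lp h₀.ne ?_ D B₀ ⟨j₀, h₀, rfl⟩
  intro k _ _ _ Y _ N _ _ ρ F G D _ B ⟨j, h, e⟩
  rw [← e]
  refine ⟨⟨j, stW h.st⟩, h.cz, (H.cq D).ons j B l h, fun s lam h1 h2 => ⟨j, (H.cq D).sub j B l h s lam h1 h2, rfl⟩,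
    ((H.cq D).pow j B l h).mono fun m h1 hm => ⟨_, h1 hm⟩, (H.cq D).fm j B l h.st h.lp h.ne, fun M hM => ?_,
    fun M hM f 𝔅 hB hE hI => H.cen D l M h.st.qs h.cz h.ne hM f 𝔅 hB fun χ hχ => H.van D j B l h.st h.lp h.ne f χ χ.2 fun w hw => ?_⟩
  · refine ((H.rd D j B h.st _ (dl_pos (j := j) h.lp h.ne)).and (H.wk D j B l h.st h.lp h.ne M hM)).mono fun m ⟨h1, h2⟩ hm _ => ?_
    obtain ⟨⟨r, hr⟩, h3⟩ := h1 hm
    exact ⟨_, r, h3 r hr, hr.mr, h2 r hr⟩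
  · have := Fintype.ofFinite D.W
    obtain ⟨c, y, h1, h2, h3, χ', h4, h5⟩ := H.f D B l _ M h.st.qs h.ne hM f 𝔅 hB hE χ hχ w hw
    exact H.cu D j B l h c y h1 (hI χ' h4 w c h5 h1) h2 w h3

end Cfsg.Agent.OM.Lie
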