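import Cfsg.Agent.OM.Lie.Defs
import Cfsg.Agent.HZ.L.Bas
import Cfsg.Agent.BZ.Lab.Geo
import Cfsg.Agent.LV.One.Res

/-!
# OM / Lie : primes for every order (helper90)

`boxRd_of : BoxDic → BoxRd D`.
-/

set_option autoImplicit false
set_option linter.unusedSectionVars false

namespace Cfsg.Agent.OM.Lie

open Cfsg Cfsg.Agent.DL Cfsg.Agent.DL.PP Matrix Polynomial Cfsg.Agent.KZ.Lie Cfsg.Agent.HZ.Gen Cfsg.Agent.HZ.L Cfsg.Agent.OM.On

namespace RdA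

theorem exists_nr {p j d m : ℕ} (hp : p.Prime) (hj : 0 < j) (hd : 0 < d) (hm : 6 < m) : ∃ r, BZ.L.Nr (p ^ j) d r m := by
  obtain ⟨r, h1, h2, -, h3⟩ := BZ.Lab.exists_r hp (mul_pos hj hd) hm
  refine ⟨r, h1, h2, ?_⟩
  rw [Nat.cast_pow, orderOf_pow_of_dvd hj.ne' (h3 ▸ (dvd_mul_right j d).mul_right m), h3, mul_assoc,
    Nat.mul_div_cancel_left _ hj]

/-- the order of `q ^ m` -/
theorem ord {p j d r m : ℕ} (h : BZ.L.Nr (p ^ j) d r m) (hm : 0 < m) :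
    orderOf ((((p : ℤ) ^ (j * m) : ℤ)) : ZMod r) = d := by
  have h1 : ((((p : ℤ) ^ (j * m) : ℤ)) : ZMod r) = ((p ^ j : ℕ) : ZMod r) ^ m := by
    rw [Int.cast_pow, Int.cast_natCast, Nat.cast_pow, pow_mul]
  rw [h1, orderOf_pow_of_dvd hm.ne' (h.ord ▸ dvd_mul_left m d), h.ord, Nat.mul_div_cancel _ hm]

theorem ne {p j d r m : ℕ} (h : BZ.L.Nr (p ^ j) d r m) (hj : 0 < j) (hd : 0 < d) (hm : 0 < m) : r ≠ p := by
  rintro rfl
  have := Fact.mk h.rp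
  have h1 := h.ord
  rw [Nat.cast_pow, ZMod.natCast_self, zero_pow hj.ne', orderOf_zero] at h1
  exact (mul_pos hd hm).ne h1

theorem dvd_cyc {d r : ℕ} {t : ℤ} (hr : r.Prime) (hd : 0 < d) (h : orderOf (t : ZMod r) = d) :
    (r : ℤ) ∣ (cyclotomic d ℤ).eval t := by
  have := Fact.mk hr
  have h1 := (h ▸ IsPrimitiveRoot.orderOf (t : ZMod r)).isRoot_cyclotomic hd
  rw [← map_cyclotomic_int, IsRoot.def, eval_intCast_map, eq_intCast, Int.cast_id] at h1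
  exact (ZMod.intCast_zmod_eq_zero_iff_dvd _ _).1 h1

theorem cyc_dvd {d : ℕ} {x : ℂ} (hd : 0 < d) (h : IsPrimitiveRoot x d) (g : ℤ[X]) (hg : aeval x g = 0) : cyclotomic d ℤ ∣ g := by
  rw [cyclotomic_eq_minpoly h hd]
  exact minpoly.isIntegrallyClosed_dvd (h.isIntegral hd) hg

theorem cyc_root {d : ℕ} {x : ℂ} (hd : 0 < d) (h : IsPrimitiveRoot x d) : aeval x (cyclotomic d ℤ) = 0 := by
  rw [cyclotomic_eq_minpoly h hd]
  exact minpoly.aeval _ _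

end RdA

variable {p : ℕ} [Fact p.Prime] {k : Type} [Field k] [CharP k p] [IsAlgClosed k] {Y : Type} [Group Y] {N : Type}
  [Fintype N] [DecidableEq N] {ρ : Y →* GL N k} {F : MulAut Y} {G : Subgroup Y}

/-- **primes for every order** -/
theorem boxRd_of (H : BoxDic) (D : Datum p ρ F G) : BoxRd D := fun j B h d hd => by
  have hp : p.Prime := Fact.out
  obtain ⟨n, e, L⟩ := exists_lvl D
  have hn := L.d_pos
  have hA := h.pow_eq L
  obtain ⟨C, hC⟩ := H.pr (fun w : D.W => D.Wm w * B) (Prod.fst '' rts D) n ((finite_rts D).image _) hn hA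
  refine ((Lg.gt (6 + C + n + bd (sz1 D) (sz1 D ^ 8))).and (Lg.lvl hn)).mono fun m ⟨h1, i, hi⟩ hm =>
    ⟨RdA.exists_nr hp h.pos hd (by omega), fun r hr => ?_⟩
  have h2 := hr.mr
  have h3 := RdA.ord hr hm
  have h4 : ¬ r ∣ n := Nat.not_dvd_of_pos_of_lt hn (by omega)
  have h5 : D.Mx ^ m = ((p : ℤ) ^ (j * m)) • B := by
    have h6 := hA 1
    rw [D.Wm_one, one_mul] at h6
    rw [h.mx, _root_.smul_pow, ← pow_mul]
    congr 1
    rw [hi, pow_add, pow_mul, h6, one_pow, pow_one, mul_one]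
  have h6 : ∀ w, D.Wm w * D.Mx ^ m = ((p : ℤ) ^ (j * m)) • (D.Wm w * B) := fun w => by rw [h5, mul_smul_comm]
  refine ⟨⟨h5, LV.One.pow_QS h.qs hm⟩, ⟨hr.rp, RdA.ne hr h.pos hd hm, lt_of_le_of_lt (Nat.le_add_left _ _) (h1.trans h2)⟩,
    ⟨_, Complex.isPrimitiveRoot_exp d hd.ne'⟩, fun μ hμ w y hy => ?_, fun μ hμ w e T a z k1 k2 k3 k4 => ?_, fun μ hμ => ?_⟩
  · obtain ⟨z, k1, k2⟩ := hC r hr.rp (by omega) _ μ (h3.symm ▸ hμ) w y hy
    exact ⟨z, fun i => by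
      show (r : ℤ) ∣ ((D.Wm w * D.Mx ^ m - 1) *ᵥ z) i
      rw [h6]
      exact k1 i, fun a ha => k2 _ (Set.mem_image_of_mem _ ha)⟩
  · refine H.back (D.Wm w * B) n r e _ μ T a z (hA w) hr.rp h4 (h3.symm ▸ hμ) k1 k2 (fun i => ?_) k4
    rw [← h6]
    exact k3 i
  · have k0 : IsPrimitiveRoot μ d := hμ
    exact ⟨μ⁻¹, mul_inv_cancel₀ (k0.ne_zero hd.ne'), cyclotomic d ℤ, RdA.cyc_root hd k0.inv, RdA.cyc_dvd hd k0.inv,
      RdA.dvd_cyc hr.rp hd h3, fun w => H.ph (D.Wm w * B) n r d _ μ⁻¹ (hA w) hr.rp h4 hd h3 k0.inv⟩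

end Cfsg.Agent.OM.Lie
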