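import Cfsg.Agent.OM.Lie.Defs
import Cfsg.Agent.BZ.L.Glue
import Cfsg.Agent.BZ.L.W1
import Cfsg.Agent.BZ.L.Cs
import Cfsg.Agent.BZ.L.TA.All
import Cfsg.Agent.HZ.L.Bas

/-!
# OM / Lie (S4894): Minkowski for the top pairs (helper74)

`boxWk (D) : BoxWk D`; `WkA.cs : St D j B → ∃ n c, Cs D (p ^ j) n c`.
-/

set_option autoImplicit false
set_option linter.unusedSectionVars false
set_option maxHeartbeats 400000

namespace Cfsg.Agent.OM.Lie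

open Cfsg Subgroup Cfsg.Agent.DL Cfsg.Agent.HZ.Gen Cfsg.Agent.HZ.L Cfsg.Agent.KM Cfsg.Agent.KM.Ht Cfsg.Agent.Nodes.Reps
open Cfsg.Agent.BZ.L (Cs Nq Nr Fm Pt Top boxTA boxW1)

variable {p : ℕ} [Fact p.Prime] {k : Type} [Field k] [CharP k p] [IsAlgClosed k] {Y : Type} [Group Y] {N : Type}
  [Fintype N] [DecidableEq N] {ρ : Y →* GL N k} {F : MulAut Y} {G : Subgroup Y} (D : Datum p ρ F G)

namespace WkA

variable {D}

/-- the class of a standard datum -/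
theorem cs {j : ℕ} {B : Mat D.R} (h : St D j B) : ∃ n c, Cs D (p ^ j) n c := by
  obtain ⟨d, e, L⟩ := PP.exists_lvl D
  exact ⟨d, Nat.card D.W + {a | D.Rt a}.ncard + Fintype.card D.R, .of_mat L.d_pos
    (fun w => ⟨D.Wm w * B, by rw [h.mx, mul_smul_comm, Nat.cast_pow], h.pow_eq L w⟩)
    (fun a ha => by rw [h.ex a ha]) (by omega) (by omega) (by omega)⟩

theorem nq {j l : ℕ} (hj : 0 < j) (hl : l.Prime) (hp : l ≠ p) : Nq p (p ^ j) (dl l (p ^ j)) l := ⟨hl, hp, ⟨j, hj, rfl⟩, rfl⟩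

variable (D) {l r m : ℕ}

/-- the connected centre of the centraliser is central in it -/
theorem cen_le (hr : r.Prime) (hW : Nat.card D.W < r) :
    centralizer (Pt F G m r D.T : Set ↥(GF (F ^ m) G)) ≤
      centralizer (Pt F G m l (Z0 D (Subtype.val '' (Pt F G m r D.T : Set ↥(GF (F ^ m) G)))) : Set ↥(GF (F ^ m) G)) := by
  have : Fact r.Prime := ⟨hr⟩
  intro g hg x hx
  have h1 : (g : Y) ∈ D.cen (Subtype.val '' (Pt F G m r D.T : Set ↥(GF (F ^ m) G))) := by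
    rw [← cen_eq (r := r) D (Nat.not_dvd_of_pos_of_lt Nat.card_pos hW)]
    · refine ⟨g.2.1, ?_⟩
      rintro _ ⟨a, ha, rfl⟩
      exact congrArg Subtype.val (hg a ha)
    · rintro _ ⟨a, ha, rfl⟩
      exact ((BZ.L.Gl.mem_Pt D le_rfl).1 ha).1
    · rintro _ ⟨a, ha, rfl⟩
      exact ((BZ.L.Gl.mem_Pt D le_rfl).1 ha).2.imp fun _ h => congrArg Subtype.val h
  have h2 : D.cen (Subtype.val '' (Pt F G m r D.T : Set ↥(GF (F ^ m) G))) ≤
      D.cen (Z0 D (Subtype.val '' (Pt F G m r D.T : Set ↥(GF (F ^ m) G)))) :=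
    sup_le_sup_left (Nodes.BNOf.RGD.Sup_mono (Sz_le_Z0 D _)) _
  exact Subtype.ext (D.cen_le_centralizer (Z0_le_T D _) (h2 h1) _ ((BZ.L.Gl.mem_Pt D (Z0_le_T D _)).1 hx).1)

end WkA

/-- **Minkowski** -/
theorem boxWk : BoxWk D := by
  intro j B l h hl hp M hM
  obtain ⟨n, c, hX⟩ := WkA.cs h
  have hq := WkA.nq h.pos hl hp
  refine (((boxW1 p _ _ l n c hq).and (boxTA p _ _ l n c hq)).and (Lg.gt (c + p))).mono ?_
  rintro m ⟨⟨w1, ta⟩, hm⟩ r hr _ α n' N' 𝔅 hF P _ β b H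
  have hmr := hr.mr
  have hW : Nat.card D.W < r := by
    have := hX.w
    omega
  have hFP : ∀ z ∈ Subtype.val '' (P : Set (GF (F ^ m) G)), F z ∈ Subtype.val '' (P : Set (GF (F ^ m) G)) := by
    rintro _ ⟨a, ha, rfl⟩
    exact ⟨α a, (H.st a).2 ha, hF.cm a⟩
  obtain ⟨y, hy, hN, h1⟩ := BZ.L.Gl.frame D hr.rp (by omega) hW (by omega) H.rp hFP
  obtain ⟨C, X', hX', hCG, hT, hNN, hC, hP0⟩ := BZ.L.Gl.levi _ (BZ.L.Gl.cs_conj D hX hy hN) hr.rp hW H.rp rfl h1 hFP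
  obtain ⟨y', hy', hN', h2, -⟩ := BZ.L.Gl.core X' hr.rp hmr hF hM H hCG hC hP0
    fun n' N' α hF => ta r hr X' hX' n' N' α M hF hM
  have hN2 : (y' * y)⁻¹ * F (y' * y) ∈ D.NN := by
    have h4 := hNN hN'
    rw [D.conj_NN, mem_cj] at h4
    convert mul_mem h4 hN using 1
    rw [map_mul]
    group
  have hy2 := mul_mem (hCG hy') hy
  rw [hT, D.conj_T, ← cj_mul, ← D.conj_T hy2 hN2] at h2
  rw [h2]
  exact ⟨_, BZ.L.Gl.pg_Pt (D.conj hy2 hN2) (Z0_le_T _ _), (BZ.L.Gl.mono_Pt (Z0_le_T _ _)).trans (BZ.L.Gl.comm_Pt _),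
    WkA.cen_le (D.conj hy2 hN2) hr.rp hW, w1 r hr _ (BZ.L.Gl.cs_conj D hX _ _) n' N' α M hF hM⟩

end Cfsg.Agent.OM.Lie
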