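import Cfsg.Agent.OM.On.Defs
import Cfsg.Agent.OM.Au.Defs
import Cfsg.Agent.OM.Cas.Defs
import Cfsg.Agent.BZ.L.Lie
import Cfsg.Agent.BZ.Lab.A

/-!
# OM / Lie (S4894): `QQ` implies equal degrees; definitions and boxes (helper3)

Paper proofs: `notes/OM/lie3.md`.  `BoxQ` is the aim.  `BoxInd` : the induction for a class of data with the
properties `Ax`; `BoxUp`, `BoxTp` : the lift and the top pair; `BoxKb` : the labels of the top block lie in the Levi subgroup;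
`BoxTr` : the transfer to a Levi subgroup; `BoxF`, `BoxCu`, `BoxVan`, `BoxCen` : isolated labels.
-/

set_option autoImplicit false
set_option linter.unusedSectionVars false

namespace Cfsg.Agent.OM.Lie

open Cfsg Cfsg.Agent.DL Cfsg.Agent.DL.PP Cfsg.Agent.DL.Uni Cfsg.Agent.DL.Asm Cfsg.Agent.Nodes.Reps Matrix Polynomial
  Cfsg.Agent.KZ.Lie Cfsg.Agent.HZ.Gen Cfsg.Agent.ODD.Red Cfsg.Agent.HZ.L Cfsg.Agent.OM.On Cfsg.Agent.OM.Au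
open Cfsg.Agent.HZ.L.X (Isol Zc)

/-- equal degrees -/
def EqD {K : Type} [Group K] (B : Set (IrrCharacter K)) : Prop :=
  ∀ ξ ∈ B, ∀ ξ' ∈ B, charDegree (ξ : K → ℂ) = charDegree (ξ' : K → ℂ)

/-- the order of `q` modulo `l` (modulo four if `l = 2`) -/
noncomputable def dl (l q : ℕ) : ℕ := orderOf (q : ZMod (if l = 2 then 4 else l))

section Comb

variable {R : Type} [Fintype R] [DecidableEq R]

/-- the cocharacters modulo the coroot lattice have no `l`-torsion -/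
def SC (l : ℕ) (Ψ : RS R) : Prop :=
  ∀ v : Vec R, (l : ℤ) • v ∈ Submodule.span ℤ (Prod.snd '' Ψ) → v ∈ Submodule.span ℤ (Prod.snd '' Ψ)

/-- the types -/
def Ty0 (Ψ : RS R) : Prop := Ty Ψ ∨ Iso Ψ U.PE8 ∨ Iso Ψ U.PF4 ∨ Iso Ψ U.PG2

/-- the primitive roots of unity of order `d` -/
def Sd (d : ℕ) : Set ℂ := {μ | IsPrimitiveRoot μ d}

/-- `A` has no eigenvector for an eigenvalue in `S` outside of the centre -/
def Ell (Ψ : RS R) (A : Mat R) (S : Set ℂ) : Prop := ∀ μ ∈ S, ¬ Eig Ψ A μ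

/-- the adjoint torus of `A` (the matrix of `w F`) has no element of order `l` -/
def Nc (Ψ : RS R) (A : Mat R) (l : ℕ) : Prop :=
  ∀ z : Vec R, (∀ a ∈ Ψ, (l : ℤ) ∣ a.1 ⬝ᵥ ((A - 1) *ᵥ z)) → ∀ a ∈ Ψ, (l : ℤ) ∣ a.1 ⬝ᵥ z

/-- the polynomial `det (x A - 1)` -/
noncomputable def dz (A : Mat R) : ℤ[X] := (A.map (fun a => (X : ℤ[X]) * C a) - 1).det

/-- the same over the complex numbers -/
noncomputable def dp (A : Mat R) : ℂ[X] := (dz A).map (Int.castRingHom ℂ)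

/-- the complex matrix -/
def cx (A : Mat R) : Matrix R R ℂ := A.map (Int.cast : ℤ → ℂ)

/-- the multiplicity of `x₀` -/
noncomputable def rk (A : Mat R) (x₀ : ℂ) : ℕ := (dp A).rootMultiplicity x₀

/-- the leading coefficient of `det (x A - 1)` at `x₀` -/
noncomputable def ld (A : Mat R) (x₀ : ℂ) : ℂ := (dp A /ₘ (X - C x₀) ^ rk A x₀).eval x₀

/-- the eigenspace -/
def Es (A : Mat R) (μ : ℂ) : Set (R → ℂ) := {y | IsE A μ y}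

end Comb

/-- (pure) **rank one update**.  `Γ` is a finite group of matrices which contains the reflections and a multiple of `A`;
`g a E > 0` only depends on the root and the eigenspace. -/
def BoxUL : Prop :=
  ∀ {R : Type} [Fintype R] [DecidableEq R] (Ψ : RS R) (Γ : Submonoid (Matrix R R ℂ)), (Γ : Set (Matrix R R ℂ)).Finite →
    (∀ A ∈ Γ, IsUnit A) → (∀ a ∈ Ψ, a.1 ⬝ᵥ a.2 = 2 ∧ cx (rfm a) ∈ Γ) → ∀ μ x₀ : ℂ, μ * x₀ = 1 →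
    ∃ g : Vec R × Vec R → Set (R → ℂ) → ℝ, ∀ A : Mat R, (∃ t : ℂ, t ≠ 0 ∧ t • cx A ∈ Γ) →
      (∀ A' : Mat R, (∃ t : ℂ, t ≠ 0 ∧ t • cx A' ∈ Γ) → Es A μ = Es A' μ → rk A x₀ = rk A' x₀) ∧ ld A x₀ ≠ 0 ∧ ∀ a ∈ Ψ,
      ((∀ y ∈ Es A μ, ev a.1 y = 0) → rk A x₀ ≤ rk (rfm a * A) x₀) ∧
      ((∃ y ∈ Es A μ, ev a.1 y ≠ 0) → 0 < g a (Es A μ) ∧ rk (rfm a * A) x₀ + 1 = rk A x₀ ∧
        ld (rfm a * A) x₀ = -x₀ * g a (Es A μ) * ld A x₀) ∧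
      ∀ V : Mat R, cx V ∈ Γ → ∀ b ∈ Ψ, V *ᵥ a.2 = b.2 → g b ((fun y => cx V *ᵥ y) '' Es A μ) = g a (Es A μ)

/-- (pure) **eigenvectors modulo all large primes**, and back; the cyclotomic factor -/
structure BoxDic : Prop where
  pr : ∀ {R ι : Type} [Fintype R] [DecidableEq R] [Finite ι] (A : ι → Mat R) (s : Set (Vec R)) (n : ℕ), s.Finite → 0 < n →
    (∀ w, A w ^ n = 1) → ∃ C : ℕ, ∀ r : ℕ, r.Prime → C < r → ∀ (t : ℤ) (μ : ℂ), IsPrimitiveRoot μ (orderOf (t : ZMod r)) →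
      ∀ w y, IsE (A w) μ y → ∃ z : Vec R, (∀ i, (r : ℤ) ∣ ((t • A w - 1) *ᵥ z) i) ∧ ∀ a ∈ s, ((r : ℤ) ∣ a ⬝ᵥ z ↔ ev a y = 0)
  /-- the annihilator of `T` is an `A`-stable lattice, `a` does not vanish on a vector of it which is fixed modulo `r ^ e` -/
  back : ∀ {R : Type} [Fintype R] [DecidableEq R] (A : Mat R) (n r e : ℕ) (t : ℤ) (μ : ℂ) (T : Set (Vec R)) (a z : Vec R),
    A ^ n = 1 → r.Prime → ¬ r ∣ n → IsPrimitiveRoot μ (orderOf (t : ZMod r)) →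
    (∀ v, (∀ b ∈ T, b ⬝ᵥ v = 0) → ∀ b ∈ T, b ⬝ᵥ (A *ᵥ v) = 0) →
    (∀ b ∈ T, b ⬝ᵥ z = 0) → (∀ i, (r : ℤ) ^ e ∣ ((t • A - 1) *ᵥ z) i) → ¬ (r : ℤ) ^ e ∣ a ⬝ᵥ z →
      ∃ y, IsE A μ y ∧ (∀ b ∈ T, ev b y = 0) ∧ ev a y ≠ 0
  ph : ∀ {R : Type} [Fintype R] [DecidableEq R] (A : Mat R) (n r d : ℕ) (t : ℤ) (x₀ : ℂ), A ^ n = 1 → r.Prime → ¬ r ∣ n → 0 < d →
    orderOf (t : ZMod r) = d → IsPrimitiveRoot x₀ d → ∃ H : ℤ[X], dz A = cyclotomic d ℤ ^ rk A x₀ * H ∧ ¬ (r : ℤ) ∣ H.eval t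

/-- Minkowski for the top pairs of `𝔅` -/
def Wk (l r : ℕ) (M : Ideal AlgInt) {K : Type} [Group K] [Fintype K] (α : MulAut K) (𝔅 : Set (IrrCharacter K)) : Prop :=
  ∀ (P : Subgroup K) [Fintype ↥(Subgroup.centralizer (P : Set K))] (β : MulAut ↥(Subgroup.centralizer (P : Set K)))
    (b : Set (IrrCharacter ↥(Subgroup.centralizer (P : Set K)))),
    BZ.L.Top r M α 𝔅 P (Subgroup.centralizer (P : Set K)).subtype β b → ∃ Q : Subgroup K, IsPGroup l Q ∧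
      Q ≤ Subgroup.centralizer (P : Set K) ∧ Subgroup.centralizer (P : Set K) ≤ Subgroup.centralizer (Q : Set K) ∧
      Subgroup.normalizer (P : Set K) ⊓ Subgroup.centralizer (Q : Set K) ≤ Subgroup.centralizer (P : Set K)

/-- classes of data -/
abbrev Cls (p : ℕ) [Fact p.Prime] : Type 1 :=
  ∀ {k : Type} [Field k] [CharP k p] [IsAlgClosed k] {Y : Type} [Group Y] {N : Type} [Fintype N] [DecidableEq N]
    {ρ : Y →* GL N k} {F : MulAut Y} {G : Subgroup Y} (D : Datum p ρ F G), Mat D.R → Prop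

variable {p : ℕ} [Fact p.Prime] {k : Type} [Field k] [CharP k p] [IsAlgClosed k] {Y : Type} [Group Y] {N : Type}
  [Fintype N] [DecidableEq N] {ρ : Y →* GL N k} {F : MulAut Y} {G : Subgroup Y} (D : Datum p ρ F G)

/-- **the main class of data** -/
structure Cq (j : ℕ) (B : Mat D.R) (l : ℕ) : Prop where
  st : St D j B
  cz : Cz p (rts D)
  sc : SC l (rts D)
  ty : Ty0 (rts D)
  lp : l.Prime
  ne : l ≠ p

/-- `r` is a huge prime which belongs to the eigenvalues in `S` -/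
structure Rd (j : ℕ) (B : Mat D.R) (S : Set ℂ) (r : ℕ) : Prop where
  st : StW D j B
  hu : Hu1 D r
  ne : S.Nonempty
  pr : ∀ μ ∈ S, Pr D B r μ
  bk : ∀ μ ∈ S, ∀ (w : D.W) (e : ℕ) (T : Set (Vec D.R)) (a z : Vec D.R),
    (∀ v, (∀ b ∈ T, b ⬝ᵥ v = 0) → ∀ b ∈ T, b ⬝ᵥ ((D.Wm w * B) *ᵥ v) = 0) → (∀ b ∈ T, b ⬝ᵥ z = 0) →
    (∀ i, (r : ℤ) ^ e ∣ ((D.Wm w * D.Mx - 1) *ᵥ z) i) → ¬ (r : ℤ) ^ e ∣ a ⬝ᵥ z →
      ∃ y, IsE (D.Wm w * B) μ y ∧ (∀ b ∈ T, ev b y = 0) ∧ ev a y ≠ 0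
  ph : ∀ μ ∈ S, ∃ x₀ : ℂ, μ * x₀ = 1 ∧ ∃ Φ : ℤ[X], aeval x₀ Φ = 0 ∧ (∀ g : ℤ[X], aeval x₀ g = 0 → Φ ∣ g) ∧
    (r : ℤ) ∣ Φ.eval ((p : ℤ) ^ j) ∧
      ∀ w, ∃ H : ℤ[X], dz (D.Wm w * B) = Φ ^ rk (D.Wm w * B) x₀ * H ∧ ¬ (r : ℤ) ∣ H.eval ((p : ℤ) ^ j)

/-- the data of `BoxCu` : `y` is a function on the types for the label `c` -/
structure Cf [Fintype D.W] (B : Mat D.R) (l : ℕ) (S : Set ℂ) (c : Lbl D) (y : D.W → ℂ) : Prop where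
  supp : ∀ w, y w ≠ 0 → Fx D w c ∧ Ell (rts D) (D.Wm w * B) S
  inv : ∀ v w w', Tc D v w w' → Rel D v c c → y w = y w'
  cas : ∀ (w : D.W) (t : Lbl D) (i : ℕ), t ^ l ^ i = 1 → Fx D w c → Fx D w t → ¬ Ell (rts D) (D.Wm w * B) S →
    Cas.cas D (c * t) y w = 0

variable [Fintype ↥(GF F G)] {D}

/-- all labels of all members are elliptic -/
def ElB (f : Fr D) (B : Mat D.R) (S : Set ℂ) (𝔅 : Set (IrrCharacter ↥(GF F G))) : Prop :=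
  ∀ χ ∈ 𝔅, ∀ w c, Has f (χ : GF F G → ℂ) w c → Ell (rts D) (D.Wm w * B) S

/-- the labels of order prime to `l` are isolated -/
def IsoB (f : Fr D) (l : ℕ) (𝔅 : Set (IrrCharacter ↥(GF F G))) : Prop :=
  ∀ χ ∈ 𝔅, ∀ w c, Has f (χ : GF F G → ℂ) w c → ¬ l ∣ orderOf c → Isol (rts D) c

/-- huge primes for all eigenvalues -/
def Rb (B : Mat D.R) (l : ℕ) (𝔅 : Set (IrrCharacter ↥(GF F G))) : Prop :=
  ∀ w μ, Eig (rts D) (D.Wm w * B) μ → ∃ r, Hu1 D r ∧ r ≠ l ∧ Pr D B r μ ∧ ∀ χ ∈ 𝔅, RatR r (χ : GF F G → ℂ)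

/-- a Levi subgroup for `r` and a block of it which is seen by `𝔅` -/
structure Lv (l : ℕ) (M : Ideal AlgInt) (𝔅 : Set (IrrCharacter ↥(GF F G))) (r : ℕ) (P : Subgroup ↥(GF F G)) (s : Sb D)
    [Fintype ↥(GF F s.K)] (lam : Vec D.R) (b : Set (IrrCharacter ↥(GF F s.K))) : Prop where
  hu : Hu1 D r
  ne : r ≠ l
  fo : s.For r P
  rt : rts s.E = lev (rts D) lam
  hB : IsPBlock M 𝔅
  hb : IsPBlock M b
  rat : ∀ χ ∈ 𝔅, RatR r (χ : GF F G → ℂ)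
  lnk : ∃ χ ∈ 𝔅, ∃ ψ ∈ b, classInner (s.rs r P χ) ψ ≠ 0

/-- **the top pair** -/
structure Tp (j : ℕ) (B : Mat D.R) (l : ℕ) (S : Set ℂ) (M : Ideal AlgInt) (𝔅 : Set (IrrCharacter ↥(GF F G))) (r : ℕ)
    (P : Subgroup ↥(GF F G)) (s : Sb D) [Fintype ↥(GF F s.K)] (lam : Vec D.R) (b : Set (IrrCharacter ↥(GF F s.K))) : Prop
    extends Lv l M 𝔅 r P s lam b where
  rd : Rd D j B S r
  tight : ∀ ψ ∈ b, BZ.Lab.Tight r s.ι P (ψ : GF F s.K → ℂ)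
  ratb : ∀ ψ ∈ b, RatR r (ψ : GF F s.K → ℂ)
  all : ∀ χ : IrrCharacter ↥(GF F G), RatR r (χ : GF F G → ℂ) → ∀ ψ ∈ b, classInner (s.rs r P χ) ψ ≠ 0 → χ ∈ 𝔅

/-- **the lift of a block** to the level `m` -/
structure Lf (f : Fr D) (B : Mat D.R) (l : ℕ) (M : Ideal AlgInt) (𝔅 : Set (IrrCharacter ↥(GF F G))) {m : ℕ} (hm : 0 < m)
    [Fintype ↥(GF (F ^ m) G)] (f' : Fr (D.pow hm)) (α : MulAut ↥(GF (F ^ m) G)) (n' N' : ℕ)
    (e : IrrCharacter ↥(GF F G) → IrrCharacter ↥(GF (F ^ m) G)) : Prop where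
  fm : BZ.L.Fm F G l m n' N' α
  blk : IsPBlock M (e '' 𝔅)
  stb : BZ.Lab.StB α (e '' 𝔅)
  mult : ∀ χ ∈ 𝔅, ∃ ε : ℂ, (ε = 1 ∨ ε = -1) ∧
    ∀ w c, classInner (e χ : GF (F ^ m) G → ℂ) (RW f' w c) = ε * classInner (χ : GF F G → ℂ) (RW f w c)
  deg : EqD (e '' 𝔅) → EqD 𝔅
  qq : QQ f 𝔅 → QQ f' (e '' 𝔅)
  rb : Rb (D := D.pow hm) B l (e '' 𝔅)

variable (D)

/-! ### boxes for all quasi-split data -/

/-- the lift exists for all large levels -/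
def BoxUp : Prop := ∀ j B l, StW D j B → l.Prime → l ≠ p → (Lg fun m => ∃ n' N' α, BZ.L.Fm F G l m n' N' α) →
  ∀ (f : Fr D) (M : Ideal AlgInt) (𝔅 : Set (IrrCharacter ↥(GF F G))), IsPModular l M → IsPBlock M 𝔅 →
    Lg fun m => ∃ (hm : 0 < m) (_ : Fintype ↥(GF (F ^ m) G)) (f' : Fr (D.pow hm)) (α : MulAut ↥(GF (F ^ m) G)) (n' N' : ℕ)
      (e : IrrCharacter ↥(GF F G) → IrrCharacter ↥(GF (F ^ m) G)), Lf f B l M 𝔅 hm f' α n' N' e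

omit [Fintype ↥(GF F G)] in
/-- the top pair exists -/
def BoxTp : Prop := ∀ l M, IsPModular l M → Lg fun m => ∀ (hm : 0 < m) [Fintype ↥(GF (F ^ m) G)] (α : MulAut ↥(GF (F ^ m) G))
  (n' N' : ℕ) (𝔅 : Set (IrrCharacter ↥(GF (F ^ m) G))) j B S r, BZ.L.Fm F G l m n' N' α → Rd (D.pow hm) j B S r → m < r →
    IsPBlock M 𝔅 → BZ.Lab.StB α 𝔅 → Wk l r M α 𝔅 →
      ∃ (P : Subgroup ↥(GF (F ^ m) G)) (s : Sb (D.pow hm)) (_ : Fintype ↥(GF (F ^ m) s.K)) (lam : Vec D.R)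
        (b : Set (IrrCharacter ↥(GF (F ^ m) s.K))), Tp (D := D.pow hm) j B l S M 𝔅 r P s lam b

/-- central `r`-defect and elliptic labels -/
structure BoxEl : Prop where
  /-- a character which vanishes unless the `r`-part is central has elliptic labels -/
  el : ∀ B r μ, D.QS → Hu1 D r → Pr D B r μ → ∀ (f : Fr D) χ, IsIrrCharacter _ χ → RatR r χ →
    (∀ g x, IsPPart r g x → χ g ≠ 0 → x ∈ Subgroup.center ↥(GF F G)) → ∀ w c, Has f χ w c → ¬ Eig (rts D) (D.Wm w * B) μ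
  /-- the members of the top block -/
  tp : ∀ j B l S M 𝔅 r P (s : Sb D) [Fintype ↥(GF F s.K)] lam b, Tp j B l S M 𝔅 r P s lam b → ∀ f : Fr D,
    ElB (s.fr f) (D.Wm s.w * B) S b
  /-- the case of a central `P` -/
  cen : ∀ l M 𝔅 r P (s : Sb D) [Fintype ↥(GF F s.K)] lam b, IsPModular l M → Lv l M 𝔅 r P s lam b →
    lev (rts D) lam = rts D → EqD b → EqD 𝔅

/-- the leading coefficient of a tight character does not vanish; the roots which vanish on the eigenspace -/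
structure BoxLd : Prop where
  ne : ∀ j B l S M 𝔅 r P (s : Sb D) [Fintype ↥(GF F s.K)] lam b, Tp j B l S M 𝔅 r P s lam b → ∀ (f : Fr D), ∀ μ ∈ S, ∀ (x₀ : ℂ)
    (n : ℕ), μ * x₀ = 1 → ∀ ψ ∈ b, (∀ u c, Has (s.fr f) (ψ : GF F s.K → ℂ) u c → rk (D.Wm (s.sw u * s.w) * B) x₀ = n) →
      ∑ᶠ u : s.E.W, (ld (D.Wm (s.sw u * s.w) * B) x₀)⁻¹ * Yt (s.fr f) (ψ : GF F s.K → ℂ) u ≠ 0
  rt : ∀ j B S r P (s : Sb D) lam, Rd D j B S r → s.For r P → rts s.E = lev (rts D) lam → ∀ μ ∈ S,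
    ∀ a ∈ rts D, a ∉ rts s.E → ∃ y, IsE (D.Wm s.w * B) μ y ∧ (∀ b ∈ rts s.E, ev b.1 y = 0) ∧ ev a.1 y ≠ 0

/-- **the labels of the top block lie in the Levi subgroup** -/
def BoxKb : Prop := ∀ j B l S M 𝔅 r P (s : Sb D) [Fintype ↥(GF F s.K)] lam b, On1 s.E →
  Tp j B l S M 𝔅 r P s lam b → ∀ f : Fr D, QQ f 𝔅 → ∀ ψ ∈ b, ∀ u c, Has (s.fr f) (ψ : GF F s.K → ℂ) u c → Zc (rts D) c ⊆ rts s.E

/-- **the transfer** -/
def BoxTr : Prop := ∀ l M 𝔅 r P (s : Sb D) [Fintype ↥(GF F s.K)] lam b, D.QS → Cz p (rts D) → On1 s.E → OnL s.E → l ≠ p →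
  IsPModular l M → Lv l M 𝔅 r P s lam b → ∀ f : Fr D,
  (∀ ψ ∈ b, ∀ u c, Has (s.fr f) (ψ : GF F s.K → ℂ) u c → Zc (rts D) c ⊆ rts s.E ∧ ¬ r ∣ orderOf c) →
    (EqD b → EqD 𝔅) ∧ ∀ ψ ∈ b, ∀ u c, Has (s.fr f) (ψ : GF F s.K → ℂ) u c → ∃ χ ∈ 𝔅, Has f (χ : GF F G → ℂ) (s.sw u * s.w) c

/-- the labels in a block have conjugate `l'`-parts -/
def BoxBl : Prop := ∀ l M, D.QS → On1 D → l ≠ p → IsPModular l M → ∀ (f : Fr D) (𝔅 : Set (IrrCharacter ↥(GF F G))), IsPBlock M 𝔅 →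
  ∀ χ ∈ 𝔅, ∀ χ' ∈ 𝔅, ∀ w c w' c', Has f (χ : GF F G → ℂ) w c → ¬ l ∣ orderOf c → Has f (χ' : GF F G → ℂ) w' c' →
    ∃ (v : D.W) (c₁ t : Lbl D) (i : ℕ), Rel D v c c₁ ∧ t ^ l ^ i = 1 ∧ c' = c₁ * t

/-- the functions of the truncated members -/
def BoxF : Prop := ∀ B l S M, D.QS → l ≠ p → IsPModular l M → ∀ [Fintype D.W] (f : Fr D)
  (𝔅 : Set (IrrCharacter ↥(GF F G))), IsPBlock M 𝔅 → ElB f B S 𝔅 → ∀ χ ∈ 𝔅, ∀ w, Yt f (χ : GF F G → ℂ) w ≠ 0 →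
    ∃ (c : Lbl D) (y : D.W → ℂ), ¬ l ∣ orderOf c ∧ Cf D B l S c y ∧ y w ≠ 0 ∧ ∃ χ' ∈ 𝔅, Has f (χ' : GF F G → ℂ) w c

/-- central defect -/
def BoxCen : Prop := ∀ l M, D.QS → Cz p (rts D) → l ≠ p → IsPModular l M → ∀ (f : Fr D)
  (𝔅 : Set (IrrCharacter ↥(GF F G))), IsPBlock M 𝔅 →
  (∀ χ ∈ 𝔅, ∀ w c, Has f (χ : GF F G → ℂ) w c → Nc (rts D) (D.Wm w * D.Mx) l) → EqD 𝔅

/-- the conclusion -/
def QE (l : ℕ) : Prop := ∀ M, IsPModular l M → ∀ (f : Fr D) (𝔅 : Set (IrrCharacter ↥(GF F G))), IsPBlock M 𝔅 → QQ f 𝔅 → EqD 𝔅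

/-- **what a class has to satisfy** -/
structure Ax (l : ℕ) (S : Set ℂ) (C : Cls p) (B : Mat D.R) : Prop where
  st : ∃ j, StW D j B
  cz : Cz p (rts D)
  ons : OnS D
  sub : ∀ (s : Sb D) lam, s.E.QS → rts s.E = lev (rts D) lam → C s.E (D.Wm s.w * B)
  pow : Lg fun m => ∀ hm : 0 < m, C (D.pow hm) B
  fm : Lg fun m => ∃ n' N' α, BZ.L.Fm F G l m n' N' α
  top : ∀ M, IsPModular l M → Lg fun m => ∀ (hm : 0 < m) [Fintype ↥(GF (F ^ m) G)], ∃ j r, Rd (D.pow hm) j B S r ∧ m < r ∧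
    ∀ (α : MulAut ↥(GF (F ^ m) G)) (n' N' : ℕ) (𝔅 : Set (IrrCharacter ↥(GF (F ^ m) G))), BZ.L.Fm F G l m n' N' α → Wk l r M α 𝔅
  iso : ∀ M, IsPModular l M → ∀ (f : Fr D) (𝔅 : Set (IrrCharacter ↥(GF F G))), IsPBlock M 𝔅 → ElB f B S 𝔅 → IsoB f l 𝔅 → EqD 𝔅

variable (p) in
/-- the general boxes -/
structure Bx : Prop where
  up : AllD p fun D => BoxUp D
  tp : AllD p fun D => BoxTp D
  el : AllD p fun D => BoxEl D
  kb : AllD p fun D => BoxKb D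
  tr : AllD p fun D => BoxTr D
  bl : AllD p fun D => BoxBl D

variable (p) in
/-- **the induction** -/
def BoxInd : Prop := ∀ (l : ℕ) (S : Set ℂ) (C : Cls p), l.Prime → l ≠ p → (AllD p fun D => ∀ B, C D B → Ax D l S C B) →
  AllD p fun D => ∀ B, C D B → QE D l

/-! ### boxes for the main class -/

omit [Fintype ↥(GF F G)] in
/-- primes for every order -/
def BoxRd : Prop := ∀ j B, St D j B → ∀ d, 0 < d → Lg fun m => ∀ hm : 0 < m,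
  (∃ r, BZ.L.Nr (p ^ j) d r m) ∧ ∀ r, BZ.L.Nr (p ^ j) d r m → Rd (D.pow hm) (j * m) B (Sd d) r

omit [Fintype ↥(GF F G)] in
/-- Minkowski -/
def BoxWk : Prop := ∀ j B l, St D j B → l.Prime → l ≠ p → ∀ M : Ideal AlgInt, IsPModular l M →
  Lg fun m => ∀ r, BZ.L.Nr (p ^ j) (dl l (p ^ j)) r m → ∀ [Fintype ↥(GF (F ^ m) G)] (α : MulAut ↥(GF (F ^ m) G)) (n' N' : ℕ)
    (𝔅 : Set (IrrCharacter ↥(GF (F ^ m) G))), BZ.L.Fm F G l m n' N' α → Wk l r M α 𝔅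

omit [Fintype ↥(GF F G)] in
/-- **the cuspidal box** -/
def BoxCu : Prop := ∀ j B l, Cq D j B l → ∀ [Fintype D.W] (c : Lbl D) (y : D.W → ℂ), ¬ l ∣ orderOf c → Isol (rts D) c →
  Cf D B l (Sd (dl l (p ^ j))) c y → ∀ w, y w ≠ 0 → Nc (rts D) (D.Wm w * D.Mx) l

/-- from the total multiplicities to all labels -/
def BoxVan : Prop := ∀ j B l, St D j B → l.Prime → l ≠ p → ∀ (f : Fr D) χ, IsIrrCharacter _ χ →
  (∀ w, Yt f χ w ≠ 0 → Nc (rts D) (D.Wm w * D.Mx) l) → ∀ w c, Has f χ w c → Nc (rts D) (D.Wm w * D.Mx) l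

omit [Fintype ↥(GF F G)] in
/-- the class is closed under Levi subgroups and lifts -/
structure BoxCq : Prop where
  sub : ∀ j B l, Cq D j B l → ∀ (s : Sb D) lam, s.E.QS → rts s.E = lev (rts D) lam → Cq s.E j (D.Wm s.w * B) l
  pow : ∀ j B l, Cq D j B l → Lg fun m => ∀ hm : 0 < m, Cq (D.pow hm) (j * m) B l ∧ dl l (p ^ (j * m)) = dl l (p ^ j)
  ons : ∀ j B l, Cq D j B l → OnS D
  fm : ∀ j B l, St D j B → l.Prime → l ≠ p → Lg fun m => ∃ n' N' α, BZ.L.Fm F G l m n' N' α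

/-- **the aim** -/
def BoxQ : Prop := ∀ j B l, Cq D j B l → QE D l

variable (p) in
/-- the boxes for the main class -/
structure Bq : Prop where
  rd : AllD p fun D => BoxRd D
  wk : AllD p fun D => BoxWk D
  f : AllD p fun D => BoxF D
  cu : AllD p fun D => BoxCu D
  van : AllD p fun D => BoxVan D
  cen : AllD p fun D => BoxCen D
  cq : AllD p fun D => BoxCq D

end Cfsg.Agent.OM.Lie
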