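import Cfsg.Agent.OM.On.Eng

/-!
# OM / Lie: the constituents of a small rational virtual character are rational (helper46)

`rat_con` for groups with `Big H r n`; `rat_has` for the constituents of `RW f w c`, `r ∤ |c|`.
-/

set_option autoImplicit false
set_option linter.unusedSectionVars false
set_option maxHeartbeats 400000

namespace Cfsg.Agent.OM.Lie

open Cfsg Subgroup Cfsg.Agent.DL Cfsg.Agent.KZ.Lie Cfsg.Agent.HZ.Gen Cfsg.Agent.Characters.Core Cfsg.Agent.Characters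
  Cfsg.Agent.HZ.L Cfsg.Agent.OM.On Cfsg.Agent.OddOrderCharacters.VChar Cfsg.Agent.Blocks.PPart Cfsg.Agent.H603.AP

namespace RatA

variable {A : Type*} [Group A] {r : ℕ} {S : Finset (A →* ℂˣ)} {θ u : A → ℂ}

/-- the product argument -/
theorem cross (h1 : Sp S θ) (h2 : Sp S u) {i j : ℕ}
    (hinj : Set.InjOn (fun z : (A →* ℂˣ) × (A →* ℂˣ) => z.1 ^ i * z.2 ^ j) (S ×ˢ S : Finset _))
    (h : ∀ a, θ (a ^ i) * u (a ^ j) = u (a ^ i) * θ (a ^ j)) (a a' : A) : θ a * u a' = u a * θ a' := by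
  classical
  obtain ⟨x, hx⟩ := sp_iff.1 h1
  obtain ⟨y, hy⟩ := sp_iff.1 h2
  have key : ∀ b b' : A, θ b * u b' - u b * θ b' =
      ∑ z ∈ S ×ˢ S, (x z.1 * y z.2 - y z.1 * x z.2) * ((z.1 b : ℂ) * z.2 b') := fun b b' => by
    rw [hx b, hy b', hy b, hx b', Finset.sum_mul_sum, Finset.sum_mul_sum, ← Finset.sum_sub_distrib, Finset.sum_product]
    refine Finset.sum_congr rfl fun s _ => ?_
    rw [← Finset.sum_sub_distrib]
    exact Finset.sum_congr rfl fun t _ => by ring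
  have h3 := (linearIndependent_monoidHom A ℂ).comp
    (fun z : ↥(S ×ˢ S) => (Units.coeHom ℂ).comp (z.1.1 ^ i * z.1.2 ^ j)) fun z z' e =>
      Subtype.ext (hinj z.2 z'.2 (MonoidHom.ext fun b => Units.ext (DFunLike.congr_fun e b)))
  have h4 := Fintype.linearIndependent_iff.1 h3 (fun z => x z.1.1 * y z.1.2 - y z.1.1 * x z.1.2) (funext fun b => by
    have h5 := key (b ^ i) (b ^ j)
    rw [h, sub_self, ← Finset.sum_coe_sort] at h5
    rw [Finset.sum_apply, Pi.zero_apply, h5]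
    refine Finset.sum_congr rfl fun z _ => ?_
    rw [map_pow, map_pow]
    rfl)
  rw [← sub_eq_zero, key]
  exact Finset.sum_eq_zero fun z hz => by rw [h4 ⟨z, hz⟩, zero_mul]

variable [hr : Fact r.Prime]

theorem ord [Finite A] (hA : IsPGroup r A) (ν : A →* ℂˣ) : ∃ e, orderOf ν = r ^ e := by
  obtain ⟨k, hk⟩ := IsPGroup.iff_card.1 hA
  obtain ⟨e, -, he⟩ := (Nat.dvd_prime_pow hr.out).1 (orderOf_dvd_of_pow_eq_one (x := ν) (n := r ^ k) (MonoidHom.ext fun a => by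
    rw [MonoidHom.pow_apply, ← map_pow, ← hk, pow_card_eq_one', map_one, MonoidHom.one_apply]))
  exact ⟨e, he⟩

/-- few exponents are bad -/
theorem exists_inj {M : Type*} [CommGroup M] (S : Finset M) (hA : ∀ x : M, ∃ e, orderOf x = r ^ e) {ι : Type*} (T : Finset ι) (e : ι → ℕ) (he : ∀ i ∈ T, ∀ i' ∈ T, e i ≡ e i' [MOD r] → i = i')
    {j : ℕ} (hj : j.Coprime r) (hT : S.card ^ 4 < T.card) :
    ∃ i ∈ T, Set.InjOn (fun z : M × M => z.1 ^ e i * z.2 ^ j) (S ×ˢ S : Finset _) := by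
  classical
  by_contra h0
  have h1 : ∀ i, ∃ z : (M × M) × (M × M), i ∈ T → z ∈ (S ×ˢ S) ×ˢ (S ×ˢ S) ∧ z.1 ≠ z.2 ∧
      z.1.1 ^ e i * z.1.2 ^ j = z.2.1 ^ e i * z.2.2 ^ j := fun i => by
    by_contra h1
    push Not at h1
    refine h0 ⟨i, (h1 1).1, fun z hz z' hz' e => by_contra fun h => ?_⟩
    exact (h1 (z, z')).2 (Finset.mem_product.2 ⟨hz, hz'⟩) h e
  choose g hg using h1
  have h2 := Finset.card_le_card_of_injOn (s := T) (t := (S ×ˢ S) ×ˢ (S ×ˢ S)) g (fun i hi => (hg i hi).1) fun i hi i' hi' h => by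
    obtain ⟨-, h2, h3⟩ := hg i hi
    obtain ⟨-, -, h4⟩ := hg i' hi'
    rw [← h] at h4
    have h5 : ∀ m, (g i).1.1 ^ m * (g i).1.2 ^ j = (g i).2.1 ^ m * (g i).2.2 ^ j →
        ((g i).1.1 / (g i).2.1) ^ m = ((g i).2.2 / (g i).1.2) ^ j := fun m hm => by
      rw [div_pow, div_pow, div_eq_div_iff_mul_eq_mul, hm, mul_comm]
    obtain ⟨k, hk⟩ := hA ((g i).1.1 / (g i).2.1)
    rcases k with _ | k
    · have h6 := orderOf_eq_one_iff.1 (hk.trans (pow_zero r))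
      have h7 := h5 _ h3
      rw [h6, one_pow] at h7
      obtain ⟨k', hk'⟩ := hA ((g i).2.2 / (g i).1.2)
      have h8 := Nat.Coprime.eq_one_of_dvd (hk' ▸ (hj.pow_right k').symm) (orderOf_dvd_of_pow_eq_one h7.symm)
      exact (h2 (Prod.ext (div_eq_one.1 h6) (div_eq_one.1 (orderOf_eq_one_iff.1 h8)).symm)).elim
    · refine he i hi i' hi' ((pow_eq_pow_iff_modEq.1 ((h5 _ h3).trans (h5 _ h4).symm)).of_dvd ?_)
      rw [hk]
      exact dvd_pow_self r k.succ_ne_zero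
  simp only [Finset.card_product] at h2
  exact absurd (h2.trans_eq (by ring)) (not_le.2 hT)

theorem num {n r : ℕ} (hn : 0 < n) (h : bd (2 * n) ((2 * n) ^ 8) < r) : n * bd n 1 ^ 2 + 1 < r := by
  refine lt_of_le_of_lt ?_ h
  have h1 : 2 ^ (n * n) + 4 ^ (n * n) * n * 1 ≤ 4 ^ (n * n) * (2 * n) := by
    have h2 : 2 ^ (n * n) ≤ 4 ^ (n * n) := Nat.pow_le_pow_left (by norm_num) _
    have h3 : 4 ^ (n * n) ≤ 4 ^ (n * n) * n := Nat.le_mul_of_pos_right _ hn
    nlinarith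
  have h2 : bd n 1 ^ 2 ≤ 4 ^ (2 * n * (2 * n)) * (2 * n) ^ 4 := by
    rw [bd, ← pow_mul]
    refine (Nat.pow_le_pow_left h1 _).trans_eq ?_
    rw [mul_pow, ← pow_mul]
    congr 2
    ring
  have h3 : 0 < 4 ^ (2 * n * (2 * n)) * (2 * n) ^ 4 := by positivity
  have h4 : n * bd n 1 ^ 2 + 1 ≤ 4 ^ (2 * n * (2 * n)) * (2 * n) * (2 * n) ^ 8 := by
    have h5 : (2 * n) ^ 4 ≤ (2 * n) ^ 8 := Nat.pow_le_pow_right (by omega) (by norm_num)
    calc n * bd n 1 ^ 2 + 1 ≤ n * (4 ^ (2 * n * (2 * n)) * (2 * n) ^ 4) + n * (4 ^ (2 * n * (2 * n)) * (2 * n) ^ 4) :=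
          add_le_add (Nat.mul_le_mul_left _ h2) (mul_pos hn h3)
      _ = 4 ^ (2 * n * (2 * n)) * (2 * n) * (2 * n) ^ 4 := by ring
      _ ≤ _ := Nat.mul_le_mul_left _ h5
  exact (h4.trans (Nat.le_add_left _ _)).trans (Nat.le_self_pow two_ne_zero _)

end RatA

/-- **the constituents of a small rational virtual character are rational** -/
theorem rat_con {H : Type*} [Group H] [Fintype H] {r n B : ℕ} [hr : Fact r.Prime] (hB : Big H r n) {φ χ : H → ℂ} (hp : Sm r B φ)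
    (hc : IsIrrCharacter H χ) (h : classInner φ χ ≠ 0) (hb : B * (bd n 1) ^ 2 + 1 < r) : RatR r χ := by
  classical
  rintro b y h1 ⟨e, h2⟩ h3 k hk
  have hP : IsPGroup r (zpowers b) := isPGroup_zpowers ⟨e, h2⟩
  have hz : ∀ c : H, Commute c b → c ∈ centralizer (zpowers b : Set H) := fun c hc a ha => by
    obtain ⟨m, rfl⟩ := mem_zpowers_iff.1 ha
    exact (hc.zpow_right m).symm
  have hy := hz y h1.symm
  obtain ⟨e', he'⟩ := exists_pow_eq_self_of_coprime (x := b) (n := k) (h2 ▸ hk.pow_right e)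
  obtain ⟨δ, θ, h4, h5, h6, ⟨S₁, h7, h7'⟩, h8, h9, h10⟩ := hB.exists_hat hP (centralizer (zpowers b : Set H)).subtype_injective
    (range_subtype _) (inclusion (hB.ab' hP)) (fun _ => rfl) (b := ⟨b, mem_zpowers b⟩) (b' := ⟨b ^ k, pow_mem (mem_zpowers b) k⟩)
    (fun c hc => hz c (mem_cen.1 hc)) (fun c hc => hz c (he' ▸ (mem_cen.1 hc).pow_right e'))
  have h11 := bd_central (N := 4 ^ (n * n) * n * 1) (gen_mul h4 (gen_comp (centralizer (zpowers b : Set H)).subtype (gen_of_irr hc)))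
    ((hB.nrm_mul (subtype_injective _) (range_subtype _) (gen_isClassFunction (gen_of_irr hc)) h5 h6).trans (by
      rw [← pow_mul, mul_comm _ 2, pow_mul, classInner_irr_self hc]
      push_cast
      norm_num)) (inclusion (hB.ab' hP)) (fun a => mem_center_iff.2 fun z => Subtype.ext (z.2 a a.2).symm) ⟨y, hy⟩
  simp only [Pi.mul_apply, h10 _ ⟨y, hy⟩ (by rwa [orderOf_mk])] at h11
  obtain ⟨S₂, h12, h12'⟩ : Bd (4 ^ (n * n) * n * 1) fun a : zpowers b => θ a * χ (a * y) := h11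
  have h13 : (S₁ ∪ S₂).card ^ 4 ≤ bd n 1 ^ 2 := by
    rw [bd, ← pow_mul]
    exact Nat.pow_le_pow_left ((Finset.card_union_le _ _).trans (add_le_add h7 h12)) _
  have h0 : Nat.card H ≠ 0 := Nat.card_pos.ne'
  have hm : r.Coprime (ordCompl[r] (Nat.card H)) := Nat.coprime_ordCompl hr.out h0
  have hd : ∀ a, ¬ r ∣ a → a ∣ Nat.card H → a ∣ ordCompl[r] (Nat.card H) := fun a h7 h10 => by
    rw [← Nat.ordProj_mul_ordCompl_eq_self (Nat.card H) r] at h10
    exact ((hr.out.coprime_iff_not_dvd.2 h7).symm.pow_right _).dvd_of_dvd_mul_left h10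
  obtain ⟨t, m, ht, hφt⟩ := exists_const hp.gen hp.nrm
  have key : ∀ i : Finset.Ioo 0 r, ∃ (u : ℕ) (ψ : IrrCharacter H), u ≡ i [MOD r] ∧ u.Coprime r ∧ ψ ∈ t ∧
      ∀ a : zpowers b, ψ.1 (a * y) = χ (a ^ u * y) := fun ⟨i, hi⟩ => by
    obtain ⟨u, h1, h2⟩ := Nat.chineseRemainder hm i 1
    have h3' : u.Coprime r := by
      rw [Nat.Coprime, h1.gcd_eq]
      exact (Nat.coprime_of_lt_prime (Finset.mem_Ioo.1 hi).1.ne' (Finset.mem_Ioo.1 hi).2 hr.out).symm
    have h4 : u.Coprime (ordCompl[r] (Nat.card H)) := by rw [Nat.Coprime, h2.gcd_eq, Nat.gcd_one_left]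
    obtain ⟨σ, hσ⟩ := GaloisBasic.exists_ringEquiv_pow (n := Nat.card H) (m := u) h0 (by
      rw [← Nat.ordProj_mul_ordCompl_eq_self (Nat.card H) r]
      exact (h3'.pow_right _).mul_right h4)
    have h6 := hp.rat.fix hp.gen σ fun a z h7 h8 h9 => by
      obtain ⟨b, hb⟩ := id h8
      rw [hσ z (by rw [hb, pow_mul, h9, one_pow]), pow_eq_pow_of_modEq (h2.of_dvd (hd a h7 h8)) h9, pow_one]
    refine ⟨u, ⟨_, GaloisIrr.isIrr_map σ hc⟩, h1, h3', by_contra fun h7 => ?_, fun a => ?_⟩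
    · have h8 := GaloisIrr.classInner_map σ (χ := φ) (isIrr_isCharacter hc)
      rw [funext h6] at h8
      refine h ((map_eq_zero σ).1 (h8.symm.trans ?_))
      rw [show φ = ∑ ψ ∈ t, (m ψ : ℂ) • (ψ : H → ℂ) from funext fun g => by
        rw [hφt, Finset.sum_apply]; rfl, classInner_sum_left]
      exact Finset.sum_eq_zero fun ψ hψ => by
        rw [classInner_smul_left, classInner_irr_ne ψ.2 (GaloisIrr.isIrr_map σ hc)
          fun e => h7 (by rwa [← show ψ = ⟨_, _⟩ from Subtype.ext e]), mul_zero]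
    · refine (GaloisBasic.map_apply_card σ hσ (isIrr_isCharacter hc) _).trans (congrArg χ ?_)
      rw [Commute.mul_pow (hy a a.2), pow_eq_pow_iff_modEq.2 (h2.of_dvd (hd _ h3 (orderOf_dvd_natCard y))), pow_one]
  choose u ψ k1 k2 k3 k4 using key
  obtain ⟨ψ₀, -, h14⟩ := Finset.exists_lt_card_fiber_of_mul_lt_card_of_maps_to (s := Finset.univ) (t := t) (f := ψ)
    (n := bd n 1 ^ 2) (fun i _ => k3 i) (by
      rw [Finset.card_univ, Fintype.card_coe, Nat.card_Ioo]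
      have := Nat.mul_le_mul_right (bd n 1 ^ 2) ht
      omega)
  obtain ⟨j, hj⟩ := Finset.card_pos.1 (Nat.zero_lt_of_lt h14)
  obtain ⟨i, hi, h15⟩ := RatA.exists_inj (S₁ ∪ S₂) (RatA.ord hP) _ u (fun i _ i' _ e => Subtype.ext (Nat.ModEq.eq_of_lt_of_lt
    ((k1 i).symm.trans (e.trans (k1 i'))) (Finset.mem_Ioo.1 i.2).2 (Finset.mem_Ioo.1 i'.2).2)) (k2 j) (h13.trans_lt h14)
  have h16 := RatA.cross (h7'.mono Finset.subset_union_left) (h12'.mono Finset.subset_union_right) h15 (fun a => by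
    rw [SubgroupClass.coe_pow, SubgroupClass.coe_pow, ← k4, ← k4, (Finset.mem_filter.1 hi).2, (Finset.mem_filter.1 hj).2]
    ring) ⟨b, mem_zpowers b⟩ ⟨b ^ k, pow_mem (mem_zpowers b) k⟩
  refine mul_left_cancel₀ (mul_ne_zero h8 h9) ?_
  rw [mul_assoc]
  exact h16.trans (by ring)

variable {p : ℕ} [Fact p.Prime] {k : Type} [Field k] [CharP k p] [IsAlgClosed k] {Y : Type} [Group Y] {N : Type}
  [Fintype N] [DecidableEq N] {ρ : Y →* GL N k} {F : MulAut Y} {G : Subgroup Y} {D : Datum p ρ F G}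
  {w : D.W} {c : Lbl D} {r : ℕ} [Fintype ↥(GF F G)] {χ : ↥(GF F G) → ℂ}

/-- **the constituents of `RW f w c` are rational at `r`** -/
theorem rat_has (hu : Hu1 D r) (f : Fr D) (hc : IsIrrCharacter _ χ) (h : Has f χ w c) (ho : ¬ r ∣ orderOf c) : RatR r χ := by
  have : Fact r.Prime := ⟨hu.prime⟩
  refine rat_con hu.big_GF ((Cf.sm f w ho).mono (card_le_nb D)) hc (fun e => h ?_) (RatA.num (nb_pos D) hu.big)
  rw [← classInner_conj_symm, e, map_zero]

end Cfsg.Agent.OM.Lie
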