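import Cfsg.Agent.OM.Lie.KbA
import Cfsg.Agent.OM.Lie.Rat
import Cfsg.Agent.OM.Cas.Unif

/-!
# OM / Lie, box `Kb` : the labels of the top block lie in the Levi subgroup (helper10)
-/

set_option autoImplicit false
set_option linter.unusedSectionVars false

namespace Cfsg.Agent.OM.Lie

open Cfsg Cfsg.Agent.DL Cfsg.Agent.DL.PP Cfsg.Agent.DL.Uni Matrix Cfsg.Agent.KZ.Lie Cfsg.Agent.HZ.L Cfsg.Agent.HZ.L.Cf
  Cfsg.Agent.HZ.Gen Cfsg.Agent.OM.On Cfsg.Agent.OM.Au Cfsg.Agent.OM.Cas Cfsg.Agent.Characters.Core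

variable {p : ℕ} [Fact p.Prime] {k : Type} [Field k] [CharP k p] [IsAlgClosed k] {Y : Type} [Group Y] {N : Type}
  [Fintype N] [DecidableEq N] {ρ : Y →* GL N k} {F : MulAut Y} {G : Subgroup Y} {D : Datum p ρ F G}

namespace Kb

variable {v w w' : D.W} {c c' : Lbl D} {T : Finset (Lbl D)} {Φ : D.W → Lbl D → ℂ} {r : ℕ}

variable (D) in
theorem exists_T : ∃ T : Finset (Lbl D), ∀ w c, Fx D w c → c ∈ T := by
  have h : (⋃ w, {c : Lbl D | Fx D w c}).Finite := Set.finite_iUnion fun w => finite_Fx D w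
  exact ⟨h.toFinset, fun w c e => h.mem_toFinset.2 (Set.mem_iUnion.2 ⟨w, e⟩)⟩

theorem fsum (hT : ∀ c, Fx D w c → c ∈ T) {a : Lbl D → ℂ} (ha : ∀ c, ¬ Fx D w c → a c = 0) : ∑ᶠ c, a c = ∑ c ∈ T, a c :=
  finsum_eq_sum_of_support_subset _ fun c hc => hT c (by_contra fun e => hc (ha c e))

/-- invariant functions -/
def Inv (Φ : D.W → Lbl D → ℂ) : Prop := ∀ v w w' c c', Tc D v w w' → Rel D v c c' → Φ w c = Φ w' c'

theorem tc_sub [Fintype ↥(GF F G)] (s : Sb D) [Fintype ↥(GF F s.K)] {v u u' : s.E.W} (h : Tc s.E v u u') :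
    Tc D (s.sw v) (s.sw u * s.w) (s.sw u' * s.w) := by
  rwa [KZ.Lie.tc_iff, s.WM_eq, s.WM_eq, s.Wm_eq, ← KZ.Lie.tc_iff] at h

variable [Fintype ↥(GF F G)] (f : Fr D)

theorem Yt_sum (hT : ∀ c, Fx D w c → c ∈ T) (χ : ↥(GF F G) → ℂ) : Yt f χ w = ∑ c ∈ T, classInner χ (RW f w c) :=
  fsum hT fun c e => by rw [RW_zero f e, classInner_zero_right]

theorem exists_tc (h : classInner (RW f w c) (RW f w' c') ≠ 0) : ∃ v, Tc D v w w' ∧ Rel D v c c' := by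
  rw [RW_ip f (by_contra fun e => h (by rw [RW_zero f e, classInner_zero_left]))
    (by_contra fun e => h (by rw [RW_zero f e, classInner_zero_right])), Nat.cast_ne_zero] at h
  obtain ⟨⟨v, hv⟩⟩ := (Nat.card_ne_zero.1 h).1
  exact ⟨v, hv⟩

theorem inv_mul (hΦ : Inv Φ) :
    Φ w' c' * classInner (RW f w c) (RW f w' c') = Φ w c * classInner (RW f w c) (RW f w' c') := by
  by_cases h : classInner (RW f w c) (RW f w' c') = 0
  · rw [h, mul_zero, mul_zero]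
  · obtain ⟨v, h1, h2⟩ := exists_tc f h
    rw [hΦ v _ _ _ _ h1 h2]

variable [Fintype D.W] (hq : D.QS) (hT : ∀ w c, Fx D w c → c ∈ T)
include hq hT

theorem sum_inv (hΦ : Inv Φ) (h : Fx D w c) :
    ∑ w', ∑ c' ∈ T, Φ w' c' * classInner (RW f w c) (RW f w' c') = Nat.card D.W * Φ w c := by
  have h1 := val_one f (RW f w c)
  have h2 : RW f w c 1 ≠ 0 := left_ne_zero_of_mul ((RW_deg f hq h).symm ▸ mul_ne_zero
    (left_ne_zero_of_mul_eq_one (sg_mul_self D w)) (Nat.cast_ne_zero.2 fun e : pc' p (GF F G) = 0 =>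
      not_dvd_pc' (p := p) (GF F G) (e ▸ dvd_zero p)))
  have h3 : ∀ {Φ : D.W → Lbl D → ℂ}, Inv Φ → ∑ w', ∑ c' ∈ T, Φ w' c' * classInner (RW f w c) (RW f w' c') =
      (∑ w', ∑ c' ∈ T, classInner (RW f w c) (RW f w' c')) * Φ w c := fun hΦ => by
    simp only [inv_mul f hΦ, Finset.sum_mul, mul_comm (classInner _ _)]
  rw [finsum_eq_sum_of_fintype, Finset.sum_congr rfl fun w' _ => (fsum (hT w') fun c' e => by
    rw [RW_zero f e, Pi.zero_apply, mul_zero]).trans (Finset.sum_congr rfl fun c' _ => mul_comm _ _),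
    h3 (Φ := fun w c => RW f w c 1) fun v _ _ _ _ e e' => congrFun (RW_conj f e e') 1, ← mul_assoc, eq_comm, mul_eq_right₀ h2,
    inv_mul_eq_one₀ (Nat.cast_ne_zero.2 Nat.card_pos.ne')] at h1
  rw [h3 hΦ, ← h1]

/-- `QQ` and the common eigenvalue -/
theorem van {𝔅 : Set (IrrCharacter ↥(GF F G))} (hQ : QQ f 𝔅) [Fintype (IrrCharacter ↥(GF F G))] {a : IrrCharacter ↥(GF F G) → ℂ}
    (ha : ∀ ξ, a ξ ≠ 0 → ξ ∈ 𝔅) {α β : D.W → ℂ} (hα : Iv D α) (hβ : Iv D β) {y : D.W → Lbl D → ℂ}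
    (hy : ∀ w c, y w c = ∑ ξ, a ξ * classInner (ξ : GF F G → ℂ) (RW f w c)) (h1 : ∑ w, ∑ c ∈ T, α w * y w c = 0)
    (h2 : ∑ w, ∑ c ∈ T, β w * y w c ≠ 0) : ∑ w, ∑ c ∈ T, cas D c α w * y w c = 0 := by
  classical
  have h3 : ∀ (α : D.W → ℂ) (a : IrrCharacter ↥(GF F G) → ℂ), ∑ w, ∑ c ∈ T, α w * ∑ ξ, a ξ * classInner (ξ : GF F G → ℂ) (RW f w c) =
      ∑ ξ, a ξ * ∑ᶠ w, α w * Yt f (ξ : GF F G → ℂ) w := fun α a => by
    simp only [finsum_eq_sum_of_fintype, Yt_sum f (hT _), Finset.mul_sum, mul_left_comm (a _)]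
    exact (Finset.sum_congr rfl fun w _ => Finset.sum_comm).trans Finset.sum_comm
  have h4 : ∀ α, Iv D α → ∀ χ ∈ 𝔅, (∑ ξ, a ξ * ∑ᶠ w, α w * Yt f (ξ : GF F G → ℂ) w) * (χ : GF F G → ℂ) 1 =
      (∑ᶠ w, α w * Yt f (χ : GF F G → ℂ) w) * ∑ ξ, a ξ * (ξ : GF F G → ℂ) 1 := fun α hα χ hχ => by
    rw [Finset.sum_mul, Finset.mul_sum]
    refine Finset.sum_congr rfl fun ξ _ => ?_
    by_cases e : a ξ = 0
    · rw [e, zero_mul, zero_mul, zero_mul, mul_zero]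
    · rw [mul_assoc, hQ α hα ξ (ha ξ e) χ hχ, mul_left_comm]
  simp only [hy, h3] at h1 h2
  obtain ⟨χ, -, h5⟩ := Finset.exists_ne_zero_of_sum_ne_zero h2
  have h6 := right_ne_zero_of_mul (h4 β hβ χ (ha χ (left_ne_zero_of_mul h5)) ▸ mul_ne_zero h2 (isIrr_apply_one_ne_zero χ.2))
  choose κ hκ using fun ξ : IrrCharacter ↥(GF F G) => casU f hq _ ξ.2
  have h7 : ∀ c w, cas D c (fun u => y u c) w = ∑ ξ, a ξ * κ ξ * classInner (ξ : GF F G → ℂ) (RW f w c) := fun c w => by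
    simp only [mul_assoc, ← hκ, cas, hy, Finset.mul_sum, mul_ite, mul_zero]
    rw [Finset.sum_comm]
    exact Finset.sum_congr rfl fun t _ => by split_ifs <;> simp
  rw [Finset.sum_comm, Finset.sum_congr rfl fun c _ => (cas_adj c α fun u => y u c).symm, Finset.sum_comm]
  simp only [h7, h3]
  refine Finset.sum_eq_zero fun ξ _ => ?_
  by_cases e : a ξ = 0
  · rw [e, zero_mul, zero_mul]
  · have h8 := h4 α hα ξ (ha ξ e)
    rw [h1, zero_mul, eq_comm, mul_eq_zero, or_iff_left h6] at h8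
    rw [h8, mul_zero]

variable {P : Subgroup ↥(GF F G)} {s : Sb D} [Fintype ↥(GF F s.K)] [Fintype s.E.W] {ψ : ↥(GF F s.K) → ℂ}

open Classical in
omit hq in
/-- the multiplicities of the characters over `ψ` -/
theorem y_eq [Fintype (IrrCharacter ↥(GF F G))] (hu : Hu1 D r) (hs : s.For r P) (hψ : IsIrrCharacter _ ψ) (hr : RatR r ψ) (w : D.W)
    (c : Lbl D) : ∑ ξ : IrrCharacter ↥(GF F G), (if RatR r (ξ : GF F G → ℂ) then classInner ψ (s.rs r P ξ) else 0) *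
      classInner (ξ : GF F G → ℂ) (RW f w c) = (Nat.card s.E.W : ℂ)⁻¹ * ∑ u, ∑ c' ∈ T,
        classInner (RW f (s.sw u * s.w) c') (RW f w c) * classInner ψ (RW (s.fr f) u c') := by
  have := Fact.mk hu.prime
  by_cases h0 : Fx D w c
  swap
  · simp only [RW_zero f h0, classInner_zero_right, zero_mul, mul_zero, Finset.sum_const_zero]
  by_cases hc : r ∣ orderOf c
  · rw [Finset.sum_eq_zero, Finset.sum_eq_zero, mul_zero]
    · refine fun u _ => Finset.sum_eq_zero fun c' _ => by_contra fun e => ?_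
      obtain ⟨v, -, h1⟩ := exists_tc f (left_ne_zero_of_mul e)
      exact lab (s.fr f) (sm_irr hψ hr) ((hu.sub s).lt ((one_mul _).trans_le (hu.sub s).card_le) (by norm_num)) hψ
        (by rw [classInner_irr_self hψ]; exact one_ne_zero) (right_ne_zero_of_mul e) (orderOf_rel h1 ▸ hc)
    · refine fun ξ _ => by_contra fun e => ?_
      exact lab f (sm_irr ξ.2 (ite_ne_right_iff.1 (left_ne_zero_of_mul e)).1) (hu.lt ((one_mul _).trans_le hu.card_le) (by norm_num))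
        ξ.2 (by rw [classInner_irr_self ξ.2]; exact one_ne_zero) (right_ne_zero_of_mul e) hc
  have h1 : s.rs r P (RW f w c) = (Nat.card s.E.W : ℂ)⁻¹ •
      ∑ u, ∑ c' ∈ T, classInner (RW f w c) (RW f (s.sw u * s.w) c') • RW (s.fr f) u c' := funext fun g => by
    rw [res' f s hu.ne hs (hu.bd_nb hu.card_le (by norm_num)) w hc, sum_rel f s h0, finsum_eq_sum_of_fintype,
      Finset.sum_congr rfl fun u _ => fsum (hT _) fun c' e => by rw [RW_zero f e, classInner_zero_right, zero_mul]]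
    simp only [Pi.smul_apply, Finset.sum_apply, smul_eq_mul]
  have h2 : s.rs r P (RW f w c) = ∑ ξ : IrrCharacter ↥(GF F G), classInner (RW f w c) ξ • s.rs r P ξ := funext fun g => by
    conv_lhs => rw [classFunction_eq_sum (OddOrderCharacters.VChar.gen_isClassFunction (RW_gen f w c))]
    simp only [Sb.rs, rs, Function.comp_apply, Finset.sum_apply, Pi.smul_apply]
  have h3 := congrArg (classInner ψ) (h2.symm.trans h1)
  simp only [classInner_smul_right, classInner_sum_right, classInner_conj_symm, map_inv₀, map_natCast] at h3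
  refine (Finset.sum_congr rfl fun ξ _ => ?_).trans h3
  by_cases e : classInner (ξ : GF F G → ℂ) (RW f w c) = 0
  · rw [e, mul_zero, zero_mul]
  · rw [if_pos (rat_has hu f ξ.2 e hc), mul_comm]

theorem sum_y {y : D.W → Lbl D → ℂ} (hy : ∀ w c, y w c = (Nat.card s.E.W : ℂ)⁻¹ * ∑ u, ∑ c' ∈ T,
    classInner (RW f (s.sw u * s.w) c') (RW f w c) * classInner ψ (RW (s.fr f) u c')) (hΦ : Inv Φ) {z : ℂ} {b : s.E.W → ℂ}
    (h : ∀ u c, Has (s.fr f) ψ u c → Φ (s.sw u * s.w) c = z * b u) :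
    ∑ w, ∑ c ∈ T, Φ w c * y w c = z * ((Nat.card s.E.W : ℂ)⁻¹ * Nat.card D.W * ∑ᶠ u, b u * Yt (s.fr f) ψ u) := by
  have h1 : ∀ u c', (∑ w, ∑ c ∈ T, Φ w c * classInner (RW f (s.sw u * s.w) c') (RW f w c)) * classInner ψ (RW (s.fr f) u c') =
      Nat.card D.W * (z * b u) * classInner ψ (RW (s.fr f) u c') := fun u c' => by
    by_cases e : Has (s.fr f) ψ u c'
    · rw [sum_inv f hq hT hΦ (s.fx_iff.1 e.fx), h u c' e]
    · rw [not_not.1 e, mul_zero, mul_zero]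
  have h2 : ∀ u, Yt (s.fr f) ψ u = ∑ c ∈ T, classInner ψ (RW (s.fr f) u c) := fun u =>
    Yt_sum (s.fr f) (fun c e => hT _ c (s.fx_iff.1 e)) ψ
  calc _ = (Nat.card s.E.W : ℂ)⁻¹ * ∑ u, ∑ c' ∈ T, (∑ w, ∑ c ∈ T, Φ w c * classInner (RW f (s.sw u * s.w) c') (RW f w c)) *
        classInner ψ (RW (s.fr f) u c') := by
        simp only [hy, Finset.mul_sum, Finset.sum_mul, mul_left_comm (Φ _ _), mul_assoc]
        rw [Finset.sum_congr rfl fun w _ => Finset.sum_comm, Finset.sum_comm]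
        refine Finset.sum_congr rfl fun u _ => ?_
        rw [Finset.sum_congr rfl fun w _ => Finset.sum_comm, Finset.sum_comm]
    _ = _ := by
        simp only [h1, h2, finsum_eq_sum_of_fintype, Finset.mul_sum]
        exact Finset.sum_congr rfl fun u _ => Finset.sum_congr rfl fun c _ => by ring

end Kb

open Kb in
/-- **the labels of the top block lie in the Levi subgroup** -/
theorem boxKb_of (ul : BoxUL) (el : AllD p fun D => BoxEl D) (ld : AllD p fun D => BoxLd D) (D : Datum p ρ F G)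
    [Fintype ↥(GF F G)] : BoxKb D := by
  classical
  intro j B l S M 𝔅 r P s _ lam b h1 H f hQ ψ hψ u₀ c₀ h0 a ha
  by_contra hn
  have := Fintype.ofFinite D.W
  have := @Fintype.ofFinite s.E.W (Finite.of_injective _ s.sw_injective)
  have := @Fintype.ofFinite _ (finite_irr (G := GF F G))
  have hs := H.rd.st
  obtain ⟨T, hT⟩ := exists_T D
  obtain ⟨μ, hμ⟩ := H.rd.ne
  obtain ⟨x₀, hx, -⟩ := H.rd.ph μ hμ
  obtain ⟨n, γ, g0, hg⟩ := exists_g ul hs hx {y | IsE (D.Wm s.w * B) μ y ∧ ∀ b ∈ rts s.E, ev b.1 y = 0} ha (by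
    obtain ⟨y, k1, k2, k3⟩ := (ld D).rt j B S r P s lam H.rd H.fo H.rt μ hμ a ha.1 hn
    exact ⟨y, ⟨k1, k2⟩, k3⟩)
  have h2 : ∀ u c, Has (s.fr f) (ψ : GF F s.K → ℂ) u c → rk (D.Wm (s.sw u * s.w) * B) x₀ = n + 1 ∧
      cas D c₀ (al B x₀ n) (s.sw u * s.w) = γ * al B x₀ (n + 1) (s.sw u * s.w) := fun u c e => hg _ (Set.ext fun y => by
    have k1 := (el D).tp j B l S M 𝔅 r P s lam b H f ψ hψ u c e μ hμ
    have k2 := fun k => isE_iff (A := D.Wm s.w * B) (μ := μ) (y := y) (s.mem_WW.2 ⟨u, rfl⟩) (V' := D.Wm (s.sw u)⁻¹)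
      (by rw [← D.Wm_mul, inv_mul_cancel, D.Wm_one]) k
    rw [s.Wm_eq] at k1
    rw [D.Wm_mul, mul_assoc]
    refine ⟨fun k => ?_, fun k => (k2 k.2).2 k.1⟩
    have k3 : ∀ b ∈ rts s.E, ev b.1 y = 0 := fun b hb => by_contra fun k4 => k1 ⟨y, k, b, hb, k4⟩
    exact ⟨(k2 k3).1 k, k3⟩)
  have h3 : ∀ i, Inv fun w (_ : Lbl D) => al B x₀ i w := fun i v _ _ _ _ e _ => iv_al hs x₀ i _ _ (cp_tc e)
  have h4 : ∀ u c, Has (s.fr f) (ψ : GF F s.K → ℂ) u c →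
      al B x₀ (n + 1) (s.sw u * s.w) = (Lie.ld (D.Wm (s.sw u * s.w) * B) x₀)⁻¹ := fun u c e => if_pos (h2 u c e).1
  have h5 := fun Φ hΦ z => sum_y f hs.qs hT (y_eq f hT H.hu H.fo ψ.2 (H.ratb ψ hψ)) (Φ := Φ) hΦ (z := z)
    (b := fun u => (Lie.ld (D.Wm (s.sw u * s.w) * B) x₀)⁻¹)
  have h6 := mul_ne_zero (mul_ne_zero (inv_ne_zero (Nat.cast_ne_zero.2 (Nat.card_pos (α := s.E.W)).ne' : (_ : ℂ) ≠ 0))
    (Nat.cast_ne_zero.2 (Nat.card_pos (α := D.W)).ne' : (_ : ℂ) ≠ 0))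
    ((ld D).ne j B l S M 𝔅 r P s lam b H f μ hμ x₀ (n + 1) hx ψ hψ fun u c e => (h2 u c e).1)
  refine mul_ne_zero g0 h6 ((h5 (fun w c => cas D c (al B x₀ n) w) (fun v _ _ _ _ e e' => cas_conj (iv_al hs x₀ n) e e') γ
    fun u c e => ?_).symm.trans (van f hs.qs hT hQ (fun ξ e => ?_) (iv_al hs x₀ n) (iv_al hs x₀ (n + 1)) (fun _ _ => rfl) ?_ ?_))
  · obtain ⟨v, hv⟩ := cj_iff.1 (h1 (s.fr f) _ ψ.2 u c u₀ c₀ e h0)
    have k1 : Tc s.E v u (v * u * (s.E.Fw v)⁻¹) := inv_mul_cancel_right _ _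
    have k2 := tc_sub s k1
    rw [cas_conj (iv_al hs x₀ n) k2 (s.rel_iff.1 hv), (h2 _ _ (e.conj k1 hv)).2, ← iv_al hs x₀ _ _ _ (cp_tc k2), h4 u c e]
  · obtain ⟨k1, k2⟩ := ite_ne_right_iff.1 e
    exact H.all ξ k1 ψ hψ fun k3 => k2 (by rw [← classInner_conj_symm, k3, map_zero])
  · exact (h5 _ (h3 n) 0 fun u c e => by rw [zero_mul, al, (h2 u c e).1, if_neg n.succ_ne_self]).trans (zero_mul _)
  · rw [h5 _ (h3 (n + 1)) 1 fun u c e => by rw [one_mul, h4 u c e], one_mul]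
    exact h6

end Cfsg.Agent.OM.Lie
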