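import Mathlib

/-!
# OM / Lie / UL0 : the rank one update of `det (x A - 1)` (pure linear algebra, helper20)
-/

set_option autoImplicit false
set_option linter.unusedSectionVars false

namespace Cfsg.Agent.OM.Lie.UL

open Matrix Polynomial

variable {R : Type} [Fintype R] [DecidableEq R]

/-- the rank one update over a field -/
theorem det_upd_field {K : Type*} [Field K] (B N : Matrix R R K) (d : K) (hd : d ≠ 0) (h : B * N = d • 1) (u v : R → K) :
    d * (B - vecMulVec u v).det = B.det * (d - v ⬝ᵥ (N *ᵥ u)) := by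
  have e : B - vecMulVec u v = B * (1 + vecMulVec (-(d⁻¹ • (N *ᵥ u))) v) := by
    rw [Matrix.mul_add, Matrix.mul_one, mul_vecMulVec, mulVec_neg, mulVec_smul, mulVec_mulVec, h, smul_mulVec, one_mulVec,
      smul_smul, inv_mul_cancel₀ hd, one_smul, neg_vecMulVec, sub_eq_add_neg]
  rw [e, det_mul, vecMulVec_eq Unit, det_one_add_replicateCol_mul_replicateRow, dotProduct_neg, dotProduct_smul, smul_eq_mul]
  field_simp
  ring

theorem det_upd_map {S K : Type*} [CommRing S] [Field K] (f : S →+* K) (hf : Function.Injective f) (B N : Matrix R R S) (d : S)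
    (hd : d ≠ 0) (h : B * N = d • 1) (u v : R → S) : d * (B - vecMulVec u v).det = B.det * (d - v ⬝ᵥ (N *ᵥ u)) := by
  have h1 : B.map f * N.map f = f d • 1 := by
    rw [← Matrix.map_mul, h]; ext i j; by_cases hij : i = j <;> simp [hij]
  have := det_upd_field (B.map f) (N.map f) (f d) (fun e => hd (hf (by rw [e, map_zero]))) h1 (f ∘ u) (f ∘ v)
  apply hf
  have e1 : f.mapMatrix (B - vecMulVec u v) = B.map f - vecMulVec (f ∘ u) (f ∘ v) := by ext i j; simp [vecMulVec_apply]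
  have e2 : f ∘ (N *ᵥ u) = N.map f *ᵥ (f ∘ u) := by ext i; exact RingHom.map_mulVec f N u i
  rw [map_mul, map_mul, RingHom.map_det, RingHom.map_det, map_sub f d, RingHom.map_dotProduct, e1, e2]
  exact this

/-- the rank one update over a domain -/
theorem det_upd {S : Type*} [CommRing S] [IsDomain S] (B N : Matrix R R S) (d : S) (hd : d ≠ 0) (h : B * N = d • 1)
    (u v : R → S) : d * (B - vecMulVec u v).det = B.det * (d - v ⬝ᵥ (N *ᵥ u)) :=
  det_upd_map (algebraMap S (FractionRing S)) (IsFractionRing.injective S _) B N d hd h u v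

/-- constant matrices -/
noncomputable def cm : Matrix R R ℂ →+* Matrix R R ℂ[X] := (C : ℂ →+* ℂ[X]).mapMatrix

/-- `det (x A - 1)` -/
noncomputable def dq (A : Matrix R R ℂ) : ℂ[X] := ((X : ℂ[X]) • cm A - 1).det

/-- the part of the eigenspace -/
noncomputable def dl (μ : ℂ) (P : Matrix R R ℂ) : ℂ[X] := ((X * C μ - 1 : ℂ[X]) • cm P + (1 - cm P)).det

theorem cm_smul (c : ℂ) (A : Matrix R R ℂ) : cm (c • A) = C c • cm A := by
  ext i j : 2; simp [cm]

theorem ev_cm (x : ℂ) (A : Matrix R R ℂ) : (cm A).map (evalRingHom x) = A := by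
  ext i j; simp [cm]

theorem dq_ne (A : Matrix R R ℂ) : dq A ≠ 0 := by
  intro h
  have := congrArg (evalRingHom 0) h
  rw [dq, RingHom.map_det, map_zero] at this
  have e : (evalRingHom (0 : ℂ)).mapMatrix ((X : ℂ[X]) • cm A - 1) = -1 := by
    ext i j; by_cases hij : i = j <;> simp [cm, hij]
  rw [e, det_neg, det_one] at this
  simp at this

/-- a projection on the eigenspace which commutes with `A` -/
structure Pj (A : Matrix R R ℂ) (μ : ℂ) (P : Matrix R R ℂ) : Prop where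
  l : A * P = μ • P
  r : P * A = μ • P
  fix : ∀ v, A *ᵥ v = μ • v → P *ᵥ v = v

theorem Pj.mem {A P : Matrix R R ℂ} {μ : ℂ} (h : Pj A μ P) (v : R → ℂ) : A *ᵥ (P *ᵥ v) = μ • (P *ᵥ v) := by
  rw [mulVec_mulVec, h.l, smul_mulVec]

theorem Pj.sq {A P : Matrix R R ℂ} {μ : ℂ} (h : Pj A μ P) : P * P = P := by
  apply Matrix.ext_iff_mulVec.2
  intro v
  rw [← mulVec_mulVec, h.fix _ (h.mem v)]

theorem core {A P : Matrix R R ℂ} {μ x₀ : ℂ} (hx : μ * x₀ = 1) (h : Pj A μ P) :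
    ∃ m : ℂ[X], dq A = m * dl μ P ∧ m.eval x₀ ≠ 0 ∧ ∀ u v : R → ℂ,
      (v ᵥ* P = 0 → dl μ P ∣ dq ((1 - vecMulVec u v) * A)) ∧
      ∃ N : ℂ[X], (X * C μ - 1) * dq ((1 - vecMulVec u v) * A) = dl μ P * N ∧ N.eval x₀ = -m.eval x₀ * (v ⬝ᵥ (P *ᵥ u)) := by
  have hl : cm A * cm P = C μ • cm P := by rw [← map_mul, h.l, cm_smul]
  have hr : cm P * cm A = C μ • cm P := by rw [← map_mul, h.r, cm_smul]
  have hs : cm P * cm P = cm P := by rw [← map_mul, h.sq]
  set c : ℂ[X] := X * C μ - 1 with hc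
  set M : Matrix R R ℂ[X] := cm P + ((X : ℂ[X]) • cm A - 1) * (1 - cm P) with hM
  set D : Matrix R R ℂ[X] := c • cm P + (1 - cm P) with hD
  set D' : Matrix R R ℂ[X] := cm P + c • (1 - cm P) with hD'
  have hMD : (X : ℂ[X]) • cm A - 1 = M * D := by
    simp only [hM, hD, hc, mul_add, add_mul, mul_sub, sub_mul, smul_mul_assoc, mul_smul_comm, mul_one, one_mul, mul_assoc, hs,
      hl, smul_sub, smul_add, smul_smul]
    module
  have hDM : M * D = D * M := by
    rw [← hMD]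
    simp only [hM, hD, hc, mul_add, add_mul, mul_sub, sub_mul, smul_mul_assoc, mul_smul_comm, mul_one, one_mul, hs,
      hl, hr, ← mul_assoc, smul_sub, smul_add, smul_smul]
    module
  have hDD : D * D' = c • 1 := by
    simp only [hD, hD', mul_add, add_mul, mul_sub, sub_mul, smul_mul_assoc, mul_smul_comm, mul_one, one_mul, hs,
      smul_sub, smul_add, smul_smul]
    module
  have hM0 : M.map (evalRingHom x₀) = P + (x₀ • A - 1) * (1 - P) := by
    have : ∀ B : Matrix R R ℂ, (evalRingHom x₀).mapMatrix (cm B) = B := fun B => ev_cm x₀ B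
    have e : (evalRingHom x₀).mapMatrix ((X : ℂ[X]) • cm A) = x₀ • A := by ext i j; simp [cm, mul_comm x₀]
    show (evalRingHom x₀).mapMatrix M = _
    rw [hM, map_add, map_mul, map_sub, map_sub, map_one, this, e]
  have hPM : P * (P + (x₀ • A - 1) * (1 - P)) = P := by
    simp only [mul_add, mul_sub, sub_mul, smul_mul_assoc, mul_smul_comm, mul_one, one_mul, ← mul_assoc, h.sq, h.r, smul_smul,
      mul_comm x₀ μ, hx, one_smul]
    abel
  have hdet : (P + (x₀ • A - 1) * (1 - P)).det ≠ 0 := by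
    intro h0
    obtain ⟨v, hv, hv0⟩ := Matrix.exists_mulVec_eq_zero_iff.2 h0
    have h1 : P *ᵥ v = 0 := by rw [← hPM, ← mulVec_mulVec, hv0, mulVec_zero]
    rw [add_mulVec, h1, zero_add, ← mulVec_mulVec, sub_mulVec 1 P, one_mulVec, h1, sub_zero, sub_mulVec, one_mulVec,
      smul_mulVec, sub_eq_zero] at hv0
    have h2 : A *ᵥ v = μ • v := by
      conv_rhs => rw [← hv0, smul_smul, hx, one_smul]
    exact hv (by rw [← h.fix v h2, h1])
  have hm : M.det.eval x₀ = (P + (x₀ • A - 1) * (1 - P)).det := by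
    rw [← hM0]; exact RingHom.map_det (evalRingHom x₀) M
  have hMne : M.det ≠ 0 := fun e => hdet (by rw [← hm, e, eval_zero])
  have hcne : c ≠ 0 := fun e => by
    have := congrArg (eval 0) e
    simp [hc] at this
  refine ⟨M.det, by rw [dq, hMD, det_mul]; rfl, by rwa [hm], fun u v => ?_⟩
  have e1 : (X : ℂ[X]) • cm ((1 - vecMulVec u v) * A) - 1 =
      M * D - vecMulVec ((X : ℂ[X]) • (C ∘ u)) ((C ∘ v) ᵥ* cm A) := by
    rw [← hMD, map_mul, map_sub, map_one, sub_mul, one_mul, smul_sub, ← vecMulVec_mul, smul_vecMulVec, smul_mul_assoc]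
    have : cm (vecMulVec u v) = vecMulVec (C ∘ u) (C ∘ v) := by ext i j : 2; simp [cm, vecMulVec_apply]
    rw [this]; abel
  constructor
  · intro hv
    have hv' : (C ∘ v : R → ℂ[X]) ᵥ* cm P = 0 := by
      ext i : 1
      have := RingHom.map_vecMul (C : ℂ →+* ℂ[X]) P v i
      rw [hv] at this
      simpa [cm] using this.symm
    have : ((C ∘ v : R → ℂ[X]) ᵥ* cm A) ᵥ* D = (C ∘ v) ᵥ* cm A := by
      rw [hD, vecMul_add, vecMul_sub, vecMul_one, vecMul_smul, vecMul_vecMul, hl, vecMul_smul, hv']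
      simp
    rw [dq, e1, ← this, ← vecMulVec_mul, ← sub_mul, det_mul]
    exact Dvd.intro_left _ rfl
  · have hBN : (M * D) * (D' * M.adjugate) = (c * M.det) • 1 := by
      rw [mul_assoc, ← mul_assoc D, hDD, smul_mul_assoc, one_mul, mul_smul_comm, mul_adjugate, smul_smul]
    have := det_upd (M * D) (D' * M.adjugate) _ (mul_ne_zero hcne hMne) hBN ((X : ℂ[X]) • (C ∘ u)) ((C ∘ v) ᵥ* cm A)
    rw [← e1, det_mul] at this
    refine ⟨c * M.det - ((C ∘ v) ᵥ* cm A) ⬝ᵥ ((D' * M.adjugate) *ᵥ ((X : ℂ[X]) • (C ∘ u))), ?_, ?_⟩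
    · apply mul_left_cancel₀ hMne
      rw [dq, dl]
      linear_combination this
    · have hc0 : c.eval x₀ = 0 := by rw [hc, eval_sub, eval_mul, eval_X, eval_C, eval_one, mul_comm, hx, sub_self]
      have hD0 : D'.map (evalRingHom x₀) = P := by
        ext i j; simp [hD', cm, hc0]
      have k1 : (evalRingHom x₀) ∘ ((C ∘ v : R → ℂ[X]) ᵥ* cm A) = v ᵥ* A := by
        ext i
        rw [Function.comp_apply, RingHom.map_vecMul, ev_cm]
        congr 1; ext k; simp
      have k2 : (evalRingHom x₀) ∘ ((D' * M.adjugate) *ᵥ ((X : ℂ[X]) • (C ∘ u))) = (x₀ * M.det.eval x₀) • (P *ᵥ u) := by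
        ext i
        rw [Function.comp_apply, RingHom.map_mulVec, Matrix.map_mul, hD0]
        have a1 : M.adjugate.map (evalRingHom x₀) = (P + (x₀ • A - 1) * (1 - P)).adjugate := by
          rw [← hM0]; exact RingHom.map_adjugate (evalRingHom x₀) M
        have a2 : (evalRingHom x₀) ∘ ((X : ℂ[X]) • (C ∘ u : R → ℂ[X])) = x₀ • u := by ext k; simp [mul_comm x₀]
        have a3 : P * (P + (x₀ • A - 1) * (1 - P)).adjugate = M.det.eval x₀ • P := by
          have a4 : (P * (P + (x₀ • A - 1) * (1 - P))) * (P + (x₀ • A - 1) * (1 - P)).adjugate = M.det.eval x₀ • P := by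
            rw [mul_assoc, mul_adjugate, mul_smul_comm, mul_one, hm]
          rwa [hPM] at a4
        rw [a1, a2, a3, smul_mulVec, mulVec_smul, smul_smul, mul_comm]
      rw [eval_sub, eval_mul, hc0, zero_mul, zero_sub]
      have := RingHom.map_dotProduct (evalRingHom x₀) ((C ∘ v : R → ℂ[X]) ᵥ* cm A)
        ((D' * M.adjugate) *ᵥ ((X : ℂ[X]) • (C ∘ u)))
      rw [k1, k2, coe_evalRingHom] at this
      rw [this, ← dotProduct_mulVec, mulVec_smul, h.mem, dotProduct_smul, dotProduct_smul, smul_eq_mul, smul_eq_mul]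
      linear_combination (-(M.det.eval x₀) * (v ⬝ᵥ (P *ᵥ u))) * hx

/-- multiplicity and leading coefficient from a factorisation -/
theorem rm_of {p h : ℂ[X]} {x₀ : ℂ} {k : ℕ} (e : p = (X - C x₀) ^ k * h) (hh : h.eval x₀ ≠ 0) :
    p.rootMultiplicity x₀ = k ∧ (p /ₘ (X - C x₀) ^ p.rootMultiplicity x₀).eval x₀ = h.eval x₀ := by
  have h0 : h ≠ 0 := fun e => hh (by rw [e, eval_zero])
  have k1 : p.rootMultiplicity x₀ = k := by
    rw [e, mul_comm, rootMultiplicity_mul_X_sub_C_pow h0, rootMultiplicity_eq_zero hh, zero_add]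
  refine ⟨k1, ?_⟩
  rw [k1, e, mul_divByMonic_cancel_left _ ((monic_X_sub_C x₀).pow k)]

/-- the multiplicity -/
noncomputable def rq (A : Matrix R R ℂ) (x₀ : ℂ) : ℕ := (dq A).rootMultiplicity x₀

/-- the leading coefficient -/
noncomputable def lq (A : Matrix R R ℂ) (x₀ : ℂ) : ℂ := (dq A /ₘ (X - C x₀) ^ rq A x₀).eval x₀

theorem lq_ne (A : Matrix R R ℂ) (x₀ : ℂ) : lq A x₀ ≠ 0 := eval_divByMonic_pow_rootMultiplicity_ne_zero x₀ (dq_ne A)

theorem main {A P : Matrix R R ℂ} {μ x₀ : ℂ} (hx : μ * x₀ = 1) (h : Pj A μ P) :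
    rq A x₀ = (dl μ P).rootMultiplicity x₀ ∧ ∀ u v : R → ℂ,
      (v ᵥ* P = 0 → rq A x₀ ≤ rq ((1 - vecMulVec u v) * A) x₀) ∧
      (v ⬝ᵥ (P *ᵥ u) ≠ 0 → rq ((1 - vecMulVec u v) * A) x₀ + 1 = rq A x₀ ∧
        lq ((1 - vecMulVec u v) * A) x₀ = -x₀ * (v ⬝ᵥ (P *ᵥ u)) * lq A x₀) := by
  obtain ⟨m, h1, h2, h3⟩ := core hx h
  have hd : dl μ P ≠ 0 := fun e => dq_ne A (by rw [h1, e, mul_zero])
  set k := (dl μ P).rootMultiplicity x₀ with hk
  set δ := dl μ P /ₘ (X - C x₀) ^ k with hδ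
  have e1 : (X - C x₀) ^ k * δ = dl μ P := pow_mul_divByMonic_rootMultiplicity_eq _ _
  have e2 : δ.eval x₀ ≠ 0 := eval_divByMonic_pow_rootMultiplicity_ne_zero x₀ hd
  obtain ⟨r1, r2⟩ := rm_of (p := dq A) (h := m * δ) (x₀ := x₀) (k := k) (by rw [h1, ← e1]; ring)
    (by rw [eval_mul]; exact mul_ne_zero h2 e2)
  refine ⟨r1, fun u v => ⟨fun hv => ?_, fun hv => ?_⟩⟩
  · rw [rq, r1, rq, le_rootMultiplicity_iff (dq_ne _)]
    exact (Dvd.intro _ e1).trans ((h3 u v).1 hv)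
  · obtain ⟨N, n1, n2⟩ := (h3 u v).2
    set A' := (1 - vecMulVec u v) * A
    have f1 : (X - C x₀) ^ rq A' x₀ * (dq A' /ₘ (X - C x₀) ^ rq A' x₀) = dq A' := pow_mul_divByMonic_rootMultiplicity_eq _ _
    have hμ : μ ≠ 0 := left_ne_zero_of_mul_eq_one hx
    have c1 : (X * C μ - 1 : ℂ[X]) = (X - C x₀) * C μ := by
      rw [sub_mul, ← C_mul, mul_comm x₀, hx, C_1]
    obtain ⟨s1, s2⟩ := rm_of (p := dl μ P * N) (h := C μ * (dq A' /ₘ (X - C x₀) ^ rq A' x₀)) (x₀ := x₀) (k := rq A' x₀ + 1)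
      (by rw [← n1, c1]; linear_combination (-(X - C x₀) * C μ) * f1)
      (by rw [eval_mul, eval_C]; exact mul_ne_zero hμ (lq_ne A' x₀))
    obtain ⟨t1, t2⟩ := rm_of (p := dl μ P * N) (h := δ * N) (x₀ := x₀) (k := k) (by rw [← e1]; ring)
      (by rw [eval_mul, n2]; exact mul_ne_zero e2 (mul_ne_zero (neg_ne_zero.2 h2) hv))
    refine ⟨by rw [← s1, t1]; exact r1.symm, ?_⟩
    have q1 : μ * lq A' x₀ = δ.eval x₀ * (-m.eval x₀ * (v ⬝ᵥ (P *ᵥ u))) := by
      rw [← n2, ← eval_mul, ← t2, s2, eval_mul, eval_C]; rfl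
    have q2 : lq A x₀ = m.eval x₀ * δ.eval x₀ := by rw [← eval_mul, ← r2]; rfl
    rw [q2]
    linear_combination x₀ * q1 - lq A' x₀ * hx

end Cfsg.Agent.OM.Lie.UL
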