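import Cfsg.Agent.OM.Lie.UL0

/-!
# OM / Lie / UL1 : the invariant form of a finite group of matrices, orthogonal projections (helper20)
-/

set_option autoImplicit false
set_option linter.unusedSectionVars false

namespace Cfsg.Agent.OM.Lie.UL

open Matrix Polynomial

variable {R : Type} [Fintype R] [DecidableEq R]

/-- a positive definite hermitian form which is invariant under `Γ` -/
structure Hf (Γ : Submonoid (Matrix R R ℂ)) (h : (R → ℂ) → (R → ℂ) →ₗ[ℂ] ℂ) : Prop where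
  sy : ∀ x y, h y x = star (h x y)
  pos : ∀ x, x ≠ 0 → 0 < (h x x).re
  inv : ∀ U ∈ Γ, ∀ x y, h (U *ᵥ x) (U *ᵥ y) = h x y

theorem exists_hf (Γ : Submonoid (Matrix R R ℂ)) (hΓ : (Γ : Set (Matrix R R ℂ)).Finite) (hu : ∀ A ∈ Γ, IsUnit A) :
    ∃ h, Hf Γ h := by
  let h : (R → ℂ) → (R → ℂ) →ₗ[ℂ] ℂ := fun x =>
    { toFun := fun y => ∑ V ∈ hΓ.toFinset, star (V *ᵥ x) ⬝ᵥ (V *ᵥ y)
      map_add' := fun y z => by simp only [mulVec_add, dotProduct_add, Finset.sum_add_distrib]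
      map_smul' := fun c y => by simp only [mulVec_smul, dotProduct_smul, RingHom.id_apply, Finset.smul_sum] }
  have hh : ∀ x y, h x y = ∑ V ∈ hΓ.toFinset, star (V *ᵥ x) ⬝ᵥ (V *ᵥ y) := fun _ _ => rfl
  have nn : ∀ z : R → ℂ, (star z ⬝ᵥ z).re = ∑ i, Complex.normSq (z i) := fun z => by
    rw [dotProduct, Complex.re_sum]
    refine Finset.sum_congr rfl fun i _ => ?_
    rw [Pi.star_apply, Complex.star_def, ← Complex.normSq_eq_conj_mul_self, Complex.ofReal_re]
  refine ⟨h, fun x y => ?_, fun x hx => ?_, fun U hU x y => ?_⟩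
  · rw [hh, hh, star_sum]
    refine Finset.sum_congr rfl fun V _ => ?_
    rw [star_dotProduct]
  · rw [hh, Complex.re_sum]
    refine Finset.sum_pos' (fun V _ => ?_) ⟨1, by simp, ?_⟩
    · rw [nn]; exact Finset.sum_nonneg fun i _ => Complex.normSq_nonneg _
    · rw [nn, one_mulVec]
      obtain ⟨i, hi⟩ := Function.ne_iff.1 hx
      exact Finset.sum_pos' (fun i _ => Complex.normSq_nonneg _) ⟨i, Finset.mem_univ _, Complex.normSq_pos.2 hi⟩
  · rw [hh, hh]
    simp only [mulVec_mulVec]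
    have hinj : Function.Injective fun V : Matrix R R ℂ => V * U := (hu U hU).mul_left_injective
    have him : hΓ.toFinset.image (fun V => V * U) = hΓ.toFinset := by
      classical
      apply Finset.eq_of_subset_of_card_le
      · intro W hW
        obtain ⟨V, hV, rfl⟩ := Finset.mem_image.1 hW
        rw [Set.Finite.mem_toFinset] at hV ⊢
        exact Γ.mul_mem hV hU
      · rw [Finset.card_image_of_injective _ hinj]
    conv_rhs => rw [← him, Finset.sum_image fun a _ b _ e => hinj e]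

section

variable {Γ : Submonoid (Matrix R R ℂ)} {h : (R → ℂ) → (R → ℂ) →ₗ[ℂ] ℂ}

theorem Hf.smul_l (H : Hf Γ h) (c : ℂ) (x y : R → ℂ) : h (c • x) y = star c * h x y := by
  rw [H.sy, map_smul, smul_eq_mul, star_mul', ← H.sy]

theorem Hf.sub_l (H : Hf Γ h) (x x' y : R → ℂ) : h (x - x') y = h x y - h x' y := by
  rw [H.sy, map_sub, star_sub, ← H.sy, ← H.sy]

theorem Hf.real (H : Hf Γ h) (x : R → ℂ) : ((h x x).re : ℂ) = h x x :=
  Complex.conj_eq_iff_re.1 (H.sy x x).symm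

theorem Hf.eq_zero (H : Hf Γ h) {x : R → ℂ} (e : h x x = 0) : x = 0 := by
  by_contra hx
  have := H.pos x hx
  rw [e] at this
  simp at this

/-- the orthogonal projection of `v` on `E` -/
noncomputable def pe (h : (R → ℂ) → (R → ℂ) →ₗ[ℂ] ℂ) (E : Set (R → ℂ)) (v : R → ℂ) : R → ℂ :=
  Classical.epsilon fun u => u ∈ E ∧ ∀ y ∈ E, h y u = h y v

theorem Hf.pe_eq (H : Hf Γ h) {E : Set (R → ℂ)} (hE : ∀ x ∈ E, ∀ y ∈ E, x - y ∈ E) {u v : R → ℂ} (hu : u ∈ E)
    (ho : ∀ y ∈ E, h y u = h y v) : pe h E v = u := by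
  have := Classical.epsilon_spec (p := fun u => u ∈ E ∧ ∀ y ∈ E, h y u = h y v) ⟨u, hu, ho⟩
  have hm := hE _ this.1 _ hu
  apply sub_eq_zero.1
  apply H.eq_zero
  rw [map_sub]
  exact sub_eq_zero.2 ((this.2 _ hm).trans (ho _ hm).symm)

/-- the orthogonal projection on an eigenspace -/
theorem Hf.exists_pj (H : Hf Γ h) (hΓ : (Γ : Set (Matrix R R ℂ)).Finite) (hu : ∀ A ∈ Γ, IsUnit A) {A : Matrix R R ℂ} {t μ x₀ : ℂ}
    (hx : μ * x₀ = 1) (ht : t • A ∈ Γ) :
    ∃ P, Pj A μ P ∧ ∀ y, A *ᵥ y = μ • y → ∀ v, h y (P *ᵥ v) = h y v := by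
  by_cases h0 : ∀ y, A *ᵥ y = μ • y → y = 0
  · refine ⟨0, ⟨by simp, by simp, fun v hv => by rw [h0 v hv, mulVec_zero]⟩, fun y hy v => ?_⟩
    rw [h0 y hy, H.sy _ 0, H.sy v 0]
    simp
  push Not at h0
  obtain ⟨y₀, hy₀, hne⟩ := h0
  obtain ⟨a, b, hab, e⟩ := hΓ.exists_lt_map_eq_of_forall_mem (f := fun i : ℕ => (t • A) ^ i) fun i => Γ.pow_mem ht i
  obtain ⟨n, rfl⟩ := Nat.exists_eq_add_of_lt hab
  have hn : (t • A) ^ (n + 1) = 1 := by
    apply ((hu _ ht).pow a).mul_left_cancel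
    rw [← pow_add, mul_one, ← add_assoc]; exact e.symm
  have hpw : ∀ (i : ℕ) y, A *ᵥ y = μ • y → (t • A) ^ i *ᵥ y = (t * μ) ^ i • y := fun i y hy => by
    induction i with
    | zero => simp
    | succ i ih => rw [pow_succ', ← mulVec_mulVec, ih, mulVec_smul, smul_mulVec, hy, smul_smul, smul_smul]; congr 1; ring
  have h1 : (t * μ) ^ (n + 1) = 1 := by
    have := hpw (n + 1) y₀ hy₀
    rw [hn, one_mulVec] at this
    by_contra hc
    apply hne
    have h2 : ((t * μ) ^ (n + 1) - 1) • y₀ = 0 := by rw [sub_smul, one_smul, ← this, sub_self]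
    exact (smul_eq_zero.1 h2).resolve_left (sub_ne_zero.2 hc)
  have h2 : star (t * μ) * (t * μ) = 1 := by
    have := H.inv _ ht y₀ y₀
    rw [smul_mulVec, hy₀, smul_smul, H.smul_l, map_smul, smul_eq_mul, ← mul_assoc] at this
    have h3 : h y₀ y₀ ≠ 0 := fun e => hne (H.eq_zero e)
    exact mul_right_cancel₀ h3 (by rw [this, one_mul])
  have hU : (x₀ • A) ^ (n + 1) = 1 := by
    have : (t * μ) ^ (n + 1) • (x₀ • A) ^ (n + 1) = (t • A) ^ (n + 1) := by
      rw [← _root_.smul_pow, smul_smul, mul_assoc, hx, mul_one]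
    rwa [h1, one_smul, hn] at this
  have hA : A = μ • (x₀ • A) := by rw [smul_smul, hx, one_smul]
  have hadj : ∀ y, A *ᵥ y = μ • y → ∀ v, h y ((x₀ • A) *ᵥ v) = h y v := fun y hy v => by
    have := H.inv _ ht y v
    rw [smul_mulVec, hy, smul_smul, H.smul_l, smul_mulVec, map_smul, smul_eq_mul] at this
    rw [smul_mulVec, map_smul, smul_eq_mul, ← this]
    linear_combination (-(x₀ * h y (A *ᵥ v))) * h2 + (star (t * μ) * t * h y (A *ᵥ v)) * hx
  have hadj' : ∀ (i : ℕ) y, A *ᵥ y = μ • y → ∀ v, h y ((x₀ • A) ^ i *ᵥ v) = h y v := fun i y hy v => by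
    induction i with
    | zero => simp
    | succ i ih => rw [pow_succ', ← mulVec_mulVec, hadj y hy, ih]
  have hfx : ∀ (i : ℕ) y, A *ᵥ y = μ • y → (x₀ • A) ^ i *ᵥ y = y := fun i y hy => by
    induction i with
    | zero => simp
    | succ i ih => rw [pow_succ', ← mulVec_mulVec, ih, smul_mulVec, hy, smul_smul, mul_comm, hx, one_smul]
  have hn0 : ((n + 1 : ℕ) : ℂ) ≠ 0 := Nat.cast_ne_zero.2 (Nat.succ_ne_zero n)
  set S := ∑ i ∈ Finset.range (n + 1), (x₀ • A) ^ i with hS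
  have s1 : (x₀ • A) * S = S := by
    have := mul_geom_sum (x₀ • A) (n + 1)
    rw [hU, sub_self, sub_mul, one_mul, sub_eq_zero] at this
    exact this
  have s2 : S * (x₀ • A) = S := by
    have := geom_sum_mul (x₀ • A) (n + 1)
    rw [hU, sub_self, mul_sub, mul_one, sub_eq_zero] at this
    exact this
  refine ⟨((n + 1 : ℕ) : ℂ)⁻¹ • S, ⟨?_, ?_, fun v hv => ?_⟩, fun y hy v => ?_⟩
  · conv_lhs => rw [hA, smul_mul_assoc, mul_smul_comm, s1]
  · conv_lhs => rw [hA, mul_smul_comm, smul_mul_assoc, s2]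
  · rw [smul_mulVec, hS, sum_mulVec, Finset.sum_congr rfl fun i _ => hfx i v hv, Finset.sum_const, Finset.card_range,
      ← Nat.cast_smul_eq_nsmul ℂ, smul_smul, inv_mul_cancel₀ hn0, one_smul]
  · rw [smul_mulVec, hS, sum_mulVec, map_smul, map_sum, Finset.sum_congr rfl fun i _ => hadj' i y hy v, Finset.sum_const,
      Finset.card_range, ← Nat.cast_smul_eq_nsmul ℂ, smul_smul, inv_mul_cancel₀ hn0, one_smul]

/-- a reflection in `Γ` is orthogonal -/
theorem Hf.refl (H : Hf Γ h) {u v : R → ℂ} (h2 : v ⬝ᵥ u = 2) (hs : 1 - vecMulVec u v ∈ Γ) (y : R → ℂ) :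
    (v ⬝ᵥ y) * h u u = 2 * h u y := by
  have e : ∀ z, (1 - vecMulVec u v) *ᵥ z = z - (v ⬝ᵥ z) • u := fun z => by
    rw [sub_mulVec, one_mulVec, vecMulVec_mulVec, op_smul_eq_smul]
  have := H.inv _ hs u y
  rw [e, e, h2, H.sub_l, H.smul_l, map_sub, map_smul, smul_eq_mul] at this
  have s2 : star (2 : ℂ) = 2 := by simp
  rw [s2] at this
  linear_combination this

end

end Cfsg.Agent.OM.Lie.UL
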