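import Cfsg.Agent.OM.Lie.Defs
import Cfsg.Agent.OM.Lie.UL1

/-!
# OM / Lie / UL : `boxUL` (helper20)
-/

set_option autoImplicit false
set_option linter.unusedSectionVars false

namespace Cfsg.Agent.OM.Lie

open Matrix Polynomial Cfsg.Agent.HZ.L

namespace UL

variable {R : Type} [Fintype R] [DecidableEq R]

/-- the complex vector -/
def cv (a : Vec R) : R → ℂ := fun i => (a i : ℂ)

theorem dp_eq (A : Mat R) : dp A = dq (cx A) := by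
  rw [dp, dz, dq, ← coe_mapRingHom, RingHom.map_det]
  congr 1
  ext i j : 2
  by_cases hij : i = j <;> simp [cm, cx, hij]

theorem rk_eq (A : Mat R) (x₀ : ℂ) : rk A x₀ = rq (cx A) x₀ := by rw [rk, rq, dp_eq]

theorem ld_eq (A : Mat R) (x₀ : ℂ) : ld A x₀ = lq (cx A) x₀ := by rw [ld, lq, dp_eq, rk_eq]

theorem cx_mul (A B : Mat R) : cx (A * B) = cx A * cx B := Matrix.map_mul (f := Int.castRingHom ℂ)

theorem cx_rfm (a : Vec R × Vec R) : cx (rfm a) = 1 - vecMulVec (cv a.2) (cv a.1) := by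
  ext i j
  by_cases hij : i = j <;> simp [cx, rfm, cv, hij, vecMulVec_apply]

theorem cv_dot (a b : Vec R) : cv a ⬝ᵥ cv b = ((a ⬝ᵥ b : ℤ) : ℂ) := by simp [cv, dotProduct]

theorem cx_cv (V : Mat R) (a : Vec R) : cx V *ᵥ cv a = cv (V *ᵥ a) := by
  ext i; simp [cx, cv, mulVec, dotProduct]

theorem mem_es {A : Mat R} {μ : ℂ} {y : R → ℂ} : y ∈ Es A μ ↔ cx A *ᵥ y = μ • y := Iff.rfl

theorem es_sub {A : Mat R} {μ : ℂ} : ∀ x ∈ Es A μ, ∀ y ∈ Es A μ, x - y ∈ Es A μ := fun x hx y hy => by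
  rw [mem_es] at hx hy ⊢
  rw [mulVec_sub, hx, hy, smul_sub]

end UL

open UL in
theorem boxUL : BoxUL := by
  intro R _ _ Ψ Γ hΓ hu hΨ μ x₀ hx
  obtain ⟨h, H⟩ := exists_hf Γ hΓ hu
  refine ⟨fun a E => 2 * (h (pe h E (cv a.2)) (pe h E (cv a.2))).re / (h (cv a.2) (cv a.2)).re, ?_⟩
  have hP : ∀ A : Mat R, (∃ t : ℂ, t ≠ 0 ∧ t • cx A ∈ Γ) → ∃ P, Pj (cx A) μ P ∧ (∀ y ∈ Es A μ, ∀ v, h y (P *ᵥ v) = h y v) ∧
      ∀ v, pe h (Es A μ) v = P *ᵥ v := by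
    rintro A ⟨t, -, ht⟩
    obtain ⟨P, h1, h2⟩ := H.exists_pj hΓ hu hx ht
    exact ⟨P, h1, h2, fun v => H.pe_eq es_sub (h1.mem v) fun y hy => h2 y hy v⟩
  intro A hA
  obtain ⟨P, h1, h2, h3⟩ := hP A hA
  obtain ⟨m1, m2⟩ := main hx h1
  refine ⟨fun A' hA' e => ?_, by rw [ld_eq]; exact lq_ne _ _, fun a ha => ?_⟩
  · obtain ⟨P', k1, -, k3⟩ := hP A' hA'
    have : P = P' := Matrix.ext_iff_mulVec.2 fun v => by rw [← h3, ← k3, e]
    rw [rk_eq, rk_eq, m1, (main hx k1).1, this]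
  have a2 : cv a.1 ⬝ᵥ cv a.2 = 2 := by rw [cv_dot, (hΨ a ha).1]; simp
  have a3 : 1 - vecMulVec (cv a.2) (cv a.1) ∈ Γ := by rw [← cx_rfm]; exact (hΨ a ha).2
  have a4 : cv a.2 ≠ 0 := fun e => by rw [e, dotProduct_zero] at a2; simp at a2
  have a5 := H.pos _ a4
  have a6 : h (cv a.2) (cv a.2) ≠ 0 := fun e => a4 (H.eq_zero e)
  have a7 : h (cv a.2) (P *ᵥ cv a.2) = h (P *ᵥ cv a.2) (P *ᵥ cv a.2) := by
    rw [H.sy, ← h2 _ (h1.mem _), ← H.sy]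
  refine ⟨fun hv => ?_, fun ⟨y, hy, hne⟩ => ?_, fun V hV b _ e => ?_⟩
  · rw [rk_eq, rk_eq, cx_mul, cx_rfm]
    refine (m2 _ _).1 ?_
    ext i
    have := hv _ (h1.mem (Pi.single i 1))
    change cv a.1 ⬝ᵥ _ = 0 at this
    rw [dotProduct_mulVec, dotProduct_single, mul_one] at this
    exact this
  · have b1 : P *ᵥ cv a.2 ≠ 0 := fun e => hne (by
      have c1 := h2 y hy (cv a.2)
      rw [e, map_zero] at c1
      have c2 := H.refl a2 a3 y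
      rw [H.sy y, ← c1, star_zero, mul_zero] at c2
      exact (mul_eq_zero.1 c2).resolve_right a6)
    have b2 := H.pos _ b1
    have b3 : cv a.1 ⬝ᵥ (P *ᵥ cv a.2) =
        ((2 * (h (P *ᵥ cv a.2) (P *ᵥ cv a.2)).re / (h (cv a.2) (cv a.2)).re : ℝ) : ℂ) := by
      push_cast
      rw [H.real, H.real, eq_div_iff a6, H.refl a2 a3, a7]
    have b4 : 0 < 2 * (h (P *ᵥ cv a.2) (P *ᵥ cv a.2)).re / (h (cv a.2) (cv a.2)).re := by positivity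
    obtain ⟨c1, c2⟩ := (m2 (cv a.2) (cv a.1)).2 (by rw [b3]; exact_mod_cast b4.ne')
    simp only [h3]
    refine ⟨b4, ?_, ?_⟩
    · rw [rk_eq, rk_eq, cx_mul, cx_rfm, c1]
    · rw [ld_eq, ld_eq, cx_mul, cx_rfm, c2, b3]
  · have e' : cv b.2 = cx V *ᵥ cv a.2 := by rw [cx_cv, e]
    have : pe h ((fun y => cx V *ᵥ y) '' Es A μ) (cv b.2) = cx V *ᵥ (P *ᵥ cv a.2) := by
      refine H.pe_eq ?_ ⟨_, h1.mem _, rfl⟩ ?_
      · rintro _ ⟨x, hx, rfl⟩ _ ⟨y, hy, rfl⟩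
        exact ⟨x - y, es_sub x hx y hy, mulVec_sub _ _ _⟩
      · rintro _ ⟨y, hy, rfl⟩
        rw [e', H.inv _ hV, H.inv _ hV, h2 y hy]
    simp only [this, h3]
    rw [e', H.inv _ hV, H.inv _ hV]

end Cfsg.Agent.OM.Lie
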