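import Cfsg.Agent.OM.Lie.Main
import Cfsg.Agent.OM.Cu.Defs

/-!
# OM / Lie: isolated labels, and the main class (helper3)

`boxIso_of : BoxF, BoxCusp, BoxPole, Cu.BoxCen, BoxCen2 → BoxIso`, `boxQ_of2`.
-/

set_option autoImplicit false
set_option linter.unusedSectionVars false
set_option maxHeartbeats 400000

namespace Cfsg.Agent.OM.Lie

open Cfsg Cfsg.Agent.DL Cfsg.Agent.DL.PP Cfsg.Agent.DL.Uni Cfsg.Agent.DL.Asm Cfsg.Agent.Nodes.Reps Matrix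
  Cfsg.Agent.KZ.Lie Cfsg.Agent.HZ.Gen Cfsg.Agent.ODD.Red Cfsg.Agent.HZ.L Cfsg.Agent.OM.On Cfsg.Agent.OM.Au

variable {p : ℕ} [Fact p.Prime] {k : Type} [Field k] [CharP k p] [IsAlgClosed k] {Y : Type} [Group Y] {N : Type}
  [Fintype N] [DecidableEq N] {ρ : Y →* GL N k} {F : MulAut Y} {G : Subgroup Y} (D : Datum p ρ F G)

/-- the `l`-elements of the torus of type `w` are central -/
def Ce (w : D.W) (l : ℕ) : Prop := ∀ (i : ℕ) (x : Vec D.R), (∀ s, (l : ℤ) ^ i ∣ ((D.Wm w * D.Mx - 1) *ᵥ x) s) →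
  ∀ a ∈ rts D, (l : ℤ) ^ i ∣ a.1 ⬝ᵥ x

variable [Fintype ↥(GF F G)]

/-- from the total multiplicities to all labels -/
def BoxPole : Prop := ∀ j B d, St D j B → 0 < d → ∀ (f : Fr D) χ, IsIrrCharacter _ χ →
  (∀ w, Yt f χ w ≠ 0 → Ell (rts D) (D.Wm w * B) (Sd d)) → ∀ w c, Has f χ w c → Ell (rts D) (D.Wm w * B) (Sd d)

/-- central defect -/
def BoxCen2 : Prop := ∀ l M, D.QS → l ≠ p → IsPModular l M → ∀ (f : Fr D) (𝔅 : Set (IrrCharacter ↥(GF F G))), IsPBlock M 𝔅 →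
  (∀ χ ∈ 𝔅, ∀ w c, Has f (χ : GF F G → ℂ) w c → Ce D w l) → EqD 𝔅

/-- elliptic blocks with isolated labels -/
def BoxIso : Prop := ∀ j B l, Cq D j B l → ∀ M, IsPModular l M → ∀ (f : Fr D) (𝔅 : Set (IrrCharacter ↥(GF F G))), IsPBlock M 𝔅 →
  ElB f B (Sd (dl l (p ^ j))) 𝔅 → IsoB f l 𝔅 → EqD 𝔅

theorem boxIso_of (hF : BoxF D) (hC : Cu.BoxCusp) (hP : BoxPole D) (hZ : Cu.BoxCen) (hE : BoxCen2 D) : BoxIso D := by
  intro j B l h M hM f 𝔅 hB hl hI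
  have := Fintype.ofFinite D.W
  have := Fact.mk h.lp
  have h0 : ¬ (l : ℤ) ∣ (p : ℤ) ^ j := fun e => h.ne ((Nat.prime_dvd_prime_iff_eq h.lp Fact.out).1
    (h.lp.dvd_of_dvd_pow (n := j) (by exact_mod_cast e)))
  have hq : Cu.Pq ((p : ℤ) ^ j) l (dl l (p ^ j)) (orderOf (((p : ℤ) ^ j : ℤ) : ZMod l)) := ⟨h.lp, h0, by rw [dl]; norm_cast, rfl⟩
  have he : 0 < orderOf (((p : ℤ) ^ j : ℤ) : ZMod l) :=
    (isOfFinOrder_iff_isUnit.2 (isUnit_iff_ne_zero.2 (mt (ZMod.intCast_zmod_eq_zero_iff_dvd _ _).1 h0))).orderOf_pos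
  have hb : ∀ w, Cu.Bad (rts D) (dl l (p ^ j)) (D.Wm w * B) ↔ ¬ Ell (rts D) (D.Wm w * B) (Sd (dl l (p ^ j))) := fun w => by
    simp only [Cu.Bad, Ell, Sd, Set.mem_setOf_eq, not_forall, not_not, exists_prop]
  refine hE l M h.st.qs h.ne hM f 𝔅 hB fun χ hχ w c hc => hZ p D j B h.st l _ _ hq w ?_
  rintro μ ⟨i, hμ⟩
  have h1 : IsOfFinOrder μ := isOfFinOrder_iff_pow_eq_one.2 ⟨_, mul_pos (pow_pos h.lp.pos i) he, by rw [pow_mul, hμ.pow_eq_one]⟩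
  refine hP j B _ h.st h1.orderOf_pos f χ χ.2 (fun u hu ν hν => ?_) w c hc μ (IsPrimitiveRoot.orderOf μ)
  obtain ⟨c', y, k1, k2, k3, χ', k4, k5⟩ := hF B l _ M h.st.qs h.ne hM f 𝔅 hB hl χ hχ u hu
  refine (hC p D j B h.st l _ _ hq h.sc c' ⟨_, k1, pow_orderOf_eq_one _⟩ y (fun v w w' _ => k2.inv v w w')
    (fun w _ e => not_not.1 fun e' => (hb w).1 e (k2.supp w e').2) (fun w t e1 e2 ⟨i, e3⟩ e4 => k2.cas w t i e3 e1 e4 ((hb w).1 e2))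
    u k5.fx k3).2 (hI χ' k4 u c' k5 k1) ν ⟨i, ?_⟩
  have := NeZero.mk h1.orderOf_pos.ne'
  obtain ⟨a, -, ha, rfl⟩ := ((IsPrimitiveRoot.orderOf μ).isPrimitiveRoot_iff (ξ := ν)).1 hν
  rw [← pow_mul, mul_comm, pow_mul]
  refine hμ.pow_of_coprime a (ha.coprime_dvd_right ?_)
  rw [hμ.eq_orderOf]
  exact orderOf_pow_dvd _

omit [Fintype ↥(GF F G)] D in
/-- **the main class** -/
theorem boxQ_of2 (I : BoxInd p) (rd : AllD p fun D => BoxRd D) (wk : AllD p fun D => BoxWk D) (cq : AllD p fun D => BoxCq D)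
    (iso : AllD p fun D => BoxIso D) : AllD p fun D => BoxQ D := by
  intro k _ _ _ Y _ N _ _ ρ F G D _ j₀ B₀ l h₀
  refine I l (Sd (dl l (p ^ j₀))) (fun D B => ∃ j, Cq D j B l ∧ dl l (p ^ j) = dl l (p ^ j₀)) h₀.lp h₀.ne ?_ D B₀ ⟨j₀, h₀, rfl⟩
  intro k _ _ _ Y _ N _ _ ρ F G D _ B ⟨j, h, e⟩
  rw [← e]
  refine ⟨⟨j, stW h.st⟩, h.cz, (cq D).ons j B l h, fun s lam h1 h2 => ⟨j, (cq D).sub j B l h s lam h1 h2, rfl⟩,
    ((cq D).pow j B l h).mono fun m h1 hm => ⟨_, h1 hm⟩, (cq D).fm j B l h.st h.lp h.ne, fun M hM => ?_, iso D j B l h⟩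
  refine ((rd D j B h.st _ (dl_pos (j := j) h.lp h.ne)).and (wk D j B l h.st h.lp h.ne M hM)).mono fun m ⟨h1, h2⟩ hm _ => ?_
  obtain ⟨⟨r, hr⟩, h3⟩ := h1 hm
  exact ⟨_, r, h3 r hr, hr.mr, h2 r hr⟩

end Cfsg.Agent.OM.Lie
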