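import Cfsg.Agent.OM.Lie.VanA
import Cfsg.Agent.OM.Lie.Iso
import Cfsg.Agent.BH.Row2L.LB
import Cfsg.Agent.Lib.Zsigmondy

/-!
# OM / Lie: from the total multiplicities to all labels (helper15)

`van_r` : primes which do not divide `|W|` (degree formula and `χ 1 * |T| ∣ |G|`);  `boxPole` : eigenvalues, by a lift.
-/

set_option autoImplicit false
set_option linter.unusedSectionVars false

namespace Cfsg.Agent.OM.Lie

open Cfsg Cfsg.Agent.DL Cfsg.Agent.DL.PP Cfsg.Agent.DL.Uni Cfsg.Agent.DL.Asm Matrix Polynomial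
  Cfsg.Agent.KZ.Lie Cfsg.Agent.HZ.Gen Cfsg.Agent.HZ.L Cfsg.Agent.OM.On Cfsg.Agent.OM.Au
  Cfsg.Agent.LV.Lift Cfsg.Agent.H593.GlaubermanP

variable {p : ℕ} [Fact p.Prime] {k : Type} [Field k] [CharP k p] [IsAlgClosed k] {Y : Type} [Group Y] {N : Type}
  [Fintype N] [DecidableEq N] {ρ : Y →* GL N k} {F : MulAut Y} {G : Subgroup Y} {D : Datum p ρ F G}

namespace Vn

theorem stb {j : ℕ} {B : Mat D.R} (h : St D j B) (w : D.W) : Stb (rts D) (D.Wm w * B) := by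
  rintro _ ⟨b, hb, rfl⟩
  obtain ⟨a, ha, rfl⟩ := gw_surj w hb
  exact ⟨_, rt_mem ha, h.wt_g w ha⟩

variable (D) in
/-- the sum over the Weyl group -/
theorem exists_pi : ∃ π : Mat D.R, π * π = (Nat.card D.W : ℤ) • π ∧ (∀ u, D.Wm u * D.Mx * π = D.Mx * π) ∧
    (∀ u, π * (D.Wm u * D.Mx) = D.Wm u * D.Mx * π) ∧ (∀ a ∈ rts D, a.1 ᵥ* π = 0) ∧
    ∀ (r : ℕ) x, (∀ a ∈ rts D, (r : ℤ) ∣ a.1 ⬝ᵥ x) → Dv r ((Nat.card D.W : ℤ) • x - π *ᵥ x) := by
  have := Fintype.ofFinite D.W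
  obtain ⟨π, hπ⟩ : ∃ π, π = ∑ v, D.Wm v := ⟨_, rfl⟩
  have a1 : ∀ u, D.Wm u * π = π := fun u => by
    rw [hπ, Finset.mul_sum, ← Equiv.sum_comp (Equiv.mulLeft u) D.Wm]
    exact Finset.sum_congr rfl fun v _ => (D.Wm_mul u v).symm
  have a2 : ∀ u, π * D.Wm u = π := fun u => by
    rw [hπ, Finset.sum_mul, ← Equiv.sum_comp (Equiv.mulRight u) D.Wm]
    exact Finset.sum_congr rfl fun v _ => (D.Wm_mul v u).symm
  have a3 : D.Mx * π = π * D.Mx := by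
    rw [hπ, Finset.mul_sum, ← D.Fw.toEquiv.sum_comp D.Wm, Finset.sum_mul]
    exact Finset.sum_congr rfl fun v _ => D.Mx_Wm v
  have hN : ∀ {A : Type} [AddCommGroup A] (x : A), ∑ _v : D.W, x = (Nat.card D.W : ℤ) • x := fun x => by
    rw [Finset.sum_const, Finset.card_univ, Nat.card_eq_fintype_card, natCast_zsmul]
  have h0 : π * π = (Nat.card D.W : ℤ) • π := by
    conv_lhs => rw [hπ, Finset.sum_mul, ← hπ]
    simp only [a1, hN]
  have h1 : ∀ u, D.Wm u * D.Mx * π = D.Mx * π := fun u => by rw [mul_assoc, a3, ← mul_assoc, a1]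
  have h2 : ∀ u, π * (D.Wm u * D.Mx) = D.Wm u * D.Mx * π := fun u => by rw [h1, ← mul_assoc, a2, a3]
  have h3 : ∀ a ∈ rts D, a.1 ᵥ* π = 0 := by
    rintro _ ⟨b, hb, rfl⟩
    have e := congrArg (D.wt b ᵥ* ·) (a1 (D.rf b))
    simp only [D.Wm_rf hb, ← vecMul_vecMul, vecMul_sub, vecMul_one, vecMul_vecMulVec, Cr.Grp.wt_cor hb, sub_vecMul,
      smul_vecMul, sub_eq_self] at e
    exact (smul_eq_zero.1 e).resolve_left two_ne_zero
  refine ⟨π, h0, h1, h2, h3, fun r x hx i => ?_⟩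
  rw [← hN, hπ, sum_mulVec, ← Finset.sum_sub_distrib, Finset.sum_apply]
  exact Finset.dvd_sum fun v _ => dvd_sub_comm.1 (dv_WW hx (Wm_mem v) i)

theorem not_nc {j r e : ℕ} {B : Mat D.R} {w : D.W} {μ : ℂ} (h : StW D j B) (hr : r.Prime) (hW : ¬ r ∣ Nat.card D.W)
    (hμ : IsPrimitiveRoot μ e) (he : 0 < e) (hE : Eig (rts D) (D.Wm w * B) μ)
    (hq : (r : ℤ) ∣ (cyclotomic e ℤ).eval ((p : ℤ) ^ j)) : ¬ Nc (rts D) (D.Wm w * D.Mx) r := by
  obtain ⟨π, h0, -, h2, h3, h4⟩ := exists_pi D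
  rw [nc_iff hr (fun e => hW (Int.natCast_dvd_natCast.1 e)) h0 (h2 w) h3 (h4 r), not_not, h.WM]
  refine hq.trans (dvd_dm (Nat.cast_ne_zero.2 Nat.card_pos.ne') h0 (smul_right_injective _
    (pow_ne_zero j (Nat.cast_ne_zero.2 (Fact.out : p.Prime).ne_zero) : (p : ℤ) ^ j ≠ 0) ?_) h3 hμ he hE)
  show ((p : ℤ) ^ j) • _ = ((p : ℤ) ^ j) • _
  rw [← mul_smul_comm, ← smul_mul_assoc _ (D.Wm w * B), ← h.WM, h2]

/-- `Nc` means that the `r`-part of the torus is as small as possible -/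
theorem exists_s {r : ℕ} (hr : r.Prime) (hW : ¬ r ∣ Nat.card D.W) :
    ∃ s, ∀ u, s ≤ (ordT D u).factorization r ∧ (Nc (rts D) (D.Wm u * D.Mx) r ↔ (ordT D u).factorization r ≤ s) := by
  obtain ⟨π, h0, h1, h2, h3, h4⟩ := exists_pi D
  have hW' : ¬ (r : ℤ) ∣ (Nat.card D.W : ℤ) := fun e => hW (Int.natCast_dvd_natCast.1 e)
  refine ⟨((D.Mx - 1) * π + ((Nat.card D.W : ℤ) • (1 : Mat D.R) - π)).det.natAbs.factorization r, fun u => ?_⟩
  have e := congrArg Int.natAbs (det_split h0 (h1 u) (h2 u))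
  rw [Int.natAbs_mul, Int.natAbs_mul, Int.natAbs_pow, Int.natAbs_mul, Int.natAbs_natCast, ← ordT] at e
  have z1 : (Nat.card D.W * Nat.card D.W) ^ Fintype.card D.R ≠ 0 := pow_ne_zero _ (mul_ne_zero Nat.card_pos.ne' Nat.card_pos.ne')
  have z2 := mul_ne_zero_iff.1 (e ▸ mul_ne_zero z1 (KZ.Lie.ordT_ne u))
  have e' := congrArg (fun n : ℕ => n.factorization r) e
  simp only [Nat.factorization_mul z2.1 z2.2, Finsupp.add_apply] at e'
  rw [Nat.factorization_mul z1 (KZ.Lie.ordT_ne u), Finsupp.add_apply, Nat.factorization_eq_zero_of_not_dvd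
    (fun h => hW ((hr.dvd_mul.1 (hr.dvd_of_dvd_pow h)).elim id id)), zero_add] at e'
  rw [nc_iff hr hW' h0 (h2 u) h3 (h4 r), ← e', Int.natCast_dvd, hr.dvd_iff_one_le_factorization z2.2]
  omega

variable [Fintype ↥(GF F G)] {f : Fr D} {χ : ↥(GF F G) → ℂ}

theorem yt_int (hχ : IsIrrCharacter _ χ) (w : D.W) : ∃ n : ℤ, Yt f χ w = n :=
  finsum_induction (fun x : ℂ => ∃ n : ℤ, x = n) ⟨0, Int.cast_zero.symm⟩
    (fun _ _ ⟨a, ha⟩ ⟨b, hb⟩ => ⟨a + b, by rw [ha, hb, Int.cast_add]⟩)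
    fun c => OddOrderCharacters.VChar.gen_inner (OddOrderCharacters.VChar.gen_of_irr hχ) (RW_gen f w c)

theorem deg_yt (hq : D.QS) (χ : ↥(GF F G) → ℂ) :
    (Nat.card D.W : ℂ) * χ 1 = ∑ᶠ w, Yt f χ w * (sg D w * pc' p (GF F G) / ordT D w) := by
  rw [val_one f χ, mul_inv_cancel_left₀ (Nat.cast_ne_zero.2 Nat.card_pos.ne')]
  refine finsum_congr fun w => ?_
  rw [Yt, finsum_mul]
  refine finsum_congr fun c => ?_
  by_cases hc : Fx D w c
  · rw [← RW_deg f hq hc, mul_div_cancel_right₀ _ (Nat.cast_ne_zero.2 (KZ.Lie.ordT_ne w))]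
  · simp [RW_zero f hc, classInner]

/-- **primes which do not divide `|W|`** -/
theorem van_r (hq : D.QS) {r : ℕ} (hr : r.Prime) (hp : r ≠ p) (hW : ¬ r ∣ Nat.card D.W) (hχ : IsIrrCharacter _ χ)
    (h : ∀ u, Yt f χ u ≠ 0 → Nc (rts D) (D.Wm u * D.Mx) r) {w : D.W} {c : Lbl D} (hw : Has f χ w c) :
    Nc (rts D) (D.Wm w * D.Mx) r := by
  obtain ⟨s, hs⟩ := exists_s hr hW
  have hr' : Prime (r : ℤ) := Nat.prime_iff_prime_int.1 hr
  obtain ⟨a, d, h1, h2⟩ := finsum_induction (f := fun w => Yt f χ w * (sg D w * pc' p (GF F G) / ordT D w))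
    (fun x : ℂ => ∃ a d : ℤ, ¬ (r : ℤ) ∣ d ∧ d * r ^ s * x = a * pc' p (GF F G)) ⟨0, 1, hr'.not_dvd_one, by simp⟩
    (fun x y ⟨a, d, h1, h2⟩ ⟨a', d', h1', h2'⟩ => ⟨a * d' + a' * d, d * d', fun e => (hr'.dvd_or_dvd e).elim h1 h1', by
      push_cast; linear_combination (d' : ℂ) * h2 + (d : ℂ) * h2'⟩)
    fun u => by
      by_cases h0 : Yt f χ u = 0
      · exact ⟨0, 1, hr'.not_dvd_one, by simp [h0]⟩
      obtain ⟨n, hn⟩ := yt_int (f := f) hχ u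
      have e : (ordT D u).factorization r = s := le_antisymm ((hs u).2.1 (h u h0)) (hs u).1
      have e' := congrArg (Nat.cast : ℕ → ℂ) (Nat.ordProj_mul_ordCompl_eq_self (ordT D u) r)
      refine ⟨n * sgZ D u, (ordT D u / r ^ (ordT D u).factorization r : ℕ), fun k =>
        Nat.not_dvd_ordCompl hr (KZ.Lie.ordT_ne u) (Int.natCast_dvd_natCast.1 k), ?_⟩
      rw [Nat.cast_mul, Nat.cast_pow, mul_comm] at e'
      rw [Int.cast_natCast, ← e, e', hn, sg_eq, Int.cast_mul, mul_left_comm,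
        mul_div_cancel₀ _ (Nat.cast_ne_zero.2 (KZ.Lie.ordT_ne u)), mul_assoc]
  rw [← deg_yt hq, Blocks.Knorr.charDegree_eq hχ] at h2
  have h3 : pc' p (GF F G) ∣ d.natAbs * Nat.card D.W * (r ^ s * charDegree χ) := by
    have h4 : d * r ^ s * ((Nat.card D.W : ℤ) * charDegree χ) = a * pc' p (GF F G) := by exact_mod_cast h2
    have h5 := congrArg Int.natAbs h4
    simp only [Int.natAbs_mul, Int.natAbs_pow, Int.natAbs_natCast] at h5
    exact Dvd.intro_left a.natAbs (by rw [← h5]; ring)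
  have h4 : r ^ (Nat.card (GF F G)).factorization r ∣ r ^ s * charDegree χ := by
    refine Nat.Coprime.dvd_of_dvd_mul_left (Nat.Coprime.pow_left _ (hr.coprime_iff_not_dvd.2 fun e =>
      (hr.dvd_mul.1 e).elim (fun e => h1 (Int.natCast_dvd.2 e)) hW)) (Dvd.dvd.trans ?_ h3)
    refine Nat.Coprime.dvd_of_dvd_mul_left (m := pc p (GF F G)) (Nat.Coprime.pow _ _ ((Nat.coprime_primes hr Fact.out).2 hp)) ?_
    rw [pc_mul_pc']
    exact Nat.ordProj_dvd _ _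
  have h5 : charDegree χ ≠ 0 := (Blocks.Basic.charDegree_pos hχ).ne'
  have h6 := (hr.pow_dvd_iff_le_factorization (mul_ne_zero (pow_ne_zero _ hr.ne_zero) h5)).1 h4
  rw [Nat.factorization_mul (pow_ne_zero _ hr.ne_zero) h5, Finsupp.add_apply, hr.factorization_pow, Finsupp.single_eq_same] at h6
  have h7 := BH.R2.LB.fac_le f hq hχ hw hr hp
  exact (hs w).2.2 (by omega)

theorem exists_r {j e : ℕ} (he : 0 < e) (hj : 6 < j) : ∃ r : ℕ, r.Prime ∧ j < r ∧ r ≠ p ∧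
    (r : ℤ) ∣ (cyclotomic e ℤ).eval ((p : ℤ) ^ j) ∧ ∀ e', 0 < e' → e' < r → (r : ℤ) ∣ (cyclotomic e' ℤ).eval ((p : ℤ) ^ j) → e' = e := by
  have h1 : j ≤ j * e := Nat.le_mul_of_pos_right _ he
  obtain ⟨r, hr, ho⟩ := Lib.Zsigmondy.exists_prime_orderOf (Fact.out : p.Prime).two_le (by omega : 2 ≤ j * e)
    (fun h => by omega) (fun h => by omega)
  have := Fact.mk hr
  have h0 : ((p : ℕ) : ZMod r) ≠ 0 := fun e => by rw [e, orderOf_zero] at ho; omega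
  have h2 : j * e < r := ho ▸ ZMod.orderOf_lt hr.one_lt _
  have h3 : orderOf (((p : ℤ) ^ j : ℤ) : ZMod r) = e := by
    rw [Int.cast_pow, Int.cast_natCast, orderOf_pow' _ (by omega), ho, Nat.gcd_mul_right_left, Nat.mul_div_cancel_left _ (by omega)]
  have key : ∀ e', 0 < e' → e' < r → ((r : ℤ) ∣ (cyclotomic e' ℤ).eval ((p : ℤ) ^ j) ↔ e' = e) := fun e' a b => by
    have : NeZero (e' : ZMod r) := NeZero.of_not_dvd _ (Nat.not_dvd_of_pos_of_lt a b)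
    rw [← ZMod.intCast_zmod_eq_zero_iff_dvd, ← eq_intCast (Int.castRingHom (ZMod r)), ← Int.cast_id (n := (p : ℤ) ^ j),
      ← eval_intCast_map, map_cyclotomic, ← IsRoot.def, isRoot_cyclotomic_iff, ← h3]
    exact ⟨IsPrimitiveRoot.eq_orderOf, fun h => h ▸ IsPrimitiveRoot.orderOf _⟩
  exact ⟨r, hr, by omega, fun e => h0 (by rw [← e, ZMod.natCast_self]),
    (key e he ((Nat.le_mul_of_pos_left _ (by omega)).trans_lt h2)).2 rfl, fun e' a b => (key e' a b).1⟩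

end Vn

open Vn

variable (D) [Fintype ↥(GF F G)]

/-- **from the total multiplicities to all labels** -/
theorem boxPole : BoxPole D := by
  intro j B e h he0 f χ hχ hY w c hw μ hμ hE
  have hd := f.L.d_pos
  obtain ⟨m, ⟨hm, hu⟩, hb⟩ := ((lg_up (stW h) f).and (Lg.gt (f.d * (Nat.card D.W + f.d + 6) + 1))).ex
  have : Fact m.Prime := ⟨hm.prime⟩
  have := finite_GF (D.pow hm.pos)
  have := Fintype.ofFinite (GF (F ^ m) G)
  obtain ⟨i, hi⟩ := hm.exists_eq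
  obtain ⟨f', h1⟩ := hu
  obtain ⟨φ, hφ, hU⟩ := exists_setup hm
  obtain ⟨g, -, h4, h5⟩ := exists_bij hU
  obtain ⟨a, h7, h8⟩ := h5 ⟨χ, hχ⟩
  obtain ⟨-, -, ε, h3, h6⟩ := h1 χ _ hχ (g ⟨χ, hχ⟩).2 (fun x x' hx => by
    rw [← (h4 _).2 ⟨_, rfl⟩ x, show x' = φ x from Subtype.ext (hx.trans (hφ x).symm)]) a h7 h8
  have hε : ε ≠ 0 := by rcases h3 with rfl | rfl <;> simp
  have hS := (stW h).pow f hm.pos hi
  have h9 : Nat.card D.W + f.d + 6 < f.e * i + j :=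
    (lt_of_mul_lt_mul_left (a := f.d) (by omega) (Nat.zero_le _)).trans_le
      ((Nat.le_mul_of_pos_left i f.L.e_pos).trans (Nat.le_add_right _ _))
  obtain ⟨r, hr, k1, k2, k3, k4⟩ := exists_r (p := p) he0 (show 6 < f.e * i + j by omega)
  have hW : ¬ r ∣ Nat.card (D.pow hm.pos).W := Nat.not_dvd_of_pos_of_lt Nat.card_pos (show Nat.card D.W < r by omega)
  refine not_nc hS hr hW hμ he0 hE k3 (van_r (f := f') hS.qs hr k2 hW (g ⟨χ, hχ⟩).2 (fun u hu => ?_) (c := c)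
    (by rw [Has, h6]; exact mul_ne_zero hε hw))
  rw [hS.WM]
  by_contra hn'
  obtain ⟨e', μ', he', hμ', hE', hq'⟩ := eig_of hd (h.pow_eq f.L u) (stb h u) hr hn'
  obtain rfl := k4 e' (Nat.pos_of_dvd_of_pos he' hd) ((Nat.le_of_dvd hd he').trans_lt (by omega)) hq'
  refine hY u (fun e => hu ?_) μ' hμ' hE'
  rw [Yt, finsum_congr (h6 u), ← mul_finsum]
  exact mul_eq_zero_of_right _ e

end Cfsg.Agent.OM.Lie
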