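import Cfsg.Agent.OM.Lie.Defs
import Cfsg.Agent.OM.On.Up
import Cfsg.Agent.OM.Au.Gr
import Cfsg.Agent.BZ.Lab.W
import Cfsg.Agent.BZ.Lab.St
import Cfsg.Agent.H592.Defect

/-!
# OM / Lie : the lift of a block, `boxUp` (helper78)
-/

set_option autoImplicit false
set_option linter.unusedSectionVars false

namespace Cfsg.Agent.OM.Lie

open Cfsg Cfsg.Agent.DL Cfsg.Agent.DL.PP Cfsg.Agent.DL.Uni Cfsg.Agent.DL.Asm Cfsg.Agent.Nodes.Reps Matrix Polynomial
  Cfsg.Agent.KZ.Lie Cfsg.Agent.HZ.Gen Cfsg.Agent.ODD.Red Cfsg.Agent.HZ.L Cfsg.Agent.OM.On Cfsg.Agent.OM.Au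
  Cfsg.Agent.LV.Lift Cfsg.Agent.H593.GlaubermanP Cfsg.Agent.Characters.Core

namespace Up78

section Grp

variable {H K : Type} [Group H] [Fintype H] [Group K] [Fintype K]

theorem inner_dl [DecidableEq H] (c : ℂ) {χ : H → ℂ} (h : IsIrrCharacter H χ) :
    classInner (fun g => if g = 1 then c else 0) χ = (Nat.card H : ℂ)⁻¹ * (c * charDegree χ) := by
  simp only [classInner_def, ite_mul, zero_mul, Finset.sum_ite_eq', Finset.mem_univ, if_true,
    Blocks.Basic.irr_one_eq_charDegree h, map_natCast]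

/-- **the degrees of Glauberman correspondents** -/
theorem deg_dvd {l n : ℕ} [Fact l.Prime] {φ : MulAut H} {ι : K →* H} (hS : Setup (Subgroup.zpowers φ) ι l)
    (hn : Nat.card H = Nat.card K * n) {β : K → ℂ} (hβ : IsIrrCharacter K β) (χ : IrrCharacter H)
    (h0 : ∀ g, (χ : H → ℂ) (φ g) = (χ : H → ℂ) g) {r : ℕ} (hr : ¬ l ∣ r) (hr' : classInner ((χ : H → ℂ) ∘ ι) β = r) :
    (l : ℤ) ∣ (n * charDegree β) ^ 2 - (charDegree (χ : H → ℂ)) ^ 2 := by
  classical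
  obtain ⟨ψ⟩ := CF.exists_embedding l
  obtain ⟨ε, h1, h2⟩ := glaub_mult ψ hS hβ χ h0 hr hr'
  have : Finite (IrrCharacter H) := finite_irr
  have := Fintype.ofFinite (IrrCharacter H)
  have k0 : (Nat.card H : ℂ) ≠ 0 := Nat.cast_ne_zero.2 Nat.card_pos.ne'
  have k1 : (Nat.card K : ℂ) ≠ 0 := Nat.cast_ne_zero.2 Nat.card_pos.ne'
  have h3 : ∀ η : IrrCharacter H, classInner (fun g : H => if g = 1 then (Nat.card H : ℂ) else 0) η =
      ((charDegree (η : H → ℂ) : ℤ) : ℂ) := fun η => by rw [inner_dl _ η.2, inv_mul_cancel_left₀ k0, Int.cast_natCast]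
  have h4 := h2 (fun g : H => if g = 1 then (Nat.card H : ℂ) else 0) (fun g : K => if g = 1 then (Nat.card H : ℂ) else 0)
    (isGeneralizedCharacter_iff.2 ⟨fun η => charDegree (η : H → ℂ), (classFunction_eq_sum fun g h => by
      simp only [conj_eq_one_iff]).trans (Finset.sum_congr rfl fun η _ => by rw [h3, Int.cast_smul_eq_zsmul])⟩)
    (fun g => by simp only [map_eq_one_iff φ φ.injective])
    (fun c => by simpa only [map_eq_one_iff ι hS.inj] using Sm.refl _) _ (n * charDegree β) (h3 χ) (by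
      rw [inner_dl _ hβ, hn, Nat.cast_mul, mul_assoc, inv_mul_cancel_left₀ k1]
      push_cast
      rfl)
  have h5 : ε * ε = 1 := by rcases h1 with rfl | rfl <;> rfl
  exact (h4.mul_right (n * charDegree β + ε * charDegree (χ : H → ℂ))).trans (dvd_of_eq (by
    linear_combination (-(charDegree (χ : H → ℂ) : ℤ) ^ 2) * h5))

end Grp

theorem cp_smul {R : Type} [Fintype R] [DecidableEq R] {A A' : Matrix R R ℤ} (h : A.charpoly = A'.charpoly) (t : ℤ) :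
    (t • A).charpoly = (t • A').charpoly := by
  refine Polynomial.map_injective (Int.castRingHom ℂ) Int.cast_injective (Polynomial.funext fun x => ?_)
  have key : ∀ A : Matrix R R ℤ, x • (1 : Matrix R R ℂ) - (t • A).map (Int.cast : ℤ → ℂ) =
      (-t : ℂ) • A.map (Int.cast : ℤ → ℂ) - (-x) • 1 := fun A => by
    ext a b
    simp only [Matrix.sub_apply, Matrix.smul_apply, map_apply, smul_eq_mul, Int.cast_mul]
    ring
  rw [← det_eval, ← det_eval, key, key, det_of_cp h]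

variable {p : ℕ} [Fact p.Prime] {k : Type} [Field k] [CharP k p] [IsAlgClosed k] {Y : Type} [Group Y] {N : Type}
  [Fintype N] [DecidableEq N] {ρ : Y →* GL N k} {F : MulAut Y} {G : Subgroup Y} {D : Datum p ρ F G}

theorem iv_pow {f : Fr D} {m : ℕ} (hl : Lp f m) {a : D.W → ℂ} (h : Iv (D.pow hl.pos) a) : Iv D a := fun w u e => h w u (by
  obtain ⟨i, hi⟩ := hl.exists_eq
  have h1 : D.Mx ^ m = ((p : ℤ) ^ (f.e * i)) • D.Mx := by rw [hi, add_comm, LV.One.pow_Mx f.L]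
  show (D.Wm w * D.Mx ^ m).charpoly = (D.Wm u * D.Mx ^ m).charpoly
  rw [h1, mul_smul_comm, mul_smul_comm]
  exact cp_smul e _)

variable [Fintype ↥(GF F G)]

/-- **the degree is an invariant combination of the total multiplicities** -/
theorem exists_deg (f : Fr D) (hq : D.QS) : ∃ a, Iv D a ∧ ∀ χ : GF F G → ℂ, χ 1 = ∑ᶠ w, a w * Yt f χ w := by
  refine ⟨fun w => (Nat.card D.W : ℂ)⁻¹ * (sg D w * pc' p (GF F G) / ordT D w), fun w u h => by
    simp only [h.sg, h.ordT], fun χ => ?_⟩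
  rw [val_one f χ, mul_finsum]
  refine finsum_congr fun w => ?_
  rw [mul_assoc]
  refine congrArg (fun x : ℂ => (Nat.card D.W : ℂ)⁻¹ * x) ((finsum_congr fun c => ?_).trans (mul_finsum _ _).symm)
  by_cases hc : Fx D w c
  · rw [← RW_deg f hq hc, mul_div_cancel_right₀ _ (Au.ordT_ne w), mul_comm]
  · simp [RW_zero f hc, classInner]

end Up78

variable {p : ℕ} [Fact p.Prime] {k : Type} [Field k] [CharP k p] [IsAlgClosed k] {Y : Type} [Group Y] {N : Type}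
  [Fintype N] [DecidableEq N] {ρ : Y →* GL N k} {F : MulAut Y} {G : Subgroup Y} (D : Datum p ρ F G) [Fintype ↥(GF F G)]

open Up78 in
/-- **[Up]** -/
theorem boxUp : BoxUp D := by
  intro j B l h hl _ hF f M 𝔅 hM hB
  have : Fact l.Prime := ⟨hl⟩
  obtain ⟨E, hE⟩ := H592.Defect.exists_defectGroup l hM hB
  refine ((hF.and (lg_up h f)).and ((h.lg_pr f (bd (sz1 D) (sz1 D ^ 8) + Nat.card (GF F G) + l)).and
    (Lg.gt (2 * Nat.card (GF F G))))).mono fun m ⟨⟨⟨n', N', α, fm⟩, hm, hu⟩, k3, k4⟩ => ?_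
  have : Fact m.Prime := ⟨hm.prime⟩
  have := finite_GF (D.pow hm.pos)
  have := Fintype.ofFinite (GF (F ^ m) G)
  obtain ⟨f', h1⟩ := hu
  obtain ⟨s, s1, s2⟩ := Nat.exists_infinite_primes (m + 1)
  have gl := (fm.fr s s2 s1).toGl
  have hi := Subgroup.inclusion_injective (le_pow (F := F) (G := G) m)
  have hx : ∀ g, α g = g ↔ ∃ c, Subgroup.inclusion (le_pow (F := F) (G := G) m) c = g := fun g =>
    ⟨fun e => ⟨⟨g, g.2.1, (fm.cm g).symm.trans (congrArg Subtype.val e)⟩, rfl⟩,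
      fun ⟨c, e⟩ => e ▸ Subtype.ext ((fm.cm _).trans c.2.2)⟩
  obtain ⟨e, -, e1, e2, -, e3⟩ := BZ.Lab.boxW_of BZ.Lab.boxSt _ gl hM hi hx 𝔅 E hB hE
  have h2 := fun χ (hχ : χ ∈ 𝔅) => (e3 χ hχ).2.elim fun a ha => (h1 χ (e χ) χ.2 (e χ).2 (fun g g' hg => by
    rw [show g' = α g from Subtype.ext (hg.trans (fm.cm g).symm)]
    exact e2 _ ⟨χ, hχ, rfl⟩ g) a ha.1 ha.2).2
  refine ⟨hm.pos, this, f', α, n', N', e, fm, e1, e2, fun χ hχ => (h2 χ hχ).2, fun h3 χ hχ χ' hχ' => ?_, fun h3 a ha => ?_,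
    fun w μ hμ => ?_⟩
  · have hS := setup gl.pow hi hx hm.ndvd
    obtain ⟨n, hn⟩ := Subgroup.card_dvd_of_injective _ hi
    have h4 := fun χ (hχ : χ ∈ 𝔅) => (e3 χ hχ).2.elim fun a ha => deg_dvd hS hn χ.2 (e χ) (e2 _ ⟨χ, hχ, rfl⟩) ha.1 ha.2
    have h5 := (h4 χ hχ).sub (h4 χ' hχ')
    have h6 := Nat.le_of_dvd Nat.card_pos (charDegree_dvd χ.2)
    have h7 := Nat.le_of_dvd Nat.card_pos (charDegree_dvd χ'.2)
    have h8 := Blocks.Basic.charDegree_pos χ.2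
    have h9 : ¬ (m : ℤ) ∣ n := fun k => gl.cop (hn ▸ (Int.natCast_dvd_natCast.1 k).mul_left _)
    have hp := Nat.prime_iff_prime_int.1 hm.prime
    rw [h3 _ ⟨χ, hχ, rfl⟩ _ ⟨χ', hχ', rfl⟩, sub_sub_sub_cancel_right, mul_pow, mul_pow, ← mul_sub, sq_sub_sq] at h5
    rcases hp.dvd_or_dvd ((hp.dvd_or_dvd h5).resolve_left fun k => h9 (hp.dvd_of_dvd_pow k)) with k | k
    · have := Int.le_of_dvd (by omega) k
      omega
    · have := Int.eq_zero_of_abs_lt_dvd k (abs_lt.2 (by omega))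
      omega
  · rintro _ ⟨χ, hχ, rfl⟩ _ ⟨χ', hχ', rfl⟩
    obtain ⟨d, d1, d2⟩ := exists_deg f' (LV.One.pow_QS h.qs hm.pos)
    have h4 : ∀ χ ∈ 𝔅, ∃ ε : ℂ, ∀ a : D.W → ℂ, ∑ᶠ w, a w * Yt f' (e χ) w = ε * ∑ᶠ w, a w * Yt f χ w := fun χ hχ =>
      (h2 χ hχ).2.imp fun ε hε a => by
        rw [mul_finsum]
        refine finsum_congr fun w => ?_
        rw [mul_left_comm]
        exact congrArg (a w * ·) ((finsum_congr (hε.2 w)).trans (mul_finsum _ _).symm)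
    obtain ⟨ε, h5⟩ := h4 χ hχ
    obtain ⟨ε', h6⟩ := h4 χ' hχ'
    have h7 := h3 a (iv_pow hm ha) χ hχ χ' hχ'
    have h8 := h3 d (iv_pow hm d1) χ hχ χ' hχ'
    refine (congrArg₂ (· * ·) (h5 a) ((d2 _).trans (h6 d))).trans
      (Eq.trans ?_ (congrArg₂ (· * ·) (h6 a) ((d2 _).trans (h5 d))).symm)
    refine mul_right_cancel₀ (isIrr_apply_one_ne_zero χ.2) ?_
    linear_combination (-ε * ε' * ∑ᶠ w, a w * Yt f χ w) * h8 + (ε * ε' * ∑ᶠ w, d w * Yt f χ w) * h7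
  · obtain ⟨r, k6, k7, k8, k9⟩ := k3 hm.pos w μ hμ
    refine ⟨r, ⟨k6, k7, lt_of_le_of_lt ((Nat.le_add_right _ _).trans (Nat.le_add_right _ _)) k8⟩, by omega, k9, ?_⟩
    rintro _ ⟨χ, hχ, rfl⟩
    exact (h2 χ hχ).1 r k6 (by omega)

end Cfsg.Agent.OM.Lie
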