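import Cfsg.Agent.OM.Lie.Iso
import Cfsg.Agent.OM.Lie.Up
import Cfsg.Agent.OM.Lie.Tp
import Cfsg.Agent.OM.Lie.El
import Cfsg.Agent.OM.Lie.Rd
import Cfsg.Agent.OM.Lie.Wk
import Cfsg.Agent.OM.Lie.Cq
import Cfsg.Agent.OM.Lie.DicPr
import Cfsg.Agent.OM.Lie.DicBk
import Cfsg.Agent.OM.Cu.Asm

/-!
# OM / Lie: the assembly up to the open boxes (helper3)
-/

set_option autoImplicit false

namespace Cfsg.Agent.OM.Lie

open Cfsg Cfsg.Agent.DL Cfsg.Agent.HZ.L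

variable {p : ℕ} [Fact p.Prime]

theorem boxDic : BoxDic := ⟨dic_pr, dic_back, dic_ph⟩

theorem boxRd : AllD p fun D => BoxRd D := fun D _ => boxRd_of boxDic D

theorem boxInd_of2 (kb : AllD p fun D => BoxKb D) (tr : AllD p fun D => BoxTr D) (bl : AllD p fun D => BoxBl D) : BoxInd p :=
  boxInd_of ⟨fun D _ => boxUp D, fun D _ => boxTp D, fun D _ => boxEl D, kb, tr, bl⟩

theorem boxQ_of3 (I : BoxInd p) (H : On.Bx p) (hC : Cu.BoxCusp) (f : AllD p fun D => BoxF D) (po : AllD p fun D => BoxPole D)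
    (ce : AllD p fun D => BoxCen2 D) : AllD p fun D => BoxQ D :=
  boxQ_of2 I boxRd (fun D _ => boxWk D) (fun D _ => boxCq_of H D) fun D _ => boxIso_of D (f D) hC (po D) Cu.boxCen' (ce D)

end Cfsg.Agent.OM.Lie
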