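import Cfsg.Agent.OM.Lie.Defs
import Cfsg.Agent.H730.OZ.Top

/-!
# OM / Lie, box Bl: the labels in a block have conjugate `l'`-parts (helper82)

The argument of Broue and Michel: the indicator function of `1` is, up to a unit, the `l`-regular part of a uniform virtual
character, and the truncation to the `l`-regular elements keeps the `l'`-parts of the labels.
-/

set_option autoImplicit false
set_option linter.unusedSectionVars false

namespace Cfsg.Agent.OM.Lie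

open Cfsg Cfsg.Agent.DL Cfsg.Agent.DL.PP Cfsg.Agent.DL.Uni Cfsg.Agent.DL.Asm Cfsg.Agent.Nodes.Reps Matrix
  Cfsg.Agent.KZ.Lie Cfsg.Agent.HZ.Gen Cfsg.Agent.ODD.Red Cfsg.Agent.HZ.L Cfsg.Agent.OM.On
  Cfsg.Agent.Characters.Core Cfsg.Agent.Blocks.Local Cfsg.Agent.LV.Blk
open scoped ComplexConjugate

namespace Bl

section Abs

variable {H : Type*} [Group H] [Fintype H] {ι : Type*} [Fintype ι]

theorem cut (Q : ι → H → ℂ) (a : ι → ℂ) (P : ι → Prop) [DecidablePred P] (J : Prop) [Decidable J] (χ : H → ℂ)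
    (h : ∀ i, classInner χ (Q i) ≠ 0 → (P i ↔ J)) :
    classInner χ (∑ i with P i, a i • Q i) = if J then classInner χ (∑ i, a i • Q i) else 0 := by
  rw [classInner_sum_right, classInner_sum_right, Finset.sum_filter]
  split_ifs with hJ
  · refine Finset.sum_congr rfl fun i _ => ?_
    split_ifs with hi
    · rfl
    · rw [classInner_smul_right, not_not.1 fun e => hi ((h i e).2 hJ), mul_zero]
  · refine Finset.sum_eq_zero fun i _ => ?_
    split_ifs with hi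
    · rw [classInner_smul_right, not_not.1 fun e => hJ ((h i e).1 hi), mul_zero]
    · rfl

/-- the abstract form -/
theorem sep {l m : ℕ} {M : Ideal AlgInt} (hM : IsPModular l M) (Q : ι → H → ℂ) (hQ : ∀ i, IsClassFunction H (Q i)) (a : ι → ℂ)
    (P : ι → Prop) (J : (H → ℂ) → Prop)
    (h1 : ∀ χ, IsIrrCharacter H χ → ∀ i, classInner χ (Q i) ≠ 0 → (P i ↔ J χ))
    (h2 : ∀ χ, IsIrrCharacter H χ → ∀ i, classInner χ (reg l * Q i) ≠ 0 → (P i ↔ J χ))
    (hg : IsGeneralizedCharacter H (∑ i, a i • Q i)) (hm : ¬ l ∣ m)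
    (h3 : ∀ g, g ≠ 1 → reg l g * (∑ i, a i • Q i) g = 0) (h3' : (∑ i, a i • Q i) 1 = m)
    {χ χ' : H → ℂ} (hχ : IsIrrCharacter H χ) (hχ' : IsIrrCharacter H χ') (hb : SameBlock M χ χ') (hJ : J χ) : J χ' := by
  classical
  have := isPrime_of_isPModular hM
  by_contra hn
  have h4 : IsClassFunction H (∑ i with P i, a i • Q i) := fun g x => by
    simp only [Finset.sum_apply, Pi.smul_apply, hQ _ g x]
  have h5 : IsGeneralizedCharacter H (∑ i with P i, a i • Q i) :=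
    Characters.Brauer.isGeneralizedCharacter_of_int h4 fun ψ hψ => by
      rw [← classInner_conj_symm, cut Q a P (J ψ) ψ (h1 ψ hψ)]
      split_ifs
      · obtain ⟨n, hn⟩ := inner_int (gen_of_irr hψ) hg
        exact ⟨n, by rw [hn, map_intCast]⟩
      · exact ⟨0, by rw [map_zero, Int.cast_zero]⟩
  have h6 : ∀ s : Finset ι, reg l * ∑ i ∈ s, a i • Q i = ∑ i ∈ s, a i • (reg l * Q i) := fun s => by
    simp only [Finset.mul_sum, mul_smul_comm]
  have h7 := om_congr (Blocks.Basic.irr_isClassFunction hχ) (Blocks.Basic.irr_isClassFunction hχ') hb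
    (φ := reg l * ∑ i with P i, a i • Q i) (fun g x => by rw [Pi.mul_apply, Pi.mul_apply, reg_cls, h4])
    fun g => (reg_int l g).mul (gen_int h5 g)
  rw [om, om, h6, cut _ a P _ χ (h2 χ hχ), cut _ a P _ χ' (h2 χ' hχ'), if_pos hJ, if_neg hn, mul_zero, zero_div, sub_zero, ← h6,
    ← om, om_eq, Finset.sum_eq_single 1 (fun g _ hg => by rw [Pi.mul_apply, h3 g hg, map_zero, mul_zero])
      fun e => absurd (Finset.mem_univ _) e, Pi.mul_apply, h3',
    reg_of (by rw [orderOf_one]; exact hM.1.not_dvd_one), one_mul, map_natCast, mul_div_cancel_left₀ _ (irr_one_ne hχ)] at h7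
  exact hm ((memLocalIdeal_natCast_iff hM _).1 h7)

end Abs

variable {p : ℕ} [Fact p.Prime] {k : Type} [Field k] [CharP k p] [IsAlgClosed k] {Y : Type} [Group Y] {N : Type}
  [Fintype N] [DecidableEq N] {ρ : Y →* GL N k} {F : MulAut Y} {G : Subgroup Y} {D : Datum p ρ F G} [Fintype ↥(GF F G)]

/-- the expansion of a uniform function -/
theorem unif_eq (f : Fr D) [∀ w, Fintype (FS D w)] [Fintype D.W] {u : Y → ℂ} (hu : IsUnif (GF F G) (tori D) (R D) u) :
    res (GF F G) u = ∑ x : Σ w, FS D w, ((Nat.card D.W : ℂ)⁻¹ * classInner (res (GF F G) u) (RW f x.1 x.2)) • RW f x.1 x.2 := by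
  have S := sys' D
  funext g
  refine (S.unif_eq_pr hu g g.2).trans ((usum_eq _ (g : Y) (fun w => ∑ᶠ c : Lbl D,
    classInner (res (GF F G) u) (RW f w c) * RW f w c g) fun y hy w hw => ?_).trans ?_)
  · have := S.finT (cj y D.T)
    have := finite_hom (cj y D.T ⊓ GF F G)
    have := Fintype.ofFinite (↥(cj y D.T ⊓ GF F G) →* ℂˣ)
    rw [S.R_eq_sum_lin (mem_tori hy hw) _ g g.2, Finset.sum_apply,
      ← sum_lab f hy hw (fun ψ => classInner (res (GF F G) u) ψ * ψ g) (by simp)]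
    refine Finset.sum_congr rfl fun θ _ => ?_
    rw [← S.ip_rst (mem_tori hy hw), ip_eq_classInner]
    rfl
  · rw [finsum_eq_sum_of_fintype, Finset.sum_apply, Fintype.sum_sigma, Finset.mul_sum]
    refine Finset.sum_congr rfl fun w _ => ?_
    rw [← finsum_subtype_eq_finsum _ (Fx D w) fun c hc => by rw [RW_zero f hc, Pi.zero_apply, mul_zero]]
    refine Eq.trans (congrArg _ (finsum_eq_sum_of_fintype (α := FS D w) _)) ?_
    rw [Finset.mul_sum]
    exact Finset.sum_congr rfl fun c _ => (mul_assoc _ _ _).symm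

variable (D) in
/-- a uniform virtual character whose `l`-regular part is supported at `1` -/
theorem exists_u {l : ℕ} (hl : l.Prime) (hp : l ≠ p) : ∃ (u : Y → ℂ) (m : ℕ), IsUnif (GF F G) (tori D) (R D) u ∧
    IsGeneralizedCharacter _ (res (GF F G) u) ∧ ¬ l ∣ m ∧ (∀ g : GF F G, g ≠ 1 → reg l g * u g = 0) ∧ u 1 = m := by
  obtain ⟨St, hSt⟩ := St.stD D
  let T := (Nat.card ↥(GF F G)).primeFactors.erase l
  have hT : ∀ r ∈ T, r.Prime := fun r hr => Nat.prime_of_mem_primeFactors (Finset.mem_of_mem_erase hr)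
  refine ⟨(fun y => ∏ r ∈ T, if r ∣ orderOf y then (0 : ℂ) else ((r ^ (Nat.card ↥(GF F G)).factorization r : ℕ) : ℂ)) * St,
    (∏ r ∈ T, r ^ (Nat.card ↥(GF F G)).factorization r) * p ^ (Nat.card ↥(GF F G)).factorization p,
    hSt.unif_mul_st (sys' D) fun g _ x _ => ?_, ?_, fun e => ?_, fun g hg => ?_, ?_⟩
  · rw [← MulAut.conj_apply, MulEquiv.orderOf_eq]
  · convert Characters.Brauer.isGeneralizedCharacter_mul (H730.OZ.gen_ind (G := ↥(GF F G)) T hT) (gen_of_irr hSt.irr) using 1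
    funext g
    simp only [res, Pi.mul_apply, Subgroup.orderOf_coe]
  · rcases hl.dvd_mul.1 e with e | e
    · obtain ⟨r, hr, e⟩ := (Prime.dvd_finsetProd_iff hl.prime _).1 e
      exact Finset.ne_of_mem_erase hr ((Nat.prime_dvd_prime_iff_eq hl (hT r hr)).1 (hl.dvd_of_dvd_pow e)).symm
    · exact hp ((Nat.prime_dvd_prime_iff_eq hl Fact.out).1 (hl.dvd_of_dvd_pow e))
  · obtain ⟨r, hr, h1⟩ := Nat.exists_prime_and_dvd (mt orderOf_eq_one_iff.1 hg)
    by_cases h2 : r = l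
    · rw [reg_of_not (h2 ▸ h1), zero_mul]
    · have h3 : r ∈ T := Finset.mem_erase.2 ⟨h2, Nat.mem_primeFactors.2 ⟨hr, h1.trans (orderOf_dvd_natCard g), Nat.card_pos.ne'⟩⟩
      refine mul_eq_zero_of_right _ (mul_eq_zero_of_left (Finset.prod_eq_zero h3 ?_) _)
      exact if_pos (h1.trans (Subgroup.orderOf_coe g).symm.dvd)
  · rw [Pi.mul_apply, hSt.deg, orderOf_one, Nat.cast_mul, Nat.cast_prod,
      Finset.prod_congr rfl fun r hr => if_neg (hT r hr).not_dvd_one]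

/-- **A set of labels which is closed under conjugation and multiplication by `l`-elements belongs to a union of blocks.** -/
theorem blk {l : ℕ} {M : Ideal AlgInt} (hO : On1 D) (hp : l ≠ p) (hM : IsPModular l M) (f : Fr D) {Λ : Set (Lbl D)}
    (h1 : ∀ v c c', Rel D v c c' → c ∈ Λ → c' ∈ Λ) (h2 : ∀ c t, IsL l t → c ∈ Λ → c * t ∈ Λ) {χ χ' : GF F G → ℂ}
    (hχ : IsIrrCharacter _ χ) (hχ' : IsIrrCharacter _ χ') (hb : SameBlock M χ χ') {w w' : D.W} {c c' : Lbl D}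
    (h : Has f χ w c) (h' : Has f χ' w' c') (hc : c ∈ Λ) : c' ∈ Λ := by
  have := fun w => Fintype.ofFinite (FS D w)
  have := Fintype.ofFinite D.W
  obtain ⟨u, m, h3, h4, h5, h6, h6'⟩ := exists_u D hM.1 hp
  have h7 : ∀ ψ, IsIrrCharacter _ ψ → ∀ w c, Has f ψ w c → (c ∈ Λ ↔ ∃ w c, Has f ψ w c ∧ c ∈ Λ) := fun ψ hψ w c e =>
    ⟨fun e' => ⟨w, c, e, e'⟩, fun ⟨w₁, c₁, e₁, e'⟩ => (cj_iff.1 (hO f ψ hψ w₁ c₁ w c e₁ e)).elim fun v hv => h1 v _ _ hv e'⟩
  refine (h7 χ' hχ' w' c' h').2 (sep hM (fun x : Σ w, FS D w => RW f x.1 x.2) (fun x => gen_cls (RW_gen f _ _)) _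
    (fun x => (x.2 : Lbl D) ∈ Λ) (fun ψ => ∃ w c, Has f ψ w c ∧ c ∈ Λ) (fun ψ hψ x e => h7 ψ hψ _ _ e) (fun ψ hψ x e => ?_)
    (unif_eq f h3 ▸ h4) h5 (fun g hg => by rw [← unif_eq f h3]; exact h6 g hg) (by rw [← unif_eq f h3]; exact h6')
    hχ hχ' hb ⟨w, c, h, hc⟩)
  have := Fintype.ofFinite (LV.Blk.LS D l x.1)
  have h8 := mul_ne_zero (pow_ne_zero ((ordT D x.1).factorization l) (Nat.cast_ne_zero.2 hM.1.ne_zero : (l : ℂ) ≠ 0)) e
  rw [← mL_reg f hM.1 hp x.2.2, mL_sum f x.2.2] at h8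
  obtain ⟨η, -, h9⟩ := Finset.exists_ne_zero_of_sum_ne_zero h8
  refine Iff.trans ⟨h2 _ _ η.2.2, fun e' => ?_⟩ (h7 ψ hψ _ _ h9)
  have h10 := h2 _ _ η.2.2.inv e'
  rwa [mul_inv_cancel_right] at h10

end Bl

variable {p : ℕ} [Fact p.Prime] {k : Type} [Field k] [CharP k p] [IsAlgClosed k] {Y : Type} [Group Y] {N : Type}
  [Fintype N] [DecidableEq N] {ρ : Y →* GL N k} {F : MulAut Y} {G : Subgroup Y} (D : Datum p ρ F G) [Fintype ↥(GF F G)]

/-- **Bl** -/
theorem boxBl : BoxBl D := by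
  rintro l M - hO hp hM f _ ⟨ξ, rfl⟩ χ hχ χ' hχ' w c w' c' h - h'
  have := isPrime_of_isPModular hM
  refine Bl.blk hO hp hM f (Λ := {c' | ∃ (v : D.W) (c₁ t : Lbl D) (i : ℕ), Rel D v c c₁ ∧ t ^ l ^ i = 1 ∧ c' = c₁ * t}) ?_ ?_
    χ.2 χ'.2 (Blocks.Basic.sameBlock_trans (Blocks.Basic.sameBlock_symm hχ) hχ') h h'
    ⟨1, c, 1, 0, rel_one D c, one_pow _, (mul_one c).symm⟩
  · rintro u _ c₂ hu ⟨v, c₁, t, i, h1, h2, rfl⟩
    have h3 : Rel D u t (mon (D.Wm u⁻¹)ᵀ t) := by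
      simpa only [inv_inv] using Rel.symm (D := D) (u := u⁻¹) (c' := t) fun x => (chr_tr D _ _ _).symm
    refine ⟨u * v, c₂ * (mon (D.Wm u⁻¹)ᵀ t)⁻¹, _, i, h1.trans fun x => ?_, eq_one_of_rel (v := u) fun x => ?_,
      (inv_mul_cancel_right _ _).symm⟩
    · rw [map_mul, map_inv, hu, h3, map_mul, mul_inv_cancel_right]
    · rw [map_pow, h3, ← map_pow, h2]
  · rintro _ t ht ⟨v, c₁, t', i, h1, h2, rfl⟩
    obtain ⟨j, hj⟩ := IsL.mul ⟨i, h2⟩ ht
    exact ⟨v, c₁, t' * t, j, h1, hj, mul_assoc _ _ _⟩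

end Cfsg.Agent.OM.Lie
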