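import Cfsg.Agent.H639.Cen
import Cfsg.Agent.S4714
import Cfsg.Agent.S0969

/-!
# OM / Lie: a block whose members vanish on the non-central `l`-elements has equal degrees (helper92)
-/

set_option autoImplicit false
set_option linter.unusedSectionVars false

namespace Cfsg.Agent.OM.Lie.CenP

open Cfsg Cfsg.Agent.H639 Cfsg.Agent.Characters

variable {L : Type*} [Group L] [Fintype L] {l : ℕ} [Fact l.Prime]

/-- the degree of a character with `Z` in its kernel which vanishes on the `l`-elements outside of `Z` -/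
theorem fac_eq {Z : Subgroup L} (hZ : Z ≤ Subgroup.center L) (hZp : IsPGroup l Z) (χ : IrrCharacter L)
    (hker : KerOn Z (χ : L → ℂ)) (hf : ∀ (x : L) (i : ℕ), orderOf x = l ^ i → x ∉ Z → (χ : L → ℂ) x = 0) :
    (charDegree (χ : L → ℂ)).factorization l = Z.index.factorization l := by
  classical
  obtain ⟨S₀, hS₀⟩ := hZp.exists_le_sylow
  obtain ⟨S, hS, hSp, hScard⟩ : ∃ S : Subgroup L, Z ≤ S ∧ IsPGroup l S ∧
      Nat.card S = l ^ (Nat.card L).factorization l :=
    ⟨S₀, hS₀, S₀.isPGroup', S₀.card_eq_multiplicity⟩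
  have hfS : Fintype S := Fintype.ofFinite _
  have hfD : Fintype Z := Fintype.ofFinite _
  obtain ⟨k, hk⟩ := Core.classInner_isNat (Core.isCharacter_comp S.subtype
    (Core.isIrr_isCharacter χ.2)) (Core.isCharacter_one (G := S))
  have h2 : ∑ s : S, (χ : L → ℂ) s = (Nat.card Z : ℂ) * (χ : L → ℂ) 1 := by
    have h3 : ∀ s : S, (χ : L → ℂ) s = if (s : L) ∈ Z then (χ : L → ℂ) 1 else 0 := by
      intro s
      split_ifs with h
      · exact hker s h
      · obtain ⟨j, hj⟩ := (IsPGroup.iff_orderOf.1 hSp) s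
        exact hf s j (by rw [← hj, ← Subgroup.orderOf_coe]) h
    rw [Finset.sum_congr rfl fun s _ => h3 s, ← Finset.sum_filter, Finset.sum_const,
      nsmul_eq_mul]
    congr 1
    have h4 : (Finset.univ.filter fun s : S => (s : L) ∈ Z).card = Fintype.card Z := by
      rw [← Fintype.card_subtype]
      refine Fintype.card_congr
        { toFun := fun s => ⟨s.1, s.2⟩
          invFun := fun d => ⟨⟨d.1, hS d.2⟩, d.2⟩
          left_inv := fun _ => rfl
          right_inv := fun _ => rfl }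
    rw [h4, Fintype.card_eq_nat_card]
  have h3 : (Nat.card S : ℂ) * k = (Nat.card Z : ℂ) * charDegree (χ : L → ℂ) := by
    rw [← hk, charDegree_eq, ← h2]
    unfold classInner
    have h4 : (Nat.card S : ℂ) ≠ 0 := Nat.cast_ne_zero.2 Nat.card_pos.ne'
    rw [mul_inv_cancel_left₀ h4]
    refine Finset.sum_congr rfl fun s _ => ?_
    simp
  have h4 : Nat.card S * k = Nat.card Z * charDegree (χ : L → ℂ) := by exact_mod_cast h3
  have hd0 : charDegree (χ : L → ℂ) ≠ 0 := by
    intro h
    have h5 := charDegree_eq χ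
    rw [h] at h5
    exact irr_one_ne_zero χ (by rw [← h5]; simp)
  have hk0 : k ≠ 0 := by
    rintro rfl
    rw [mul_zero] at h4
    exact mul_ne_zero Nat.card_pos.ne' hd0 h4.symm
  have h5 : (Nat.card S * k).factorization l =
      (Nat.card Z * charDegree (χ : L → ℂ)).factorization l := by rw [h4]
  rw [Nat.factorization_mul Nat.card_pos.ne' hk0, Nat.factorization_mul Nat.card_pos.ne' hd0,
    Finsupp.add_apply, Finsupp.add_apply, hScard] at h5
  have h6 : (l ^ (Nat.card L).factorization l).factorization l = (Nat.card L).factorization l := by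
    rw [Nat.factorization_pow, Finsupp.smul_apply, (Fact.out : l.Prime).factorization_self]
    simp
  rw [h6] at h5
  have hidx0 : Z.index ≠ 0 := Subgroup.index_ne_zero_of_finite
  have h7 : (Nat.card L).factorization l = (Nat.card Z).factorization l +
      Z.index.factorization l := by
    rw [← Z.card_mul_index, Nat.factorization_mul Nat.card_pos.ne' hidx0, Finsupp.add_apply]
  have h8 : (charDegree (χ : L → ℂ)).factorization l ≤ Z.index.factorization l :=
    (Nat.factorization_le_iff_dvd hd0 hidx0).2 (charDegree_dvd_index hZ χ) l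
  omega

/-- the central `l`-elements -/
theorem exists_Z (l : ℕ) [Fact l.Prime] : ∃ Z : Subgroup L, Z ≤ Subgroup.center L ∧ IsPGroup l Z ∧
    ∀ (x : L) (i : ℕ), orderOf x = l ^ i → x ∈ Subgroup.center L → x ∈ Z := by
  refine ⟨{ carrier := {x | x ∈ Subgroup.center L ∧ ∃ i, x ^ l ^ i = 1}
            mul_mem' := ?_, one_mem' := ⟨one_mem _, 0, one_pow _⟩, inv_mem' := ?_ }, fun x hx => hx.1, ?_, ?_⟩
  · rintro a b ⟨ha, i, hi⟩ ⟨hb, j, hj⟩
    refine ⟨mul_mem ha hb, i + j, ?_⟩
    have hc : Commute a b := (Subgroup.mem_center_iff.1 ha b).symm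
    rw [hc.mul_pow, pow_add, pow_mul, hi, one_pow, one_mul, mul_comm, pow_mul, hj, one_pow]
  · rintro a ⟨ha, i, hi⟩
    exact ⟨inv_mem ha, i, by rw [inv_pow, hi, inv_one]⟩
  · rintro ⟨x, hx, i, hi⟩
    exact ⟨i, Subtype.ext hi⟩
  · intro x i hi hx
    exact ⟨hx, i, by rw [← hi, pow_orderOf_eq_one]⟩

/-- **central defect** -/
theorem deg_eq {M : Ideal AlgInt} (hM : IsPModular l M) {B : Set (IrrCharacter L)} (hB : IsPBlock M B)
    (h : ∀ χ ∈ B, ∀ (x : L) (i : ℕ), orderOf x = l ^ i → (χ : L → ℂ) x ≠ 0 → x ∈ Subgroup.center L) :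
    ∀ ξ ∈ B, ∀ ξ' ∈ B, charDegree (ξ : L → ℂ) = charDegree (ξ' : L → ℂ) := by
  classical
  obtain ⟨Z, hZ, hZp, hall⟩ := exists_Z (L := L) l
  intro ξ hξ
  have hfin : Finite (IrrCharacter L) := Core.finite_irr
  have : Fintype B := Fintype.ofFinite _
  have h1 : ¬ l ∣ orderOf (1 : L) := by
    rw [orderOf_one]
    exact (Fact.out : l.Prime).one_lt.ne' ∘ Nat.dvd_one.1
  obtain ⟨θ, hθ, hker⟩ : ∃ θ ∈ B, KerOn Z (θ : L → ℂ) := by
    by_contra hne
    have h2 := apply_eq_sum_ker hM hZ hZp hB hξ h1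
    rw [Finset.sum_eq_zero, mul_zero] at h2
    · exact irr_one_ne_zero ξ h2
    · intro x hx
      exact absurd ⟨x.1, x.2, (Finset.mem_filter.1 hx).2⟩ hne
  have hdeg := fac_eq hZ hZp θ hker fun x i hi hx => by
    by_contra h0
    exact hx (hall x i hi (h θ hθ x i hi h0))
  have hD := (Cfsg.Agent.S0969.result l M hM Z hZp hZ θ hdeg).1
  have hMp : M.IsPrime := hM.2.1.isPrime
  rw [← Cfsg.Agent.Blocks.Basic.isPBlock_eq_blockOf hB hθ] at hD
  have hG : Z ⊔ Subgroup.centralizer (Z : Set L) = ⊤ := by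
    have : Subgroup.centralizer (Z : Set L) = ⊤ := by
      rw [eq_top_iff]
      intro g _
      rw [Subgroup.mem_centralizer_iff]
      intro d hd
      exact (Subgroup.mem_center_iff.1 (hZ hd) g).symm
    rw [this, sup_top_eq]
  have key : ∀ η ∈ B, (η : L → ℂ) 1 = (θ : L → ℂ) 1 := by
    intro η hη
    obtain ⟨ζ, hζ, -⟩ := ((Cfsg.Agent.S4714.result l M hM Z hZp hG B hB hD θ hθ hker).1 η).1 hη
    have h3 := hζ 1 1 h1 (Commute.one_left _)
    have : Fintype Z := Fintype.ofFinite _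
    have h4 : charDegree (ζ : Z → ℂ) = 1 := by
      have h5 := charDegree_dvd_index (D := (⊤ : Subgroup Z)) (fun z _ => Subgroup.mem_center_iff.2 fun g =>
        Subtype.ext (Subgroup.mem_center_iff.1 (hZ z.2) g)) ζ
      rwa [Subgroup.index_top, Nat.dvd_one] at h5
    have h6 := charDegree_eq ζ
    rw [h4, Nat.cast_one] at h6
    rw [← h6, one_mul, Subgroup.coe_one, one_mul] at h3
    exact h3
  intro ξ' hξ'
  have h7 : ((charDegree (ξ : L → ℂ) : ℕ) : ℂ) = (charDegree (ξ' : L → ℂ) : ℕ) := by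
    rw [charDegree_eq, charDegree_eq, key ξ hξ, key ξ' hξ']
  exact_mod_cast h7

end Cfsg.Agent.OM.Lie.CenP
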