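import Cfsg.Agent.OM.Lie.Iso
import Cfsg.Agent.OM.Lie.CenA

/-!
# OM / Lie: central defect (helper92)

`boxCen2 : BoxCen2 D`.
-/

set_option autoImplicit false
set_option linter.unusedSectionVars false

namespace Cfsg.Agent.OM.Lie

open Cfsg Cfsg.Agent.DL Cfsg.Agent.DL.PP Cfsg.Agent.DL.Uni Cfsg.Agent.DL.Asm Cfsg.Agent.Nodes.Reps Matrix
  Cfsg.Agent.KZ.Lie Cfsg.Agent.HZ.Gen Cfsg.Agent.ODD.Red Cfsg.Agent.HZ.L Cfsg.Agent.OM.On Cfsg.Agent.OM.Au

variable {p : ℕ} [Fact p.Prime] {k : Type} [Field k] [CharP k p] [IsAlgClosed k] {Y : Type} [Group Y] {N : Type}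
  [Fintype N] [DecidableEq N] {ρ : Y →* GL N k} {F : MulAut Y} {G : Subgroup Y} (D : Datum p ρ F G)

namespace CenP

/-- an element of the torus in the kernel of all roots is central -/
theorem cen_of_roots {t : Y} (ht : t ∈ D.T) (h : ∀ a, D.Rt a → D.χ a t = 1) {g : Y} (hg : g ∈ G) : t * g = g * t := by
  have h1 : G ≤ D.cen {t} := by
    refine D.G_eq.ge.trans ?_
    rw [Nodes.Bruhat.GG]
    exact sup_le (D.T_le_cen _) ((Nodes.BNOf.RGD.Sup_mono (S' := D.Sz {t}) fun a ha =>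
      ⟨ha, fun z hz => by rw [Set.mem_singleton_iff.1 hz]; exact h a ha⟩).trans (D.S_le_cen _))
  exact D.cen_le_centralizer (Set.singleton_subset_iff.2 ht) (h1 hg) t rfl

variable {D}

/-- the `l`-elements of a torus with `Ce` are central -/
theorem cen_of_ce {l : ℕ} (hl : l.Prime) {y : Y} {w : D.W} (hy : y ∈ G) (hw : D.Rp w (y⁻¹ * F y)) (h : Ce D w l) {x : Y}
    (hx : x ∈ Nodes.Reps.cj y D.T) (hF : F x = x) {i : ℕ} (hi : orderOf x = l ^ i) {g : Y} (hg : g ∈ G) : x * g = g * x := by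
  obtain ⟨ζ, v, -, h1, h2⟩ := TO.X.Cn.exists_exp D (mem_cj.1 hx)
  have e : x = y * D.τ (coch v ζ) * y⁻¹ := by rw [← h2]; group
  have h3 : orderOf (y⁻¹ * x * y) = l ^ i := by
    rw [← hi, ← (MulAut.conj y⁻¹).orderOf_eq x, MulAut.conj_apply, inv_inv]
  rw [h3] at h1
  obtain ⟨j, -, hj⟩ := (Nat.dvd_prime_pow hl).1 h1
  have h4 : mon (D.Wm w * D.Mx) (coch v ζ) = coch v ζ := by
    rw [e, F_cj_τ hw, mul_left_inj, mul_right_inj] at hF
    exact D.τ_inj hF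
  have h5 := (mon_coch_iff (IsPrimitiveRoot.orderOf ζ) _ _).1 h4
  rw [hj] at h5
  have h6 := h j v (by exact_mod_cast h5)
  have h7 := cen_of_roots D (D.τ_mem (coch v ζ)) (fun a ha => (TO.X.Cn.χ_exp D a v ζ).2 (by
    rw [hj]
    exact_mod_cast h6 _ ⟨a, ha, rfl⟩)) (G.mul_mem (G.mul_mem (G.inv_mem hy) hg) hy)
  rw [e]
  calc y * D.τ (coch v ζ) * y⁻¹ * g = y * (D.τ (coch v ζ) * (y⁻¹ * g * y)) * y⁻¹ := by group
    _ = g * (y * D.τ (coch v ζ) * y⁻¹) := by rw [h7]; group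

variable [Fintype ↥(GF F G)]

/-- a character which does not vanish at a semisimple element has a label in a torus through it -/
theorem exists_has (f : Fr D) {χ : GF F G → ℂ} (hχ : IsIrrCharacter _ χ) {x : GF F G} (hx : ¬ p ∣ orderOf x) (h0 : χ x ≠ 0) :
    ∃ y ∈ G, ∃ w c, D.Rp w (y⁻¹ * F y) ∧ (x : Y) ∈ Nodes.Reps.cj y D.T ∧ Has f χ w c := by
  classical
  have S := sys' D
  obtain ⟨St, hSt⟩ := DL.St.stD D
  have hr : res (GF F G) (extendByZero (GF F G) χ) = χ := funext fun g => Characters.Core.extendByZero_of_mem _ _ g.2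
  have hc : IsCls (GF F G) (extendByZero (GF F G) χ) := isCls_of_irr (by rw [hr]; exact hχ)
  have h1 := hSt.mul_st_eq S hc x x.2
  have h2 : extendByZero (GF F G) χ x * St x ≠ 0 :=
    mul_ne_zero (by rw [show extendByZero (GF F G) χ x = χ x from congrFun hr x]; exact h0)
      (hSt.ne_zero S x.2 (by rw [IsSs, Subgroup.orderOf_coe]; exact hx))
  rw [h1] at h2
  obtain ⟨T, hT, h3⟩ := Finset.exists_ne_zero_of_sum_ne_zero h2
  obtain ⟨hT, hxT⟩ := Finset.mem_filter.1 hT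
  have hT := S.mem_tori.1 hT
  have := S.finT T
  have := finite_hom (T ⊓ GF F G)
  have := Fintype.ofFinite (↥(T ⊓ GF F G) →* ℂˣ)
  obtain ⟨θ, hθ⟩ : ∃ θ : ↥(T ⊓ GF F G) →* ℂˣ, ip (GF F G) (extendByZero (GF F G) χ) (R D T (lin θ)) ≠ 0 := by
    by_contra hn
    push Not at hn
    apply right_ne_zero_of_mul h3
    rw [fourier (S.comm T hT) (rst (GF F G) (R D) T (extendByZero (GF F G) χ)) x ⟨hxT, x.2⟩, Finset.sum_eq_zero,
      Pi.zero_apply]
    intro θ _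
    rw [← S.ip_rst hT, hn θ, zero_smul]
  obtain ⟨y, hy, w, hw, rfl⟩ := PP.exists_y hT
  obtain ⟨c, hc⟩ := exists_lab f.L f.hζ hy hw (isLin_lin θ)
  refine ⟨y, hy, w, c, hw, hxT, ?_⟩
  rw [ip_eq_classInner, hr, show res (GF F G) (R D (Nodes.Reps.cj y D.T) (lin θ)) = RW f w c from
    funext (R_eq_RW f hy hw hc)] at hθ
  exact hθ

end CenP

variable [Fintype ↥(GF F G)]

/-- **central defect** -/
theorem boxCen2 : BoxCen2 D := by
  intro l M _ hp hM f 𝔅 hB h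
  have := Fact.mk hM.1
  refine CenP.deg_eq hM hB fun χ hχ x i hi h0 => ?_
  obtain ⟨y, hy, w, c, hw, hx, hc⟩ := CenP.exists_has f χ.2 (x := x) (fun e => hp ((Nat.prime_dvd_prime_iff_eq Fact.out hM.1).1
    ((Fact.out : p.Prime).dvd_of_dvd_pow (hi ▸ e))).symm) h0
  exact Subgroup.mem_center_iff.2 fun g => Subtype.ext (CenP.cen_of_ce hM.1 hy hw (h χ hχ w c hc) hx x.2.2
    (by rw [Subgroup.orderOf_coe, hi]) g.2.1).symm

end Cfsg.Agent.OM.Lie
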