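import Cfsg.Agent.OM.Lie.LdRt
import Cfsg.Agent.OM.Lie.El
import Cfsg.Agent.OM.On.Eng

/-!
# OM / Lie: the leading coefficient of a member of the top block does not vanish (helper49)
-/

set_option autoImplicit false
set_option linter.unusedSectionVars false

namespace Cfsg.Agent.OM.Lie

open Cfsg Cfsg.Agent.DL Cfsg.Agent.DL.PP Cfsg.Agent.DL.Uni Cfsg.Agent.DL.Asm Cfsg.Agent.Nodes.Reps Matrix Polynomial
  Cfsg.Agent.KZ.Lie Cfsg.Agent.HZ.Gen Cfsg.Agent.ODD.Red Cfsg.Agent.HZ.L Cfsg.Agent.OM.On Cfsg.Agent.OM.Au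
  Cfsg.Agent.Nodes.BNOf Cfsg.Agent.Characters.Core

namespace Ld

theorem arith {ι : Type} [DecidableEq ι] (S : Finset ι) (y h : ι → ℂ) {φ : ℂ} (hφ : φ ≠ 0) (hh : ∀ u ∈ S, h u ≠ 0) :
    (∑ u ∈ S, (φ * h u)⁻¹ * y u) * (φ * ∏ v ∈ S, h v) = ∑ u ∈ S, y u * ∏ v ∈ S.erase u, h v := by
  rw [Finset.sum_mul]
  refine Finset.sum_congr rfl fun u hu => ?_
  have := hh u hu
  rw [← Finset.mul_prod_erase S h hu]
  field_simp

section Comb

variable {R : Type} [Fintype R] [DecidableEq R]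

theorem dz_eval (A : Mat R) (t : ℤ) : (dz A).eval t = (t • A - 1).det := by
  refine ((evalRingHom t).map_det _).trans (congrArg det ?_)
  ext i j
  simp [-zsmul_eq_mul, Matrix.one_apply, apply_ite (eval t)]

theorem ld_eq {A : Mat R} {x₀ : ℂ} {Φ H : ℤ[X]} {Φ₁ : ℂ[X]} (h1 : Φ.map (Int.castRingHom ℂ) = (X - C x₀) * Φ₁)
    (h : dz A = Φ ^ rk A x₀ * H) : ld A x₀ = Φ₁.eval x₀ ^ rk A x₀ * aeval x₀ H := by
  have h2 : dp A = (X - C x₀) ^ rk A x₀ * (Φ₁ ^ rk A x₀ * H.map (Int.castRingHom ℂ)) := by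
    rw [← mul_assoc, ← mul_pow, ← h1, ← Polynomial.map_pow, ← Polynomial.map_mul, ← h, dp]
  rw [ld]
  generalize rk A x₀ = n at h2
  rw [h2, mul_divByMonic_cancel_left _ ((monic_X_sub_C x₀).pow n), eval_mul, eval_pow, aeval_def, eval_map]
  rfl

theorem ld_ne {A : Mat R} (h : dz A ≠ 0) (x₀ : ℂ) : ld A x₀ ≠ 0 :=
  eval_divByMonic_pow_rootMultiplicity_ne_zero x₀ ((Polynomial.map_ne_zero_iff (Int.castRingHom ℂ).injective_int).2 h)

end Comb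

variable {p : ℕ} [Fact p.Prime] {k : Type} [Field k] [CharP k p] [IsAlgClosed k] {Y : Type} [Group Y] {N : Type}
  [Fintype N] [DecidableEq N] {ρ : Y →* GL N k} {F : MulAut Y} {G : Subgroup Y} {D : Datum p ρ F G} {r : ℕ}

theorem comm_of {z : Y} (hz : z ∈ D.T) (h : ∀ a, D.Rt a → D.χ a z = 1) : G ≤ Subgroup.centralizer {z} :=
  D.G_eq.ge.trans (sup_le
    (fun t ht => Subgroup.mem_centralizer_singleton_iff.2 (D.T_comm ht hz)) (RGD.Sup_le fun a ha y hy => by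
      obtain ⟨u, rfl⟩ := (D.mem_X a ha y).1 hy
      have := D.tor' ha hz u
      rw [h a ha, one_mul] at this
      exact Subgroup.mem_centralizer_singleton_iff.2 (mul_inv_eq_iff_eq_mul.1 this).symm))

theorem cen_T (hr : r.Prime) (hp : r ≠ p) (h : ∀ (e : ℕ) (z : Vec D.R), (∀ i, (r : ℤ) ^ e ∣ ((D.Mx - 1) *ᵥ z) i) →
    ∀ a, D.Rt a → (r : ℤ) ^ e ∣ D.wt a ⬝ᵥ z) {x : Y} (hx : x ∈ D.T ⊓ GF F G) {e : ℕ} (he : x ^ r ^ e = 1) :
    G ≤ Subgroup.centralizer {x} := by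
  obtain ⟨c, rfl⟩ := (D.mem_T _).1 hx.1
  obtain ⟨ζ, hζ⟩ := LV.Blk.exists_primL (k := k) hr hp e
  have : NeZero (r ^ e) := ⟨(pow_pos hr.pos e).ne'⟩
  have h1 : c ^ r ^ e = 1 := D.τ_inj (by rw [map_pow, he, map_one])
  choose v hv using fun i => hζ.eq_pow_of_mem_rootsOfUnity (ξ := c i) (congrFun h1 i)
  obtain rfl : c = coch (fun i => (v i : ℤ)) ζ := funext fun i => by rw [coch_apply, zpow_natCast, (hv i).2]
  have h2 := D.τ_mem_GF.1 hx.2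
  rw [mon_coch] at h2
  refine comm_of hx.1 fun a ha => ?_
  rw [D.χ_τ, chr_coch, Units.val_eq_one, hζ.zpow_eq_one_iff_dvd, Nat.cast_pow]
  exact h e _ (fun i => by
    have := congrFun h2 i
    rwa [coch_apply, Pi.one_apply, hζ.zpow_eq_one_iff_dvd, Nat.cast_pow] at this) a ha

variable [Fintype ↥(GF F G)]

/-- the `r`-part of the torus is central -/
theorem dvd_cen (hr : r.Prime) (hp : r ≠ p) {w : D.W} (h : ∀ (e : ℕ) (z : Vec D.R),
    (∀ i, (r : ℤ) ^ e ∣ ((D.Wm w * D.Mx - 1) *ᵥ z) i) → ∀ a ∈ rts D, (r : ℤ) ^ e ∣ a.1 ⬝ᵥ z) :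
    r ^ (ordT D w).factorization r ∣ Nat.card (Subgroup.center ↥(GF F G)) := by
  have : Fact r.Prime := ⟨hr⟩
  have := finite_inf_GF D (Tw D w)
  obtain ⟨Q⟩ : Nonempty (Sylow r ↥(Tw D w ⊓ GF F G)) := inferInstance
  rw [← card_Tw, ← Q.card_eq_multiplicity]
  refine (Subgroup.card_map_of_injective (K := (Q : Subgroup _))
    (Subgroup.inclusion_injective (inf_le_right : Tw D w ⊓ GF F G ≤ GF F G))).symm.dvd.trans (Subgroup.card_dvd_of_le ?_)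
  rintro _ ⟨x, hx, rfl⟩
  obtain ⟨e, he⟩ := Q.isPGroup' ⟨x, hx⟩
  have h1 := cen_T (D := D.conj (yw_mem D w) ⟨w, yw_rp D w⟩) hr hp (fun e z h1 a ha => h e z (by
    rwa [D.conj_Mx, (yw_rp D w).pr_eq] at h1) _ (rt_mem ha)) (x := x) x.2 (e := e)
    (congrArg (fun t => ((t : Q) : Y)) he)
  exact Subgroup.mem_center_iff.2 fun g => Subtype.ext (Subgroup.mem_centralizer_singleton_iff.1 (h1 g.2.1))

theorem sign (f : Fr D) : ∃ ε : ℤ, ε * ε = 1 ∧ ∀ w, (ordT D w : ℤ) = ε * sgZ D w * (D.Wm w * D.Mx - 1).det := by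
  have h1 : ∀ w, 0 < sgZ D w * D.Mx.det * (D.Wm w * D.Mx - 1).det := fun w => by
    have := LV.One.det_pos (f.L.pow w) (one_lt_pow₀ (Nat.one_lt_cast.2 (Fact.out : p.Prime).one_lt) f.L.e_pos.ne') one_pos
    rwa [one_smul, det_mul] at this
  rcases lt_or_gt_of_ne D.det_Mx_ne_zero with h | h
  · refine ⟨-1, rfl, fun w => ?_⟩
    have := h1 w
    rw [ordT, Int.natCast_natAbs]
    rcases sgZ_sign D w with e | e <;> rw [e] at this ⊢
    · rw [abs_of_neg (by nlinarith)]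
      ring
    · rw [abs_of_pos (by nlinarith)]
      ring
  · refine ⟨1, rfl, fun w => ?_⟩
    have := h1 w
    rw [ordT, Int.natCast_natAbs]
    rcases sgZ_sign D w with e | e <;> rw [e] at this ⊢
    · rw [abs_of_pos (by nlinarith)]
      ring
    · rw [abs_of_neg (by nlinarith)]
      ring

/-- the degree from the total multiplicities -/
theorem val (f : Fr D) (hq : D.QS) : ∃ ε : ℤ, ∀ χ : ↥(GF F G) → ℂ, χ 1 * Nat.card D.W =
    ε * pc' p (GF F G) * ∑ᶠ w, (((D.Wm w * D.Mx - 1).det : ℤ) : ℂ)⁻¹ * Yt f χ w := by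
  obtain ⟨ε, h1, h2⟩ := sign f
  refine ⟨ε, fun χ => ?_⟩
  rw [val_one f χ, mul_comm, mul_inv_cancel_left₀ (Nat.cast_ne_zero.2 Nat.card_pos.ne'), mul_finsum]
  refine finsum_congr fun w => ?_
  rw [Yt, mul_finsum, mul_finsum]
  refine finsum_congr fun c => ?_
  by_cases hc : Fx D w c
  swap
  · simp only [RW_zero f hc, classInner_zero_right, mul_zero, zero_mul]
  have h3 := RW_deg f hq hc
  have h4 : (((D.Wm w * D.Mx - 1).det : ℤ) : ℂ) ≠ 0 := Int.cast_ne_zero.2 (det_ne_zero D w)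
  have h5 := congrArg (Int.cast : ℤ → ℂ) (h2 w)
  have h6 := congrArg (Int.cast : ℤ → ℂ) h1
  have h7 := sg_mul_self D w
  rw [Int.cast_natCast, Int.cast_mul, Int.cast_mul, ← sg_eq] at h5
  rw [Int.cast_mul, Int.cast_one] at h6
  rw [h5] at h3
  rw [← mul_assoc, mul_comm]
  congr 1
  rw [eq_mul_inv_iff_mul_eq₀ h4]
  linear_combination (ε * sg D w) * h3 - (RW f w c 1 * ((D.Wm w * D.Mx - 1).det : ℤ) * sg D w * sg D w) * h6 -
    (RW f w c 1 * ((D.Wm w * D.Mx - 1).det : ℤ) - ε * pc' p (GF F G)) * h7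

theorem Yt_int (f : Fr D) {χ : ↥(GF F G) → ℂ} (hχ : IsIrrCharacter _ χ) (w : D.W) : ∃ y : ℤ, Yt f χ w = y := by
  choose m hm using fun c => LV.Lift.exists_int hχ (RW_gen f w c)
  exact ⟨∑ᶠ c, m c, (finsum_congr fun c => (hm c).1).trans
    ((Int.castAddHom ℂ).map_finsum_of_injective Int.cast_injective m).symm⟩

theorem has_of (f : Fr D) {χ : ↥(GF F G) → ℂ} {w : D.W} (h : Yt f χ w ≠ 0) : ∃ c, Has f χ w c := by
  by_contra hn
  push Not at hn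
  exact h (finsum_eq_zero_of_forall_eq_zero fun c => not_not.1 (hn c))

theorem core (f : Fr D) (hq : D.QS) (hr : r.Prime) (hp : r ≠ p) (hW : ¬ r ∣ Nat.card D.W) {A : D.W → Mat D.R} {Q : ℤ}
    (hA : ∀ u, D.Wm u * D.Mx = Q • A u) {x₀ : ℂ} {Φ : ℤ[X]} (h0 : aeval x₀ Φ = 0) (hm : ∀ g : ℤ[X], aeval x₀ g = 0 → Φ ∣ g)
    (hΦ : (r : ℤ) ∣ Φ.eval Q) (hH : ∀ u, ∃ H : ℤ[X], dz (A u) = Φ ^ rk (A u) x₀ * H ∧ ¬ (r : ℤ) ∣ H.eval Q)
    (ψ : IrrCharacter ↥(GF F G)) {n : ℕ} (hn : ∀ u c, Has f (ψ : GF F G → ℂ) u c → rk (A u) x₀ = n)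
    (hc : ∀ u c, Has f (ψ : GF F G → ℂ) u c → ∀ (e : ℕ) (z : Vec D.R),
      (∀ i, (r : ℤ) ^ e ∣ ((D.Wm u * D.Mx - 1) *ᵥ z) i) → ∀ a ∈ rts D, (r : ℤ) ^ e ∣ a.1 ⬝ᵥ z) :
    ∑ᶠ u, (ld (A u) x₀)⁻¹ * Yt f (ψ : GF F G → ℂ) u ≠ 0 := by
  classical
  intro hz
  have := Fintype.ofFinite D.W
  choose H h1 h2 using hH
  choose y hy using Yt_int f ψ.2
  obtain ⟨ε, hε⟩ := val f hq
  obtain ⟨Φ₁, h3⟩ : X - C x₀ ∣ Φ.map (Int.castRingHom ℂ) := dvd_iff_isRoot.2 ((eval_map _ _).trans h0)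
  let S : Finset D.W := Finset.univ.filter fun u => Yt f (ψ : GF F G → ℂ) u ≠ 0
  have hS : ∀ u ∈ S, rk (A u) x₀ = n := fun u hu => (has_of f (Finset.mem_filter.1 hu).2).elim (hn u)
  have hsum : ∀ a : D.W → ℂ, ∑ᶠ u, a u * Yt f (ψ : GF F G → ℂ) u = ∑ u ∈ S, a u * y u := fun a => by
    rw [finsum_eq_sum_of_fintype, Finset.sum_filter]
    refine Finset.sum_congr rfl fun u _ => ?_
    rw [← hy]
    split_ifs with h
    · rfl
    · rw [not_not.1 h, mul_zero]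
  have hd : ∀ u, (D.Wm u * D.Mx - 1).det = (dz (A u)).eval Q := fun u => by rw [dz_eval, hA]
  have hd' : ∀ u ∈ S, (D.Wm u * D.Mx - 1).det = Φ.eval Q ^ n * (H u).eval Q := fun u hu => by
    rw [hd, h1, hS u hu, eval_mul, eval_pow]
  have h4 := hε ψ
  have h5 : ((charDegree (ψ : GF F G → ℂ) : ℕ) : ℂ) = (ψ : GF F G → ℂ) 1 := deg_cast (isIrr_isCharacter ψ.2)
  have h6 : charDegree (ψ : GF F G → ℂ) ≠ 0 := fun e => irr_one_ne ψ.2 (by rw [← h5, e, Nat.cast_zero])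
  rw [hsum, ← h5] at h4
  obtain ⟨u, hu⟩ : S.Nonempty := Finset.nonempty_iff_ne_empty.2 fun e => by
    rw [e, Finset.sum_empty, mul_zero] at h4
    exact mul_ne_zero (Nat.cast_ne_zero.2 h6) (Nat.cast_ne_zero.2 Nat.card_pos.ne') h4
  -- the numerator
  have h7 : (r : ℤ) ∣ ∑ u ∈ S, y u * ∏ v ∈ S.erase u, (H v).eval Q := by
    have h7 : ∀ v ∈ S, ld (A v) x₀ = Φ₁.eval x₀ ^ n * aeval x₀ (H v) := fun v hv => by rw [ld_eq h3 (h1 v), hS v hv]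
    have h8 : ∀ v ∈ S, Φ₁.eval x₀ ^ n * aeval x₀ (H v) ≠ 0 := fun v hv => by
      rw [← h7 v hv]
      exact ld_ne (fun e => det_ne_zero D v (by rw [hd, e, eval_zero])) x₀
    have h9 := arith S (fun v => y v) (fun v => aeval x₀ (H v)) (left_ne_zero_of_mul (h8 u hu))
      fun v hv => right_ne_zero_of_mul (h8 v hv)
    rw [hsum, Finset.sum_congr rfl fun v hv => by rw [h7 v hv]] at hz
    rw [hz, zero_mul] at h9
    have h10 := hΦ.trans (eval_dvd (hm (∑ u ∈ S, C (y u) * ∏ v ∈ S.erase u, H v) (by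
      simp only [map_sum, map_mul, map_prod, eq_intCast, map_intCast]
      exact h9.symm)))
    simpa only [eval_finsetSum, eval_mul, eval_prod, eval_C] using h10
  have h8 : ∀ v ∈ S, ((Φ.eval Q ^ n : ℤ) : ℂ) * ((H v).eval Q : ℤ) ≠ 0 := fun v hv => by
    rw [← Int.cast_mul, ← hd' v hv]
    exact Int.cast_ne_zero.2 (det_ne_zero D v)
  have h9 := arith S (fun v => y v) (fun v => ((H v).eval Q : ℤ)) (left_ne_zero_of_mul (h8 u hu))
    fun v hv => right_ne_zero_of_mul (h8 v hv)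
  rw [Finset.sum_congr rfl fun v hv => by rw [hd' v hv, Int.cast_mul]] at h4
  have h10 : (charDegree (ψ : GF F G → ℂ) : ℤ) * Nat.card D.W * (Φ.eval Q ^ n * ∏ v ∈ S, (H v).eval Q) =
      ε * pc' p (GF F G) * ∑ u ∈ S, y u * ∏ v ∈ S.erase u, (H v).eval Q := Int.cast_injective (α := ℂ) (by
    have := congrArg (· * (((Φ.eval Q ^ n : ℤ) : ℂ) * ∏ v ∈ S, (((H v).eval Q : ℤ) : ℂ))) h4
    simp only [mul_assoc _ (∑ u ∈ S, _), h9] at this
    simpa only [Int.cast_mul, Int.cast_natCast, Int.cast_prod, Int.cast_sum] using this)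
  obtain ⟨c, hc'⟩ := has_of f (Finset.mem_filter.1 hu).2
  obtain ⟨m, h11⟩ := mul_dvd_mul (dvd_cen hr hp (hc u c hc')) (H639.charDegree_dvd_index le_rfl ψ)
  rw [Subgroup.card_mul_index, ← pc_mul_pc' p] at h11
  obtain ⟨t, h12⟩ := h7
  have h13 := congrArg (Nat.cast : ℕ → ℤ) h11
  push_cast at h13
  have h14 : (r : ℤ) ^ ((ordT D u).factorization r + 1) ∣
      (pc p (GF F G) * Nat.card D.W * ∏ v ∈ S, (H v).eval Q) * Φ.eval Q ^ n :=
    ⟨ε * m * t, mul_left_cancel₀ (Nat.cast_ne_zero.2 h6) (by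
      rw [h12] at h10
      linear_combination (pc p (GF F G) : ℤ) * h10 + (ε * r * t) * h13)⟩
  have h15 : Prime (r : ℤ) := Nat.prime_iff_prime_int.1 hr
  have h16 := h15.pow_dvd_of_dvd_mul_left _ (fun e => by
    rcases h15.dvd_or_dvd e with e | e
    · rcases h15.dvd_or_dvd e with e | e
      · exact hp ((Nat.prime_dvd_prime_iff_eq hr Fact.out).1 (hr.dvd_of_dvd_pow (Int.natCast_dvd_natCast.1 e)))
      · exact hW (Int.natCast_dvd_natCast.1 e)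
    · obtain ⟨v, -, e⟩ := (h15.dvd_finsetProd_iff _).1 e
      exact h2 v e) h14
  refine Nat.pow_succ_factorization_not_dvd (ordT_ne u) hr ?_
  rw [← Int.natCast_dvd_natCast, Nat.cast_pow]
  conv_rhs => rw [ordT, Int.natCast_natAbs]
  rw [dvd_abs, hd' u hu]
  exact h16.mul_right _

end Ld

variable {p : ℕ} [Fact p.Prime] {k : Type} [Field k] [CharP k p] [IsAlgClosed k] {Y : Type} [Group Y] {N : Type}
  [Fintype N] [DecidableEq N] {ρ : Y →* GL N k} {F : MulAut Y} {G : Subgroup Y} (D : Datum p ρ F G) [Fintype ↥(GF F G)]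

/-- the field `ne` of `BoxLd` -/
theorem boxLd_ne (el : BoxEl D) : ∀ j B l S M 𝔅 r P (s : Sb D) [Fintype ↥(GF F s.K)] lam b, Tp j B l S M 𝔅 r P s lam b →
    ∀ (f : Fr D), ∀ μ ∈ S, ∀ (x₀ : ℂ) (n : ℕ), μ * x₀ = 1 → ∀ ψ ∈ b,
      (∀ u c, Has (s.fr f) (ψ : GF F s.K → ℂ) u c → rk (D.Wm (s.sw u * s.w) * B) x₀ = n) →
      ∑ᶠ u : s.E.W, (ld (D.Wm (s.sw u * s.w) * B) x₀)⁻¹ * Yt (s.fr f) (ψ : GF F s.K → ℂ) u ≠ 0 := by
  intro j B l S M 𝔅 r P s _ lam b h f μ hμ x₀ n hx ψ hψ hn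
  obtain ⟨x₁, h1, Φ, h2, h3, h4, h5⟩ := h.rd.ph μ hμ
  obtain rfl : x₀ = x₁ := left_inv_eq_right_inv ((mul_comm _ _).trans hx) h1
  refine Ld.core (s.fr f) h.fo.qs h.hu.prime h.hu.ne (h.hu.sub s).not_dvd (A := fun u => D.Wm (s.sw u * s.w) * B)
    (fun u => by rw [s.WM_eq, h.rd.st.mx, mul_smul_comm]) h2 h3 h4 (fun u => h5 _) ψ hn fun u c hc e z hz a ha => ?_
  by_contra h6
  rw [s.WM_eq] at hz
  obtain ⟨y, h7, -, h8⟩ := h.rd.bk μ hμ _ e ∅ a.1 z (fun _ _ _ h => h.elim) (fun _ h => h.elim) hz h6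
  refine el.tp j B l S M 𝔅 r P s lam b h f ψ hψ u c hc μ hμ ⟨y, ?_, a, ha, h8⟩
  rwa [s.Wm_eq, ← mul_assoc, ← D.Wm_mul]

/-- **[Ld]** -/
theorem boxLd_of (el : AllD p fun D => BoxEl D) : BoxLd D := ⟨boxLd_ne D (el D), ld_rt D⟩

/-- **[Ld]**, unconditional -/
theorem boxLd : BoxLd D := ⟨boxLd_ne D (boxEl D), ld_rt D⟩

end Cfsg.Agent.OM.Lie
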