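import Cfsg.Agent.OM.Lie.Defs
import Cfsg.Agent.OM.On.Step
import Cfsg.Agent.BZ.Lab.Uf
import Cfsg.Agent.Blocks.Osima

/-!
# OM / Lie: the transfer to a Levi subgroup (helper30)

* `Tr.Pair` : two blocks which are seen through a map `γ`; `Pair.up`, `Pair.down` : all members are involved;
* `Tr.iso2` : the isometry for a given constituent; `boxTr`.
-/

set_option autoImplicit false
set_option linter.unusedSectionVars false
set_option maxHeartbeats 400000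

namespace Cfsg.Agent.OM.Lie

namespace Tr

section Grp

open Cfsg Cfsg.Agent.Characters Cfsg.Agent.Characters.Core Cfsg.Agent.Blocks Cfsg.Agent.Blocks.Basic Cfsg.Agent.BZ.Lab
open scoped ComplexConjugate

variable {K L : Type} [Group K] [Fintype K] [Group L] [Fintype L] {l : ℕ} {M : Ideal AlgInt}
  {B : Set (IrrCharacter K)} {b : Set (IrrCharacter L)} {γ : L → K}

/-- two blocks which are seen through `γ` -/
structure Pair (l : ℕ) (M : Ideal AlgInt) (B : Set (IrrCharacter K)) (b : Set (IrrCharacter L)) (γ : L → K) : Prop where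
  hM : IsPModular l M
  hB : IsPBlock M B
  hb : IsPBlock M b
  ord : ∀ y, l ∣ orderOf (γ y) ↔ l ∣ orderOf y
  cls : ∀ χ ∈ B, IsClassFunction L ((χ : K → ℂ) ∘ γ)
  cor : ∀ χ ∈ B, ∀ ψ ∈ b, classInner ((χ : K → ℂ) ∘ γ) ψ ≠ 0 → ∃ ε : ℂ, (ε = 1 ∨ ε = -1) ∧
    (∀ χ' ∈ B, classInner (χ' : K → ℂ) χ = ε * classInner ((χ' : K → ℂ) ∘ γ) ψ) ∧
      ∃ n : ℕ, (χ : K → ℂ) 1 * (Nat.card L * n) = Nat.card K * (ψ : L → ℂ) 1
  lnk : ∃ χ ∈ B, ∃ ψ ∈ b, classInner ((χ : K → ℂ) ∘ γ) ψ ≠ 0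

open Classical in
theorem om_coeff [Fintype (IrrCharacter K)] (B : Set (IrrCharacter K)) (γ : L → K) (ψ : L → ℂ) :
    Om.om ψ (blockCoeff B ∘ γ) = ∑ χ : IrrCharacter K, if χ ∈ B then
      (Nat.card K : ℂ)⁻¹ * (χ : K → ℂ) 1 * (Nat.card L * conj (classInner ((χ : K → ℂ) ∘ γ) ψ)) / ψ 1 else 0 := by
  simp only [Om.om, Function.comp_apply, Osima.blockCoeff_eq_sum, Finset.mul_sum, Finset.sum_mul]
  rw [Finset.sum_comm]
  refine Finset.sum_congr rfl fun χ _ => ?_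
  split_ifs
  · rw [classInner_conj_symm, classInner, mul_inv_cancel_left₀ card_ne_zero_complex, Finset.mul_sum, Finset.sum_div]
    refine Finset.sum_congr rfl fun y _ => ?_
    rw [Function.comp_apply]
    ring
  · simp

/-- every member of `b` is seen -/
theorem Pair.down (h : Pair l M B b γ) {ψ : IrrCharacter L} (hψ : ψ ∈ b) : ∃ χ ∈ B, classInner ((χ : K → ℂ) ∘ γ) ψ ≠ 0 := by
  classical
  have := Local.isPrime_of_isPModular h.hM
  have := finite_irr (G := K)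
  have := Fintype.ofFinite (IrrCharacter K)
  by_contra h0
  push Not at h0
  obtain ⟨χ, h1, φ, h2, h3⟩ := h.lnk
  obtain ⟨ε, h4, h5, n, h6⟩ := h.cor χ h1 φ h2 h3
  have h7 := Om.om_same h.hM (isPBlock_sameBlock h.hb h2 hψ) (f := blockCoeff B ∘ γ) (fun x y => by
    simp only [Function.comp_apply, Osima.blockCoeff_eq_sum]
    refine congrArg _ (Finset.sum_congr rfl fun η _ => ?_)
    split_ifs with e
    · exact congrArg (fun z => _ * conj z) (h.cls η e x y)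
    · rfl) fun y => Osima.memLocalRing_blockCoeff h.hM h.hB _
  have h8 : ε * ε = 1 := by rcases h4 with rfl | rfl <;> simp
  have h9 : conj ε = ε := by rcases h4 with rfl | rfl <;> simp
  have h10 : ∀ η ∈ B, classInner ((η : K → ℂ) ∘ γ) φ = ε * classInner (η : K → ℂ) χ := fun η e => by
    rw [h5 η e, ← mul_assoc, h8, one_mul]
  have h15 : Om.om (ψ : L → ℂ) (blockCoeff B ∘ γ) = 0 := by
    rw [om_coeff]
    exact Finset.sum_eq_zero fun η _ => ite_eq_right_iff.2 fun e => by rw [h0 η e, map_zero, mul_zero, mul_zero, zero_div]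
  rw [h15, sub_zero, om_coeff, Finset.sum_eq_single χ (fun η _ e => ite_eq_right_iff.2 fun e' => by
      rw [h10 η e', classInner_irr_ne η.2 χ.2 fun e'' => e (Subtype.ext e''), mul_zero, map_zero, mul_zero, mul_zero, zero_div])
      (by simp), if_pos h1, h10 χ h1, classInner_irr_self χ.2, mul_one, h9] at h7
  have h11 := LocalRing.memLocalIdeal_mul_left h.hM (LocalRing.memLocalRing_natCast h.hM n) h7
  have h12 : (n : ℂ) * ((Nat.card K : ℂ)⁻¹ * (χ : K → ℂ) 1 * (Nat.card L * ε) / (φ : L → ℂ) 1) = ε := by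
    have h13 := irr_one_ne_zero φ.2
    have h14 : (Nat.card K : ℂ) ≠ 0 := card_ne_zero_complex
    field_simp
    linear_combination ε * h6
  rw [h12] at h11
  rcases h4 with rfl | rfl
  · exact LocalRing.not_memLocalIdeal_one h.hM h11
  · exact LocalRing.not_memLocalIdeal_one h.hM (by simpa using LocalRing.memLocalIdeal_neg h11)

theorem tc_comm (f g : L → ℂ) : classInner (tc l f) g = classInner f (tc l g) :=
  congrArg _ (Finset.sum_congr rfl fun y _ => by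
    by_cases e : l ∣ orderOf y
    · rw [tc_sing e, tc_sing e, zero_mul, map_zero, mul_zero]
    · rw [tc_reg e, tc_reg e])

theorem Pair.sep (h : Pair l M B b γ) {χ χ' : IrrCharacter K} (hχ : χ ∈ B) (hχ' : χ' ∈ B) {ψ : IrrCharacter L} (hψ : ψ ∈ b)
    (h1 : classInner ((χ : K → ℂ) ∘ γ) ψ ≠ 0) (h2 : ∀ φ ∈ b, classInner ((χ' : K → ℂ) ∘ γ) φ = 0) :
    classInner (tc l (χ' : K → ℂ)) χ = 0 := by
  have := Local.isPrime_of_isPModular h.hM
  have := finite_irr (G := K)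
  have := Fintype.ofFinite (IrrCharacter K)
  obtain ⟨ε, -, h3, -⟩ := h.cor χ hχ ψ hψ h1
  have h4 := classFunction_eq_sum (tc_cls (l := l) (irr_isClassFunction χ'.2))
  have h5 : tc l ((χ' : K → ℂ) ∘ γ) = ∑ η : IrrCharacter K, classInner (tc l (χ' : K → ℂ)) η • ((η : K → ℂ) ∘ γ) := funext fun y => by
    have h5 := congrFun h4 (γ y)
    rw [Finset.sum_apply] at h5 ⊢
    refine Eq.trans ?_ h5
    by_cases e : l ∣ orderOf y
    · rw [tc_sing e, tc_sing ((h.ord y).2 e)]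
    · rw [tc_reg e, tc_reg (mt (h.ord y).1 e), Function.comp_apply]
  have h6 := sec_zero boxUf h.hM (h.cls χ' hχ') (φ := ψ) (fun η e => h2 η (isPBlock_mem_of_sameBlock h.hb hψ e)) (one_mem _)
  simp only [one_mul] at h6
  rw [h4, classInner_sum_left, ← mul_zero ε, ← h6, show (fun y => ((χ' : K → ℂ) ∘ γ) y) = (χ' : K → ℂ) ∘ γ from rfl, h5,
    classInner_sum_left, Finset.mul_sum]
  refine Finset.sum_congr rfl fun η _ => ?_
  rw [classInner_smul_left, classInner_smul_left]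
  by_cases e : η ∈ B
  · rw [h3 η e, mul_left_comm]
  · rw [oth' boxUf h.hM fun e' => e (isPBlock_mem_of_sameBlock h.hB hχ' (sameBlock_symm e')), zero_mul, zero_mul, mul_zero]

/-- a member of the block which is linked to all members -/
theorem exists_hub (hM : IsPModular l M) (hB : IsPBlock M B) : ∃ μ ∈ B, ∀ χ ∈ B, classInner (tc l (μ : K → ℂ)) χ ≠ 0 := by
  have := Local.isPrime_of_isPModular hM
  obtain ⟨μ, h1, h2⟩ := Nat.sInf_mem (s := (fun χ : IrrCharacter K => (charDegree (χ : K → ℂ)).factorization l) '' B)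
    ((isPBlock_nonempty hB).image _)
  refine ⟨μ, h1, fun χ hχ e => (boxUf.ht hM (isPBlock_sameBlock hB hχ h1)).2 ?_ ?_⟩
  · rw [← isPBlock_eq_blockOf hB hχ, blockHeight_def]
    exact Nat.sub_eq_zero_of_le h2.le
  · rw [uf_eq, e, mul_zero, zero_div]
    exact LocalRing.memLocalIdeal_zero hM

/-- every member of `B` sees `b` -/
theorem Pair.up (h : Pair l M B b γ) {χ : IrrCharacter K} (hχ : χ ∈ B) : ∃ ψ ∈ b, classInner ((χ : K → ℂ) ∘ γ) ψ ≠ 0 := by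
  obtain ⟨μ, h1, h2⟩ := exists_hub h.hM h.hB
  obtain ⟨ψ, h3, h4⟩ : ∃ ψ ∈ b, classInner ((μ : K → ℂ) ∘ γ) ψ ≠ 0 := by
    by_contra h3
    push Not at h3
    obtain ⟨η, h4, ψ, h5, h6⟩ := h.lnk
    exact h2 η h4 (h.sep h4 h1 h5 h6 h3)
  by_contra h5
  push Not at h5
  refine h2 χ hχ ?_
  rw [tc_comm, ← classInner_conj_symm, h.sep h1 hχ h3 h4 h5, map_zero]

end Grp

open Cfsg Cfsg.Agent.DL Cfsg.Agent.DL.PP Cfsg.Agent.DL.Uni Cfsg.Agent.DL.Asm Cfsg.Agent.Nodes.Reps Matrix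
  Cfsg.Agent.KZ.Lie Cfsg.Agent.HZ.Gen Cfsg.Agent.ODD.Red Cfsg.Agent.Characters.Core Cfsg.Agent.Blocks
  Cfsg.Agent.Characters Cfsg.Agent.H650 Cfsg.Agent.RL Cfsg.Agent.DL.Mk Cfsg.Agent.HZ.L Cfsg.Agent.HZ.L.Cf
  Cfsg.Agent.HZ.L.Iso Cfsg.Agent.OM.On

variable {p : ℕ} [Fact p.Prime] {k : Type} [Field k] [CharP k p] [IsAlgClosed k] {Y : Type} [Group Y] {N : Type}
  [Fintype N] [DecidableEq N] {ρ : Y →* GL N k} {F : MulAut Y} {G : Subgroup Y} {D : Datum p ρ F G}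
  {c : Lbl D} {r : ℕ} {P : Subgroup ↥(GF F G)} {s : Sb D}

/-- **the isometry for a given constituent** -/
theorem iso2 [Fintype ↥(GF F G)] [Fintype ↥(GF F s.K)] [Fact r.Prime] (hq : D.QS) (h1 : On1 s.E) (ih : OnL s.E) (f : Fr D)
    (hu : Hu1 D r) (hs : s.For r P) {χ : ↥(GF F G) → ℂ} (hχ : IsIrrCharacter _ χ) (hr : RatR r χ) {ψ : ↥(GF F s.K) → ℂ}
    (hψ : IsIrrCharacter _ ψ) (h6 : classInner (s.rs r P χ) ψ ≠ 0) {u : s.E.W} (h7 : Has (s.fr f) ψ u c)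
    (ht : ∀ v, Rel D v c c → D.Wm v ∈ WW (rts s.E)) :
    (∃ ε, Cor1 s r P χ ε ψ) ∧ Has f χ (s.sw u * s.w) c := by
  have h2 := two_le_sz1 D
  have h3 := nb_le_sz1 D
  have hf : Sm r (sz1 D) (s.rs r P χ) :=
    (hu.big_GF.sm_rs hs.grp (sm_irr hχ hr) hu.bd_one s.ι_injective hs.range).mono (by omega)
  let S : Set (IrrCharacter (GF F s.K)) := {ψ | ∀ u' c', Has (s.fr f) ψ u' c' → Cj (rts s.E) c c'}
  have h0 : Nat.card (GF F s.K) * (p ^ f.e - 1) ≠ 0 := mul_ne_zero Nat.card_pos.ne'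
    (Nat.sub_ne_zero_of_lt (Nat.one_lt_pow f.L.e_pos.ne' (Fact.out : p.Prime).one_lt))
  have h4 : ∀ σ : ℂ ≃+* ℂ, (∀ z : ℂ, z ^ ordCompl[r] (Nat.card (GF F s.K) * (p ^ f.e - 1)) = 1 → σ z = z) →
      ∀ (m : ℕ) (z : ℂ), ¬ r ∣ m → m ∣ Nat.card (GF F s.K) * (p ^ f.e - 1) → z ^ m = 1 → σ z = z := fun σ hσ m z a b e => by
    obtain ⟨i, hi⟩ := Nat.dvd_ordCompl_of_dvd_not_dvd b a
    exact hσ z (by rw [hi, pow_mul, e, one_pow])
  have h5 : ∀ σ : ℂ ≃+* ℂ, (∀ z : ℂ, z ^ ordCompl[r] (Nat.card (GF F s.K) * (p ^ f.e - 1)) = 1 → σ z = z) →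
      ∀ ψ ψ', IsIrrCharacter _ ψ → IsIrrCharacter _ ψ' → ψ' = (fun x => σ (ψ x)) → classInner (s.rs r P χ) ψ ≠ 0 →
      ∀ u c', Has (s.fr f) ψ u c' → Has (s.fr f) ψ' u c' := fun σ hσ ψ ψ' hψ _ e a u c' b => by
    have h6 := LV.One.inner_gal (s.fr f) σ hψ b
    rwa [← e, show (fun j => Units.map (σ : ℂ →* ℂ) (c' j)) = c' from funext fun i => Units.ext (h4 σ hσ _ _
      ((Cf.boxChf s.E hs.qs).lab _ r _ _ hf (hu.lt (i := 2) (by
        have := s.card_le.trans hu.card_le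
        nlinarith) (by norm_num)) ψ hψ a u c' b) ((orderOf_dvd_of_pow_eq_one (pow_of_fx (s.fr f) b.fx)).mul_left _)
      (congrArg Units.val (congrFun (pow_orderOf_eq_one c') i)))] at h6
  have hg : Sm r (sz1 D) (blockPart S (s.rs r P χ)) := ⟨bp_gen hf.gen, bp_le.trans hf.nrm, ratR_of_fix (bp_gen hf.gen)
    (Nat.not_dvd_ordCompl hu.prime h0) fun σ hσ => bp_fix (hf.rat.fix hf.gen σ fun m z a b => h4 σ hσ m z a (b.mul_right _))
      fun ψ ψ' e a b => ⟨fun e' u c' h6 => e' u c' (h5 σ hσ _ _ ψ'.2 ψ.2 e b u c' h6), fun e' u c' h6 => e' u c'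
        (h5 σ.symm (fun z hz => σ.symm_apply_eq.2 (hσ z hz).symm) _ _ ψ.2 ψ'.2 (by simp [e]) a u c' h6)⟩⟩
  have h11 : ∀ η (hη : IsIrrCharacter _ η), Has (s.fr f) η u c → classInner (s.rs r P χ) η ≠ 0 →
      classInner (blockPart S (s.rs r P χ)) η ≠ 0 := fun η hη a b =>
    (bp_ne (S := S) hη).2 ⟨fun u' c' => h1 _ η hη u c u' c' a, b⟩
  obtain ⟨h8, h9⟩ := HZ.L.Iso.iso hu.big_GF hs.grp s.ι_injective hs.range (hg.mono (B' := sz1 D ^ 2) (by nlinarith))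
    (hu.bd_nb le_rfl (by norm_num)) (ort1 ih hu hs ht hg fun η hη e => ((bp_ne (S := S) hη).1 e).1)
    (fun a x e => bp_mul (fun η hη e' => hu.big_GF.rs_ker hs.grp (sm_irr hχ hr) hu.bd_one s.ι_injective hs.range hη e' e) x)
    ((sm_irr hχ hr).mono (by nlinarith)) (classInner_irr_self hχ) ((Nat.lt_succ_self _).trans (hu.lt (i := 14) (by
      calc 32 * (2 * nb D * sz1 D ^ 2) ^ 3 ≤ sz1 D ^ 5 * (sz1 D * sz1 D ^ 2) ^ 3 := by
            gcongr
            exact Nat.pow_le_pow_left h2 5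
        _ = _ := by ring) (by norm_num)))
    (fun e => h11 ψ hψ h7 h6 (by rw [e, classInner_zero_left])) bp_self
  have h10 : ∀ (ε : ℂ) η, (ε = 1 ∨ ε = -1) → IsIrrCharacter _ η → blockPart S (s.rs r P χ) = ε • η →
      (∃ ε, Cor1 s r P χ ε ψ) ∧ Has f χ (s.sw u * s.w) c := fun ε η a hη e => by
    have h12 : ∀ η', IsIrrCharacter _ η' → Has (s.fr f) η' u c → classInner (s.rs r P χ) η' ≠ 0 → η = η' := fun η' hη' a b =>
      eq_of_ne hη hη' fun e' => h11 η' hη' a b (by rw [e, classInner_smul_left, e', mul_zero])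
    obtain rfl := h12 ψ hψ h7 h6
    refine ⟨⟨ε, a, fun φ hφ => ?_⟩, fun e' => ?_⟩
    · rw [← classInner_conj_symm, h9 φ hφ, classInner_conj_symm, e, classInner_smul_right]
      rcases a with rfl | rfl <;> simp [Sb.rs]
    rw [← (Cf.boxChf D hq).adj f r P s hu.ne hs 1 χ (sm_irr hχ hr) hu.bd_one] at e'
    obtain ⟨η', hη', h13, h14⟩ := exists_common (φ := s.rs r P χ - classInner (s.rs r P χ) η • η) (η := RW (s.fr f) u c)
      (fun x y => by
        rw [Pi.sub_apply, Pi.sub_apply, Pi.smul_apply, Pi.smul_apply, OddOrderCharacters.VChar.gen_isClassFunction hf.gen,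
          Basic.irr_conj hη]) (by
        rw [classInner_sub_left, classInner_smul_left, e', zero_sub, neg_ne_zero]
        exact mul_ne_zero h6 h7)
    rw [classInner_sub_left, classInner_smul_left] at h13
    by_cases h15 : η = η'
    · exact h13 (by rw [← h15, classInner_irr_self hη, mul_one, sub_self])
    · rw [classInner_irr_ne hη hη' h15, mul_zero, sub_zero] at h13
      exact h15 (h12 η' hη' h14 h13)
  exact (isIrr_of_generalized hg.gen h8).elim (fun e => h10 1 _ (.inl rfl) e (one_smul _ _).symm)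
    fun e => h10 (-1) _ (.inr rfl) e (by simp)

end Tr

open Cfsg Cfsg.Agent.DL Cfsg.Agent.DL.PP Cfsg.Agent.DL.Uni Cfsg.Agent.DL.Asm Cfsg.Agent.Nodes.Reps Matrix
  Cfsg.Agent.KZ.Lie Cfsg.Agent.HZ.Gen Cfsg.Agent.ODD.Red Cfsg.Agent.HZ.L Cfsg.Agent.OM.On Cfsg.Agent.Blocks

variable {p : ℕ} [Fact p.Prime] {k : Type} [Field k] [CharP k p] [IsAlgClosed k] {Y : Type} [Group Y] {N : Type}
  [Fintype N] [DecidableEq N] {ρ : Y →* GL N k} {F : MulAut Y} {G : Subgroup Y} (D : Datum p ρ F G) [Fintype ↥(GF F G)]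

/-- **the transfer** -/
theorem boxTr : BoxTr D := by
  intro l M 𝔅 r P s _ lam b hq hz h1 ih _ hM h f hl
  have := Fact.mk h.hu.prime
  have h2 : ∀ χ ∈ 𝔅, ∀ ψ ∈ b, classInner (s.rs r P χ) ψ ≠ 0 → ∀ u c, Has (s.fr f) (ψ : GF F s.K → ℂ) u c →
      (∃ ε, Cor1 s r P χ ε ψ) ∧ Has f (χ : GF F G → ℂ) (s.sw u * s.w) c := fun χ hχ ψ hψ e u c e' =>
    Tr.iso2 hq h1 ih f h.hu h.fo χ.2 (h.rat χ hχ) ψ.2 e e' (stab_sub hz e'.fo (hl ψ hψ u c e').1)
  have h3 : ∀ χ ∈ 𝔅, ∀ ψ ∈ b, classInner (s.rs r P χ) ψ ≠ 0 → ∃ ε, Cor1 s r P χ ε ψ := fun χ hχ ψ hψ e => by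
    obtain ⟨u, c, e'⟩ := exists_has (f := s.fr f) ψ.2
    exact (h2 χ hχ ψ hψ e u c e').1
  have h4 : ∀ χ ∈ 𝔅, ∀ ψ ∈ b, classInner (s.rs r P χ) ψ ≠ 0 →
      (χ : GF F G → ℂ) 1 * pc' p (GF F s.K) = pc' p (GF F G) * (ψ : GF F s.K → ℂ) 1 := fun χ hχ ψ hψ e => by
    obtain ⟨ε, e'⟩ := h3 χ hχ ψ hψ e
    exact deg1 h.hu h.fo χ.2 (h.rat χ hχ) ψ.2 e' hq
  have H : Tr.Pair l M 𝔅 b (gel r P ∘ s.ι) := ⟨hM, h.hB, h.hb, fun y => by
      have hy : s.ι y ∈ Subgroup.centralizer (P : Set ↥(GF F G)) := h.fo.range ▸ ⟨y, rfl⟩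
      obtain ⟨a, ha, e, -⟩ := h.hu.big_GF.gel_spec h.fo.grp (by have := two_mul_lt h.hu.bd_one; omega) hy
      rw [Function.comp_apply, e, BZ.Lab.reg_mul hM.1 (hy a ha)
        (BZ.Lab.not_dvd_of_r hM.1 h.hu.prime h.ne.symm (ord_of_mem h.fo.grp ha)), orderOf_injective s.ι s.ι_injective],
    fun χ hχ => OddOrderCharacters.VChar.gen_isClassFunction (h.hu.rs_gen h.fo χ.2 (h.rat χ hχ)), fun χ hχ ψ hψ e => by
      obtain ⟨ε, e'⟩ := h3 χ hχ ψ hψ e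
      obtain ⟨n, hn⟩ : pc p (GF F s.K) ∣ pc p (GF F G) :=
        Nat.ordProj_dvd_ordProj_of_dvd Nat.card_pos.ne' (Subgroup.card_dvd_of_le s.le) p
      refine ⟨ε, e'.1, fun χ' hχ' => e'.2 _ ((sm_irr χ'.2 (h.rat χ' hχ')).mono
        (Nat.one_le_pow _ _ (two_pos.trans_le (two_le_sz1 D)))), n, ?_⟩
      rw [← pc_mul_pc' p (GF F s.K), ← pc_mul_pc' p (GF F G), hn]
      push_cast
      linear_combination (pc p (GF F s.K) : ℂ) * n * h4 χ hχ ψ hψ e, h.lnk⟩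
  refine ⟨fun e χ hχ χ' hχ' => ?_, fun ψ hψ u c e => ?_⟩
  · obtain ⟨ψ, h5, h6⟩ := H.up hχ
    obtain ⟨ψ', h7, h8⟩ := H.up hχ'
    have h9 := h4 χ hχ ψ h5 h6
    rw [Basic.irr_one_eq_charDegree ψ.2, e ψ h5 ψ' h7, ← Basic.irr_one_eq_charDegree ψ'.2, ← h4 χ' hχ' ψ' h7 h8,
      Basic.irr_one_eq_charDegree χ.2, Basic.irr_one_eq_charDegree χ'.2] at h9
    have h10 : (pc' p (GF F s.K) : ℂ) ≠ 0 := Nat.cast_ne_zero.2 fun e => not_dvd_pc' (p := p) (GF F s.K) (e ▸ dvd_zero p)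
    exact_mod_cast mul_right_cancel₀ h10 h9
  · obtain ⟨χ, h5, h6⟩ := H.down hψ
    exact ⟨χ, h5, (h2 χ h5 ψ hψ h6 u c e).2⟩

end Cfsg.Agent.OM.Lie
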