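import Cfsg.Agent.OM.Lie.Asm
import Cfsg.Agent.OM.Lie.Kb
import Cfsg.Agent.OM.Lie.Ld
import Cfsg.Agent.OM.Lie.Tr
import Cfsg.Agent.OM.Lie.Bl
import Cfsg.Agent.OM.Lie.F
import Cfsg.Agent.OM.Lie.Cen
import Cfsg.Agent.OM.Cu.EngX

/-!
# OM / Lie: the assembly, second step (helper3)
-/

set_option autoImplicit false

namespace Cfsg.Agent.OM.Lie

open Cfsg Cfsg.Agent.DL Cfsg.Agent.HZ.L

variable {p : ℕ} [Fact p.Prime]

theorem boxInd_ul (ul : BoxUL) : BoxInd p :=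
  boxInd_of2 (fun D _ => boxKb_of ul (fun D _ => boxEl D) (fun D _ => boxLd D) D) (fun D _ => boxTr D) fun D _ => boxBl D

theorem boxQ_of4 (ul : BoxUL) (H : On.Bx p) (hX : Cu.BoxX) (po : AllD p fun D => BoxPole D) : AllD p fun D => BoxQ D :=
  boxQ_of3 (boxInd_ul ul) H (Cu.boxCusp_X Cu.boxD4 hX) (fun D _ => boxF D) po fun D _ => boxCen2 D

end Cfsg.Agent.OM.Lie
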