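import Cfsg.Agent.OM.Lie.Defs
import Cfsg.Agent.OM.On.Up

/-!
# OM / Lie: `Nc`, eigenvalues and determinants (pure; helper15)

* `eig_of` : without `Nc` there is an eigenvalue of an order `e` with `l ∣ Φ_e(q)`;  `dvd_dm` : the converse;
* `nc_iff` : `Nc` by the determinant on the complement of the centre;  `det_split`.
-/

set_option autoImplicit false
set_option linter.unusedSectionVars false

namespace Cfsg.Agent.OM.Lie.Vn

open Cfsg Matrix Polynomial Cfsg.Agent.HZ.L Cfsg.Agent.OM.On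

variable {R : Type} [Fintype R] [DecidableEq R] {Ψ : RS R} {A : Mat R} {μ : ℂ} {y : R → ℂ} {l n e : ℕ} {q : ℤ}

/-- the roots are stable -/
def Stb (Ψ : RS R) (A : Mat R) : Prop := ∀ b ∈ Ψ, ∃ a ∈ Ψ, b.1 ᵥ* A = a.1

theorem Stb.pow (h : Stb Ψ A) (k : ℕ) : Stb Ψ (A ^ k) := by
  induction k with
  | zero => exact fun b hb => ⟨b, hb, by rw [pow_zero, vecMul_one]⟩
  | succ k ih =>
    intro b hb
    obtain ⟨a, ha, e⟩ := ih b hb
    obtain ⟨a', ha', e'⟩ := h a ha
    exact ⟨a', ha', by rw [pow_succ, ← vecMul_vecMul, e, e']⟩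

theorem isE_pow (h : IsE A μ y) (k : ℕ) : IsE (A ^ k) (μ ^ k) y := by
  induction k with
  | zero => simp [IsE]
  | succ k ih =>
    rw [IsE, pow_succ, show (A ^ k * A).map (Int.cast : ℤ → ℂ) = (A ^ k).map Int.cast * A.map Int.cast from
      Matrix.map_mul (f := Int.castRingHom ℂ), ← mulVec_mulVec, h, mulVec_smul, ih, smul_smul, pow_succ']

theorem isE_aeval (h : IsE A μ y) (g : ℤ[X]) : IsE (aeval A g) (aeval μ g) y := by
  induction g using Polynomial.induction_on' with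
  | add g g' ih ih' =>
    rw [IsE, map_add, map_add, Matrix.map_add _ Int.cast_add, add_mulVec, ih, ih', add_smul]
  | monomial k c =>
    rw [IsE, aeval_monomial, aeval_monomial, ← Algebra.smul_def, map_smul_vec, isE_pow h k, smul_smul]
    rfl

theorem ev_isE (h : IsE A μ y) (a : Vec R) : ev (a ᵥ* A) y = μ * ev a y := by
  rw [← ev_mul, h, ev, dotProduct_smul, smul_eq_mul, ev]

theorem pow_eq_one (hA : A ^ n = 1) (h : IsE A μ y) {a : Vec R} (ha : ev a y ≠ 0) : μ ^ n = 1 := by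
  have := ev_isE (isE_pow h n) a
  rw [hA, vecMul_one] at this
  exact mul_right_cancel₀ ha (this.symm.trans (one_mul _).symm)

theorem isE_inv (hA : A ^ (n + 1) = 1) (h : IsE A μ y) {a : Vec R} (ha : ev a y ≠ 0) : IsE (A ^ n) μ⁻¹ y := by
  rw [← eq_inv_of_mul_eq_one_left ((pow_succ μ n).symm.trans (pow_eq_one hA h ha))]
  exact isE_pow h n

/-- **an eigenvalue** -/
theorem eig_of (hn : 0 < n) (hA : A ^ n = 1) (hS : Stb Ψ A) (hl : l.Prime) (h : ¬ Nc Ψ (q • A) l) :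
    ∃ e μ, e ∣ n ∧ IsPrimitiveRoot μ e ∧ Eig Ψ A μ ∧ (l : ℤ) ∣ (cyclotomic e ℤ).eval q := by
  classical
  by_contra hc
  push Not at hc
  obtain ⟨n, rfl⟩ := Nat.exists_eq_succ_of_ne_zero hn.ne'
  refine h fun z hz a ha => ?_
  have hp : Prime (l : ℤ) := Nat.prime_iff_prime_int.1 hl
  let g : ℤ[X] := ∏ e ∈ (n + 1).divisors with ¬ (l : ℤ) ∣ (cyclotomic e ℤ).eval q, cyclotomic e ℤ
  have h1 : ¬ (l : ℤ) ∣ g.eval q := fun k => by
    rw [eval_prod] at k
    obtain ⟨e, he, k⟩ := hp.exists_mem_finset_dvd k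
    exact (Finset.mem_filter.1 he).2 k
  have h2 : a.1 ᵥ* aeval (A ^ n) g = 0 := by
    by_contra k
    obtain ⟨ν, y, k1, -, k2⟩ := exists_isE (Ψ' := ∅) hn hA (fun _ h => h.elim) (fun _ h => h.elim)
      (fun e => k (dotProduct_self_eq_zero.1 e))
    have k3 := pow_eq_one hA k1 k2
    rw [ev_isE (isE_aeval (isE_inv hA k1 k2) g)] at k2
    have k4 := IsPrimitiveRoot.orderOf ν
    have k5 : orderOf ν ∣ n + 1 := orderOf_dvd_of_pow_eq_one k3
    refine left_ne_zero_of_mul k2 ?_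
    rw [map_prod]
    refine Finset.prod_eq_zero (i := orderOf ν) (Finset.mem_filter.2 ⟨Nat.mem_divisors.2 ⟨k5, hn.ne'⟩,
      hc _ ν k5 k4 ⟨y, k1, a, ha, right_ne_zero_of_mul k2⟩⟩) ?_
    rw [aeval_def, eval₂_eq_eval_map, map_cyclotomic]
    exact k4.inv.isRoot_cyclotomic (Nat.pos_of_dvd_of_pos k5 hn)
  have h3 : ∀ b ∈ Ψ, (l : ℤ) ∣ q * (b.1 ⬝ᵥ z) - (b.1 ᵥ* A ^ n) ⬝ᵥ z := fun b hb => by
    obtain ⟨c, hc, e⟩ := hS.pow n b hb
    have := hz c hc
    rwa [sub_mulVec, one_mulVec, dotProduct_sub, smul_mulVec, dotProduct_smul, dotProduct_mulVec, ← e, vecMul_vecMul,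
      ← pow_succ, hA, vecMul_one, smul_eq_mul] at this
  have h4 : ∀ k, (l : ℤ) ∣ q ^ k * (a.1 ⬝ᵥ z) - (a.1 ᵥ* (A ^ n) ^ k) ⬝ᵥ z := fun k => by
    induction k with
    | zero => simp
    | succ k ih =>
      obtain ⟨c, hc, e⟩ := (hS.pow n).pow k a ha
      rw [pow_succ (A ^ n), ← vecMul_vecMul, e]
      rw [e] at ih
      exact (dvd_add (ih.mul_left q) (h3 c hc)).trans (dvd_of_eq (by ring))
  have h5 : ∀ g : ℤ[X], (l : ℤ) ∣ g.eval q * (a.1 ⬝ᵥ z) - (a.1 ᵥ* aeval (A ^ n) g) ⬝ᵥ z := fun g => by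
    induction g using Polynomial.induction_on' with
    | add g g' ih ih' =>
      rw [eval_add, map_add, vecMul_add, add_dotProduct]
      exact (dvd_add ih ih').trans (dvd_of_eq (by ring))
    | monomial k c =>
      rw [eval_monomial, aeval_monomial, ← Algebra.smul_def, vecMul_smul, smul_dotProduct, smul_eq_mul]
      exact ((h4 k).mul_left c).trans (dvd_of_eq (by ring))
  have h6 := h5 g
  rw [h2, zero_dotProduct, sub_zero] at h6
  exact (hp.dvd_or_dvd h6).resolve_left h1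

/-! ### the determinant on the complement of the centre -/

/-- the vectors which vanish modulo `l` -/
def Dv (l : ℕ) (x : Vec R) : Prop := ∀ i, (l : ℤ) ∣ x i

theorem Dv.dot {x : Vec R} (h : Dv l x) (a : Vec R) : (l : ℤ) ∣ a ⬝ᵥ x := Finset.dvd_sum fun i _ => (h i).mul_left _

theorem Dv.mul {x : Vec R} (h : Dv l x) (A : Mat R) : Dv l (A *ᵥ x) := fun i => h.dot (A i)

theorem Dv.cancel {x : Vec R} {N : ℤ} (hl : l.Prime) (hN : ¬ (l : ℤ) ∣ N) (h : Dv l (N • x)) : Dv l x := fun i =>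
  ((Nat.prime_iff_prime_int.1 hl).dvd_or_dvd (h i)).resolve_left hN

theorem dvd_det_iff (hl : l.Prime) : (l : ℤ) ∣ A.det ↔ ∃ z, ¬ Dv l z ∧ Dv l (A *ᵥ z) := by
  have := Fact.mk hl
  refine ⟨fun h => ?_, fun ⟨z, h1, h2⟩ => by_contra fun h => h1 (Dv.cancel hl h ?_)⟩
  · have h1 : (A.map (Int.castRingHom (ZMod l))).det = 0 := by
      rw [← RingHom.mapMatrix_apply, ← RingHom.map_det, eq_intCast, ZMod.intCast_zmod_eq_zero_iff_dvd]
      exact h
    obtain ⟨s, h2, h3⟩ := exists_mulVec_eq_zero_iff.2 h1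
    choose z hz using fun i => ZMod.intCast_surjective (s i)
    refine ⟨z, fun k => h2 (funext fun i => by rw [← hz]; exact (ZMod.intCast_zmod_eq_zero_iff_dvd _ _).2 (k i)), fun i => ?_⟩
    rw [← ZMod.intCast_zmod_eq_zero_iff_dvd]
    refine Eq.trans ?_ (congrFun h3 i)
    simp [mulVec, dotProduct, hz]
  · have := h2.mul A.adjugate
    rwa [mulVec_mulVec, adjugate_mul, smul_mulVec, one_mulVec] at this

theorem dv_WW {x : Vec R} (h : ∀ a ∈ Ψ, (l : ℤ) ∣ a.1 ⬝ᵥ x) (hA : A ∈ WW Ψ) : Dv l (A *ᵥ x - x) := by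
  induction hA using Submonoid.closure_induction_left with
  | one => intro i; simp
  | mul_left _ hb A _ ih =>
    obtain ⟨b, hb, rfl⟩ := hb
    have h1 : (l : ℤ) ∣ b.1 ⬝ᵥ (A *ᵥ x) := by
      have := dvd_add (ih.dot b.1) (h b hb)
      rwa [dotProduct_sub, sub_add_cancel] at this
    intro i
    rw [← mulVec_mulVec, rfm, sub_mulVec, one_mulVec, vecMulVec_mulVec, sub_right_comm, Pi.sub_apply]
    exact dvd_sub (ih i) (h1.mul_left _)

/-- the matrix which is `N (A - 1)` on the complement of the centre -/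
def dm {K : Type} [CommRing K] (π : Matrix R R K) (N : ℤ) (A : Matrix R R K) : Matrix R R K :=
  (A - 1) * (N • (1 : Matrix R R K) - π) + π

theorem dm_map {K K' : Type} [CommRing K] [CommRing K'] (φ : K →+* K') (π : Matrix R R K) (N : ℤ) (A : Matrix R R K) :
    φ (dm π N A).det = (dm (π.map φ) N (A.map φ)).det := by
  rw [RingHom.map_det, dm, map_add, map_mul, map_sub, map_sub, map_zsmul, map_one]
  rfl

/-- **a non-central eigenvalue divides the determinant** -/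
theorem dvd_dm {π : Mat R} {N : ℤ} (hN : N ≠ 0) (h0 : π * π = N • π) (h2 : π * A = A * π) (h3 : ∀ a ∈ Ψ, a.1 ᵥ* π = 0)
    (hμ : IsPrimitiveRoot μ e) (he : 0 < e) (hE : Eig Ψ A μ) : (cyclotomic e ℤ).eval q ∣ (dm π N (q • A)).det := by
  obtain ⟨y, hy, a, ha, h4⟩ := hE
  have h5 : μ ≠ 0 := hμ.ne_zero he.ne'
  let φ : Mat R →+* Matrix R R ℂ := (Int.castRingHom ℂ).mapMatrix
  have h6 : aeval μ⁻¹ (dm (π.map C) N ((X : ℤ[X]) • A.map C)).det = 0 := by
    refine (dm_map (aeval μ⁻¹ : ℤ[X] →ₐ[ℤ] ℂ).toRingHom _ _ _).trans ?_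
    rw [show (π.map C).map (aeval μ⁻¹ : ℤ[X] →ₐ[ℤ] ℂ).toRingHom = φ π from by ext; simp [φ],
      show ((X : ℤ[X]) • A.map C).map (aeval μ⁻¹ : ℤ[X] →ₐ[ℤ] ℂ).toRingHom = μ⁻¹ • φ A from by ext; simp [φ],
      ← exists_mulVec_eq_zero_iff]
    refine ⟨φ (N • (1 : Mat R) - π) *ᵥ y, fun k => ?_, ?_⟩
    · have := ev_mul a.1 (N • (1 : Mat R) - π) y
      rw [show (N • (1 : Mat R) - π).map (Int.cast : ℤ → ℂ) *ᵥ y = 0 from k, vecMul_sub, h3 a ha, sub_zero,
        ← ev_mul, map_smul_vec, Matrix.map_one _ Int.cast_zero Int.cast_one, one_mulVec, ev, ev, dotProduct_zero,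
        dotProduct_smul] at this
      exact mul_ne_zero (Int.cast_ne_zero.2 hN) h4 this.symm
    · have e0 : φ π * φ π = N • φ π := by rw [← map_mul, h0, map_zsmul]
      have e2 : φ π * φ A = φ A * φ π := by rw [← map_mul, h2, map_mul]
      have e3 : dm (φ π) N (μ⁻¹ • φ A) * (N • (1 : Matrix R R ℂ) - φ π) =
          N • ((N • (1 : Matrix R R ℂ) - φ π) * (μ⁻¹ • φ A - 1)) := by
        simp only [dm, sub_mul, add_mul, mul_sub, mul_assoc, one_mul, mul_one, smul_mul_assoc, mul_smul_comm, e0, e2, smul_sub]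
        module
      have e4 : (μ⁻¹ • φ A - 1) *ᵥ y = 0 := by
        rw [sub_mulVec, smul_mulVec, show φ A *ᵥ y = μ • y from hy, smul_smul, inv_mul_cancel₀ h5, one_smul, one_mulVec, sub_self]
      rw [map_sub, map_zsmul, map_one, mulVec_mulVec, e3, smul_mulVec, ← mulVec_mulVec, e4, mulVec_zero, smul_zero]
  have h7 : cyclotomic e ℤ ∣ (dm (π.map C) N ((X : ℤ[X]) • A.map C)).det :=
    cyclotomic_eq_minpoly hμ.inv he ▸ minpoly.isIntegrallyClosed_dvd (hμ.inv.isIntegral he) h6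
  refine (eval_dvd (x := q) h7).trans (dvd_of_eq ((dm_map (evalRingHom q) _ _ _).trans ?_))
  congr 2 <;> ext <;> simp

theorem det_split {π M : Mat R} {N : ℤ} (h0 : π * π = N • π) (h1 : A * π = M * π) (h2 : π * A = A * π) :
    ((M - 1) * π + (N • (1 : Mat R) - π)).det * (dm π N A).det = (N * N) ^ Fintype.card R * (A - 1).det := by
  rw [← det_mul, ← det_smul]
  congr 1
  have h3 : π * (A * π) = N • (A * π) := by rw [← mul_assoc, h2, mul_assoc, h0, mul_smul_comm]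
  simp only [dm, sub_mul, ← h1, mul_add, add_mul, mul_sub, mul_assoc, one_mul, mul_one, smul_mul_assoc, mul_smul_comm, h0, h2, h3,
    smul_sub, ← smul_smul]
  module

theorem nc_iff {π : Mat R} {N : ℤ} (hl : l.Prime) (hN : ¬ (l : ℤ) ∣ N) (h0 : π * π = N • π) (h2 : π * A = A * π)
    (h3 : ∀ a ∈ Ψ, a.1 ᵥ* π = 0) (h4 : ∀ x, (∀ a ∈ Ψ, (l : ℤ) ∣ a.1 ⬝ᵥ x) → Dv l (N • x - π *ᵥ x)) :
    Nc Ψ A l ↔ ¬ (l : ℤ) ∣ (dm π N A).det := by
  have h5 : π * (A * π) = N • (A * π) := by rw [← mul_assoc, h2, mul_assoc, h0, mul_smul_comm]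
  rw [dvd_det_iff hl]
  refine ⟨fun h ⟨z, k1, k2⟩ => k1 ?_, fun h z hz a ha => by_contra fun k => h ⟨(N • (1 : Mat R) - π) *ᵥ z, fun k1 => k ?_, ?_⟩⟩
  · have e1 : π * dm π N A = N • π := by
      simp only [dm, sub_mul, mul_add, mul_sub, one_mul, mul_one, mul_smul_comm, h0, h2, h5]
      module
    have k3 : Dv l (π *ᵥ z) := Dv.cancel hl hN (by rw [← smul_mulVec, ← e1, ← mulVec_mulVec]; exact k2.mul π)
    have k4 : Dv l ((A - 1) *ᵥ z) := Dv.cancel hl hN (by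
      have e2 : N • (A - 1) = dm π N A + (A - 1 - 1) * π := by
        simp only [dm, sub_mul, mul_sub, one_mul, mul_one, mul_smul_comm, smul_sub]
        module
      rw [← smul_mulVec, e2, add_mulVec, ← mulVec_mulVec]
      exact fun i => dvd_add (k2 i) (k3.mul _ i))
    refine Dv.cancel hl hN fun i => ?_
    have := dvd_add (h4 z (h z fun a _ => k4.dot a.1) i) (k3 i)
    rwa [Pi.sub_apply, sub_add_cancel] at this
  · have := k1.dot a.1
    rw [dotProduct_mulVec, vecMul_sub, h3 a ha, sub_zero, vecMul_smul, vecMul_one, smul_dotProduct] at this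
    exact ((Nat.prime_iff_prime_int.1 hl).dvd_or_dvd this).resolve_left hN
  · have e3 : dm π N A * (N • (1 : Mat R) - π) = N • ((N • (1 : Mat R) - π) * (A - 1)) := by
      simp only [dm, sub_mul, add_mul, mul_sub, mul_assoc, one_mul, mul_one, smul_mul_assoc, mul_smul_comm, h0, h2, smul_sub]
      module
    rw [mulVec_mulVec, e3, smul_mulVec, ← mulVec_mulVec, sub_mulVec, smul_mulVec, one_mulVec]
    exact fun i => (h4 _ hz i).mul_left N

end Cfsg.Agent.OM.Lie.Vn
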